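import Mathlib
import Groth.Agent.Lib.Helper5.Descent.FlatBaseChangeGamma

/-!
# `O_T → (pr₂)_* O_{X ×_k T}` is an isomorphism when `Γ(X, O_X) = k`
-/

set_option autoImplicit false

universe u

open CategoryTheory CategoryTheory.Limits AlgebraicGeometry Opposite TopologicalSpace

namespace Groth.Agent.H5.SD

/-- An integral universally closed `k`-scheme with a rational point has `Γ(X, O_X) = k`. -/
theorem isIso_appTop_of_section {k : Type u} [Field k] {X : Scheme.{u}}
    (f : X ⟶ Spec (CommRingCat.of k)) [UniversallyClosed f] [IsIntegral X]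
    (σ : Spec (CommRingCat.of k) ⟶ X) (hσ : σ ≫ f = 𝟙 (Spec (CommRingCat.of k))) :
    IsIso f.appTop := by
  have hF : IsField Γ(X, ⊤) := isField_of_universallyClosed k f
  have hcomp : f.appTop ≫ σ.appTop = 𝟙 _ := by
    rw [← Scheme.Hom.comp_appTop, hσ, Scheme.Hom.id_appTop]
  letI := hF.toField
  have hinj : Function.Injective σ.appTop.hom := by
    haveI : Nontrivial Γ(Spec (CommRingCat.of k), ⊤) :=
      ((Scheme.ΓSpecIso (CommRingCat.of k)).commRingCatIsoToRingEquiv.symm.injective).nontrivial
    exact RingHom.injective _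
  have hsurj : Function.Surjective σ.appTop.hom := by
    intro y
    refine ⟨f.appTop.hom y, ?_⟩
    have := congrArg (fun φ => φ.hom y) hcomp
    simpa using this
  haveI : IsIso σ.appTop := by
    rw [ConcreteCategory.isIso_iff_bijective]
    exact ⟨hinj, hsurj⟩
  have : f.appTop = inv σ.appTop := by
    rw [← cancel_mono σ.appTop, hcomp, IsIso.inv_hom_id]
  rw [this]
  infer_instance

/-- The key affine case. -/
theorem isIso_appTop_snd_of_isPullback {k : Type u} [Field k] {X Y U : Scheme.{u}}
    (f : X ⟶ Spec (CommRingCat.of k)) [CompactSpace X] [QuasiSeparatedSpace X]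
    (hf : IsIso f.appTop) [IsAffine U] (t : U ⟶ Spec (CommRingCat.of k))
    (g : Y ⟶ X) (p : Y ⟶ U) (H : IsPullback g p f t) : IsIso p.appTop := by
  have hpo := Groth.Agent.H5.Descent.isPushout_appTop H
  haveI := hf
  exact hpo.isIso_inr_of_isIso

/-- `O_T → (pr₂)_* O_{X ×_k T}` is an isomorphism as soon as `k → Γ(X, O_X)` is. -/
theorem isIso_c_snd {k : Type u} [Field k] {X : Scheme.{u}}
    (f : X ⟶ Spec (CommRingCat.of k)) [CompactSpace X] [QuasiSeparatedSpace X]
    (hf : IsIso f.appTop) {T : Scheme.{u}} (t : T ⟶ Spec (CommRingCat.of k)) :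
    IsIso (pullback.snd f t).c := by
  set q := pullback.snd f t with hq
  -- affine opens
  have haff : ∀ U : T.affineOpens, IsIso (q.app U.1) := by
    intro U
    haveI : IsAffine (U.1 : Scheme) := U.2
    have H1 := isPullback_morphismRestrict q U.1
    have H2 : IsPullback (pullback.fst f t) q f t := IsPullback.of_hasPullback f t
    have H := H1.flip.paste_horiz H2
    have := isIso_appTop_snd_of_isPullback f hf (U.1.ι ≫ t) ((q ⁻¹ᵁ U.1).ι ≫ pullback.fst f t)
      (q ∣_ U.1) H
    rw [morphismRestrict_appTop] at this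
    have h2 : IsIso (q.app (U.1.ι ''ᵁ ⊤)) :=
      @IsIso.of_isIso_comp_right _ _ _ _ _ (q.app (U.1.ι ''ᵁ ⊤))
        ((pullback f t).presheaf.map
          (eqToHom (image_morphismRestrict_preimage q U.1 ⊤)).op) inferInstance this
    rwa [Scheme.Opens.ι_image_top] at h2
  let φ : T.sheaf ⟶ (TopCat.Sheaf.pushforward CommRingCat q.base).obj (pullback f t).sheaf :=
    ⟨q.c⟩
  have hbasis : Opens.IsBasis (Set.range (fun U : T.affineOpens => (U.1 : Opens T))) := by
    rw [Subtype.range_coe]
    exact T.isBasis_affineOpens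
  haveI : IsIso φ := TopCat.Sheaf.isIso_iff_isIso_basis (B := fun U : T.affineOpens => (U.1 : Opens T))
    hbasis (fun U => haff U)
  exact (inferInstance : IsIso ((TopCat.Sheaf.forget CommRingCat _).map φ))

end Groth.Agent.H5.SD
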