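import Mathlib
import Groth.Agent.Lib.Lead.FF.H0Const
import Groth.Agent.Lib.Lead.FBC.EulerBC
import Groth.Agent.Lib.Lead.QC.UnitIso
import Groth.Agent.Lib.Lead.QC.Extend
import Groth.Agent.Lib.Lead.Curve.Euler
import Groth.Agent.Lib.Helper5.Curve4.VB3
import Groth.Agent.Lib.Helper5.Gro.Pi1D
import Groth.Agent.Lib.Helper9.Misc.TOR4

/-!
# `h⁰(O) = 1` iff geometrically connected iff geometrically integral, for smooth proper schemes over
a field (S16754).
-/

set_option autoImplicit false
set_option linter.style.haveILetI false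
universe u
open CategoryTheory CategoryTheory.Limits AlgebraicGeometry TopologicalSpace Opposite

namespace Groth.Agent.H5.SD

open Groth.Agent.LD Groth.Agent.LD.QC

/-- a scheme over a field whose ring of global functions is one-dimensional is connected. -/
theorem connectedSpace_of_finrank_HH0_eq_one (k : Type u) [Field k] (X : Scheme.{u})
    [X.Over (Spec (CommRingCat.of k))]
    (h : Module.finrank k (Coh.HH X (Coh.structureModule X) 0) = 1) : ConnectedSpace X := by
  letI : Algebra k Γ(X, ⊤) := (Coh.toGlobal (X ↘ Spec (CommRingCat.of k))).toAlgebra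
  have h1 : Module.finrank k Γ(X, ⊤) = 1 := by
    rw [← h]; exact (FF.finrank_HH0_eq k X).symm
  haveI : Nontrivial Γ(X, ⊤) := Module.nontrivial_of_finrank_pos (R := k) (by omega)
  haveI : Nonempty X := by
    by_contra hne
    haveI : IsEmpty X := not_nonempty_iff.mp hne
    exact not_subsingleton Γ(X, ⊤) inferInstance
  have hspan : ∀ z : Γ(X, ⊤), ∃ c : k, z = algebraMap k Γ(X, ⊤) c := by
    intro z
    obtain ⟨c, hc⟩ := (finrank_eq_one_iff_of_nonzero' (1 : Γ(X, ⊤)) one_ne_zero).mp h1 z
    exact ⟨c, by rw [← hc, Algebra.algebraMap_eq_smul_one]⟩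
  haveI : PreconnectedSpace X := by
    rw [preconnectedSpace_iff_clopen]
    intro s hs
    let U : X.Opens := ⟨s, hs.isOpen⟩
    let V : X.Opens := ⟨sᶜ, hs.compl.isOpen⟩
    have hUV : U ⊓ V = ⊥ := by
      ext x
      simp [U, V]
    have hUVt : U ⊔ V = ⊤ := by
      ext x
      simp [U, V]
    haveI : Subsingleton Γ(unitMod X, U ⊓ V) := by
      rw [hUV]
      exact inferInstanceAs (Subsingleton Γ(X, ⊥))
    obtain ⟨z, hz1, hz2⟩ := glue2 (unitMod X) (S := U) (V := V) (1 : Γ(X, U)) (0 : Γ(X, V))
      (Subsingleton.elim _ _)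
    let z' : Γ(X, ⊤) := X.presheaf.map (homOfLE (le_of_eq hUVt.symm)).op z
    obtain ⟨c, hc⟩ := hspan z'
    have hzU : X.presheaf.map (homOfLE (le_top : U ≤ ⊤)).op z' = 1 := by
      change (unitMod X).presheaf.map (homOfLE (le_top : U ≤ ⊤)).op
        ((unitMod X).presheaf.map (homOfLE (le_of_eq hUVt.symm)).op z) = _
      rw [res_res]
      exact hz1
    have hzV : X.presheaf.map (homOfLE (le_top : V ≤ ⊤)).op z' = 0 := by
      change (unitMod X).presheaf.map (homOfLE (le_top : V ≤ ⊤)).op
        ((unitMod X).presheaf.map (homOfLE (le_of_eq hUVt.symm)).op z) = _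
      rw [res_res]
      exact hz2
    by_cases hc0 : c = 0
    · left
      rw [hc, hc0, map_zero, map_zero] at hzU
      have h2 : X.basicOpen (1 : Γ(X, U)) = X.basicOpen (0 : Γ(X, U)) := by rw [hzU]
      rw [Scheme.basicOpen_one, Scheme.basicOpen_zero] at h2
      have := congrArg (fun W : X.Opens => (W : Set X)) h2
      simpa [U] using this
    · right
      have hu : IsUnit z' := by
        rw [hc]
        exact (IsUnit.mk0 c hc0).map _
      have hu' := hu.map (X.presheaf.map (homOfLE (le_top : V ≤ ⊤)).op).hom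
      rw [show (X.presheaf.map (homOfLE (le_top : V ≤ ⊤)).op).hom z' = 0 from hzV] at hu'
      have h10 : (1 : Γ(X, V)) = 0 := by
        haveI : Subsingleton Γ(X, V) := subsingleton_of_zero_eq_one (isUnit_zero_iff.mp hu')
        exact Subsingleton.elim _ _
      have h2 : X.basicOpen (1 : Γ(X, V)) = X.basicOpen (0 : Γ(X, V)) := by rw [h10]
      rw [Scheme.basicOpen_one, Scheme.basicOpen_zero] at h2
      have := congrArg (fun W : X.Opens => (W : Set X)) h2
      have h3 : sᶜ = ∅ := by simpa [V] using this
      exact Set.compl_empty_iff.mp h3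
  exact ConnectedSpace.mk inferInstance

/-- `h⁰(O) = 1` implies geometrically connected, for proper schemes over a field. -/
theorem geometricallyConnected_of_finrank_HH0_eq_one (k : Type u) [Field k] (X : Scheme.{u})
    [X.Over (Spec (CommRingCat.of k))] [IsProper (X ↘ Spec (CommRingCat.of k))]
    (h : Module.finrank k (Coh.HH X (Coh.structureModule X) 0) = 1) :
    GeometricallyConnected (X ↘ Spec (CommRingCat.of k)) := by
  refine ⟨fun K _ y Z fst snd hpb => ?_⟩
  letI : Algebra k K := (Spec.preimage y).hom.toAlgebra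
  have hy : y = Spec.map (CommRingCat.ofHom (algebraMap k K)) := by
    rw [show CommRingCat.ofHom (algebraMap k K) = Spec.preimage y from rfl, Spec.map_preimage]
  letI : Z.Over (Spec (CommRingCat.of K)) := ⟨snd⟩
  haveI : IsProper (X ↘ Spec (CommRingCat.of k)) := inferInstance
  haveI : CompactSpace X := Curve.compactSpace k X
  haveI : QuasiSeparatedSpace X := Curve.quasiSeparatedSpace k X
  haveI : (unitMod X).IsQuasicoherent := qc_of_isInvertible _ (isInvertible_unit X)
  have hpb' : IsPullback fst (Z ↘ Spec (CommRingCat.of K)) (X ↘ Spec (CommRingCat.of k))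
      (Spec.map (CommRingCat.ofHom (algebraMap k K))) := by
    rw [← hy]; exact hpb
  have h1 := FBC.finrank_HH_bc k K X Z fst hpb' (unitMod X) 0
  have h2 := FBC.finrank_HH_congr K (pullbackUnitIso fst) 0
  have h3 : Module.finrank K (Coh.HH Z (Coh.structureModule Z) 0) = 1 := by
    rw [← h, ← h1]; exact h2.symm
  exact connectedSpace_of_finrank_HH0_eq_one K Z h3

/-- **S16754**. -/
theorem h0_eq_one_iff_geomConn_iff_geomIntegral (k : Type u) [Field k] (X : Scheme.{u})
    [X.Over (Spec (CommRingCat.of k))] [IsProper (X ↘ Spec (CommRingCat.of k))]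
    [Smooth (X ↘ Spec (CommRingCat.of k))] :
    (Module.finrank k (Coh.HH X (Coh.structureModule X) 0) = 1 ↔
        GeometricallyConnected (X ↘ Spec (CommRingCat.of k))) ∧
      (GeometricallyConnected (X ↘ Spec (CommRingCat.of k)) ↔
        GeometricallyIntegral (X ↘ Spec (CommRingCat.of k))) := by
  haveI : GeometricallyReduced (X ↘ Spec (CommRingCat.of k)) :=
    Groth.Agent.H5.Gro.geometricallyReduced_of_smooth k _
  refine ⟨⟨geometricallyConnected_of_finrank_HH0_eq_one k X, fun hc => ?_⟩, ⟨fun hc => ?_, fun hi => ?_⟩⟩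
  · haveI := hc
    exact FF.finrank_HH0_eq_one k X
  · haveI := hc
    refine ⟨fun K _ y Z fst snd hpb => ?_⟩
    haveI : Smooth snd := MorphismProperty.of_isPullback (P := @Smooth) hpb inferInstance
    haveI : GeometricallyConnected snd :=
      MorphismProperty.of_isPullback (P := @GeometricallyConnected) hpb inferInstance
    letI : Z.Over (Spec (CommRingCat.of K)) := ⟨snd⟩
    haveI : Smooth (Z ↘ Spec (CommRingCat.of K)) := ‹Smooth snd›
    haveI : GeometricallyConnected (Z ↘ Spec (CommRingCat.of K)) := ‹GeometricallyConnected snd›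
    exact Groth.Agent.H5.Curve4.isIntegral_of_smooth_geomConn K Z
  · haveI := hi
    exact Groth.Agent.H9.TOR.geometricallyConnected_of_geometricallyIrreducible _

end Groth.Agent.H5.SD
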