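import Mathlib
import Groth.Prelude.Def_KLin
import Groth.Agent.Lib.Lead.CohLES.DualLin
import Groth.Agent.Lib.Lead.CohLES.Basic
import Groth.Agent.Lib.Lead.FF.DeltaNat

/-!
# Abstract consequences of the dualizing property.
-/

set_option autoImplicit false
set_option linter.style.haveILetI false
universe u
open CategoryTheory CategoryTheory.Limits AlgebraicGeometry TopologicalSpace Opposite

namespace Groth.Agent.H5.SD

open Groth.Agent.LD Groth.Agent.LD.QC Groth.Agent.LD.CL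

variable (k : Type u) [Field k] (X : Scheme.{u}) [X.Over (Spec (CommRingCat.of k))]

/-- `(ω, t)` is dualizing in degree `r`. -/
def IsDualizing (r : ℕ) (ω : X.Modules) (t : Coh.HH X ω r →ₗ[k] k) : Prop :=
  ∀ F : X.Modules, Coh.IsCoh F → ∀ ψ : Coh.HH X F r →ₗ[k] k,
    ∃! φ : F ⟶ ω, ∀ x : Coh.HH X F r,
      ψ x = t (Sheaf.H.map ((SheafOfModules.toSheaf X.ringCatSheaf).map φ) r x)

variable {k X} {r : ℕ} {ω : X.Modules} {t : Coh.HH X ω r →ₗ[k] k}

/-- the duality map. -/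
noncomputable def dualMap (t : Coh.HH X ω r →ₗ[k] k) (F : X.Modules) :
    (F ⟶ ω) →ₗ[k] Module.Dual k (Coh.HH X F r) where
  toFun φ := t.comp (HHmap k φ r)
  map_add' φ φ' := by
    rw [HHmap_add, LinearMap.comp_add]
  map_smul' a φ := by
    rw [HHmap_smul, LinearMap.comp_smul]
    rfl

lemma dualMap_apply (F : X.Modules) (φ : F ⟶ ω) (x : Coh.HH X F r) :
    dualMap t F φ x = t (Sheaf.H.map ((SheafOfModules.toSheaf X.ringCatSheaf).map φ) r x) := by
  change t (HHmap k φ r x) = _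
  rw [HHmap_apply]

theorem IsDualizing.bijective (h : IsDualizing k X r ω t) (F : X.Modules) (hF : Coh.IsCoh F) :
    Function.Bijective (dualMap t F) := by
  constructor
  · intro φ φ' hφ
    obtain ⟨φ₀, -, huniq⟩ := h F hF (dualMap t F φ)
    have h1 : φ = φ₀ := huniq φ (fun x => dualMap_apply F φ x)
    have h2 : φ' = φ₀ := huniq φ' (fun x => by rw [hφ]; exact dualMap_apply F φ' x)
    rw [h1, h2]
  · intro ψ
    obtain ⟨φ, hφ, -⟩ := h F hF ψ
    refine ⟨φ, ?_⟩
    ext x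
    rw [dualMap_apply]
    exact (hφ x).symm

/-- the duality isomorphism `Hom(F, ω) ≃ H^r(F)^*`. -/
noncomputable def IsDualizing.equiv (h : IsDualizing k X r ω t) (F : X.Modules)
    (hF : Coh.IsCoh F) : (F ⟶ ω) ≃ₗ[k] Module.Dual k (Coh.HH X F r) :=
  LinearEquiv.ofBijective (dualMap t F) (h.bijective F hF)

theorem IsDualizing.exists_ne_zero (h : IsDualizing k X r ω t) (F : X.Modules) (hF : Coh.IsCoh F)
    (hnt : Nontrivial (Coh.HH X F r)) : ∃ φ : F ⟶ ω, φ ≠ 0 := by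
  obtain ⟨x, hx⟩ := exists_ne (0 : Coh.HH X F r)
  have h1 : ¬ ∀ ψ : Module.Dual k (Coh.HH X F r), ψ x = 0 := fun hall =>
    hx ((Module.forall_dual_apply_eq_zero_iff k x).mp hall)
  push Not at h1
  obtain ⟨ψ, hψ⟩ := h1
  obtain ⟨φ, hφ⟩ := (h.bijective F hF).2 ψ
  refine ⟨φ, ?_⟩
  rintro rfl
  apply hψ
  rw [← hφ, map_zero]
  rfl

theorem IsDualizing.eq_zero (h : IsDualizing k X r ω t) (T : X.Modules) (hT : Coh.IsCoh T)
    (hsub : Subsingleton (Coh.HH X T r)) (φ : T ⟶ ω) : φ = 0 := by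
  apply (h.bijective T hT).1
  ext x
  rw [Subsingleton.elim x 0, map_zero, map_zero]

end Groth.Agent.H5.SD
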