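import Mathlib
import Groth.Agent.Lib.Helper5.SD.DualA
import Groth.Agent.Lib.Lead.PF.ProjFinite
import Groth.Agent.Lib.Lead.QC.BiprodSec
import Groth.Agent.Lib.Lead.QC.FreeHom
import Groth.Agent.Lib.Lead.Curve.Euler
import Groth.Agent.Lib.Helper5.Curve2.C
import Groth.Prelude.Def_LinSer

/-!
# Sections of submodules of the dualizing module.
-/

set_option autoImplicit false
set_option linter.style.haveILetI false
universe u
open CategoryTheory CategoryTheory.Limits AlgebraicGeometry TopologicalSpace Opposite

namespace Groth.Agent.H5.SD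

open Groth.Agent.LD Groth.Agent.LD.QC Groth.Agent.LD.CL

variable (k : Type u) [Field k] {X : Scheme.{u}} [X.Over (Spec (CommRingCat.of k))]

/-- global sections as morphisms from the structure sheaf, linearly over the base field. -/
noncomputable def secEquiv (M : X.Modules) :
    letI := PF.moduleΓ k M
    (unitMod X ⟶ M) ≃ₗ[k] LinSer.Sect X M :=
  letI := PF.moduleΓ k M
  { toFun := fun φ => sectionOfHom φ
    map_add' := fun φ ψ => add_app' φ ψ ⊤ (1 : Γ(X, ⊤))
    map_smul' := fun a φ => by
      change (a • φ).app ⊤ (1 : Γ(X, ⊤)) = _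
      rw [KLin.smul_app_apply]
      have h1 : X.presheaf.map (homOfLE (le_top : (⊤ : X.Opens) ≤ ⊤)).op
          (Coh.toGlobal (X ↘ Spec (CommRingCat.of k)) a) =
          Coh.toGlobal (X ↘ Spec (CommRingCat.of k)) a := by
        have h0 : (homOfLE (le_top : (⊤ : X.Opens) ≤ ⊤)).op = 𝟙 (op ⊤) := rfl
        rw [h0, X.presheaf.map_id]
        rfl
      rw [h1]
      rfl
    invFun := fun s => homOfSection M s
    left_inv := fun φ => homOfSection_sectionOfHom φ
    right_inv := fun s => sectionOfHom_homOfSection M s }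

variable {k} {ω : X.Modules} {t : Coh.HH X ω 1 →ₗ[k] k}

/-- **submodules of the dualizing module have at most `g` sections.** -/
theorem IsDualizing.finrank_H0_le_of_mono [IsProper (X ↘ Spec (CommRingCat.of k))]
    (h : IsDualizing k X 1 ω t) (F : X.Modules) (j : F ⟶ ω) [Mono j] :
    Module.finrank k (Coh.HH X F 0) ≤ Curv2.genus k X := by
  have hOc : Coh.IsCoh (unitMod X) :=
    Groth.Agent.H5.Curve2.isCoh_of_isInvertible (isInvertible_unit X)
  haveI : Module.Finite k (Coh.HH X (unitMod X) 1) := Curve.finite_HH k X _ hOc 1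
  letI := PF.moduleΓ k F
  let e1 := PF.H0LinearEquivΓ k F
  let e2 := (secEquiv k F).symm
  let c : (unitMod X ⟶ F) →ₗ[k] (unitMod X ⟶ ω) :=
    { toFun := fun φ => φ ≫ j
      map_add' := fun φ ψ => Preadditive.add_comp _ _ _ _ _ _
      map_smul' := fun a φ => Linear.smul_comp _ _ _ _ _ _ }
  have hc : Function.Injective c := fun φ ψ hφ => (cancel_mono j).mp hφ
  let e3 := h.equiv (unitMod X) hOc
  let f : Coh.HH X F 0 →ₗ[k] Module.Dual k (Coh.HH X (unitMod X) 1) :=
    e3.toLinearMap.comp (c.comp (e2.toLinearMap.comp e1.toLinearMap))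
  have hf : Function.Injective f := by
    intro x y hxy
    apply e1.injective
    apply e2.injective
    apply hc
    exact e3.injective hxy
  have h1 := LinearMap.finrank_le_finrank_of_injective hf
  rw [Subspace.dual_finrank_eq] at h1
  exact h1

end Groth.Agent.H5.SD
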