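import Mathlib
import Groth.Agent.Lib.Helper5.SD.DualB
import Groth.Agent.Lib.Helper5.Snap.SnapAux
import Groth.Agent.Lib.Helper5.Curve4.Sat2
import Groth.Agent.Lib.Helper5.Curve2.A
import Groth.Agent.Lib.Lead.GS.Dim0
import Groth.Agent.Lib.Helper5.DegC.RankDeg

/-!
# Nonzero maps from rank one torsion free modules to the dualizing module are injective.
-/

set_option autoImplicit false
set_option linter.style.haveILetI false
universe u
open CategoryTheory CategoryTheory.Limits AlgebraicGeometry TopologicalSpace Opposite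

namespace Groth.Agent.H5.SD

open Groth.Agent.LD Groth.Agent.LD.QC Groth.Agent.LD.CL Groth.Agent.H5.Curve4
  Groth.Agent.H5.Curve2 Groth.Agent.H5.Glue Groth.Agent.H5.Snap Groth.Agent.H5.DegC

section general

variable {X : Scheme.{u}} [IsIntegral X]

/-- a submodule of an invertible module on an integral scheme which vanishes at the generic point
is zero. -/
theorem isZero_of_mono_of_isTors {I M : X.Modules} (hM : PicF.IsInvertible M) (ι : I ⟶ M)
    [Mono ι] (h : IsTors I) : IsZero I := by
  apply isZero_of_forall_sections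
  intro U s
  apply mono_app ι U
  rw [map_zero]
  apply sec_ext
  intro x hx
  rw [map_zero]
  obtain ⟨W, e, hxW, he⟩ := (isInvertible_iff_exists_isBasisOver M).mp hM x
  let V : X.Opens := U ⊓ W
  have hxV : x ∈ V := ⟨hx, hxW⟩
  have hVU : V ≤ U := inf_le_left
  have hVW : V ≤ W := inf_le_right
  have heV := he.mono hVW
  have hη : genericPoint X ∈ V :=
    ((genericPoint_spec X).mem_open_set_iff V.2).mpr ⟨x, trivial, hxV⟩
  obtain ⟨a, ha⟩ := heV.exists_coord (mres M hVU (ι.app U s))
  have h0 : I.presheaf.germ U (genericPoint X) (hVU hη) s = 0 := h.elim _ _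
  have h1 : M.presheaf.germ V (genericPoint X) hη (mres M hVU (ι.app U s)) = 0 := by
    rw [germ_mres, ← stalkMap_germ ι (genericPoint X) U (hVU hη) s, h0]
    exact map_zero _
  obtain ⟨V', hV', hηV', hres⟩ :=
    exists_res_eq_zero_of_germ_eq_zero M (genericPoint X) hη _ h1
  haveI : Nonempty V' := ⟨⟨_, hηV'⟩⟩
  have ha0 : a = 0 := by
    have hinj := map_injective_of_isIntegral X (homOfLE hV')
    apply hinj
    rw [map_zero]
    apply (heV.mono hV').coord_injective
    rw [zero_smul]
    have h2 := hres
    rw [ha] at h2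
    have h3 := mres_smul M hV' a (M.presheaf.map (homOfLE hVW).op e)
    exact h3.symm.trans h2
  rw [← germ_mres M hVU x hxV, ha, ha0, zero_smul, map_zero]

end general

section curve

variable {k : Type u} [Field k] {X : Scheme.{u}} [X.Over (Spec (CommRingCat.of k))]
  [IsProper (X ↘ Spec (CommRingCat.of k))] [IsIntegral X]
  {ω : X.Modules} {t : Coh.HH X ω 1 →ₗ[k] k}

/-- a coherent module with vanishing generic rank is torsion. -/
lemma isTors_of_gdim_eq_zero [IsLocallyNoetherian X] {T : X.Modules} (hT : Coh.IsCoh T)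
    (h : gdim T = 0) : IsTors T := by
  letI : Field (X.presheaf.stalk (genericPoint X)) := inferInstanceAs (Field X.functionField)
  haveI := hT.1
  haveI : Module.Finite (X.presheaf.stalk (genericPoint X))
      (T.presheaf.stalk (genericPoint X)) :=
    Groth.Agent.H1.CohLen.finite_stalk T hT.2 (genericPoint X)
  exact Module.finrank_zero_iff.mp h

/-- **a nonzero map from a coherent submodule of an invertible module to the dualizing module is
a monomorphism.** -/
theorem IsDualizing.mono_of_ne_zero (h : IsDualizing k X 1 ω t) (hω : Coh.IsCoh ω)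
    (hdim : topologicalKrullDim X ≤ 1) {F M : X.Modules} (hF : Coh.IsCoh F)
    (hM : PicF.IsInvertible M) (i : F ⟶ M) [Mono i] (φ : F ⟶ ω) (hφ : φ ≠ 0) : Mono φ := by
  haveI : IsNoetherian X := Curve2.isNoetherian_of_proper k X
  have hMc := Curve2.isCoh_of_isInvertible hM
  -- generic rank of `F`
  have hFle : gdim F ≤ 1 := by
    have hS : (ShortComplex.mk i (cokernel.π i) (cokernel.condition i)).ShortExact :=
      { exact := ShortComplex.exact_cokernel i }
    have h1 := gdim_add _ hS hF (isCoh_cokernel i hF hMc)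
    have h2 : gdim M = 1 := gdim_of_rank ((isInvertible_iff M).mp hM)
    change gdim M = gdim F + _ at h1
    omega
  -- kernel and image
  have hKc : Coh.IsCoh (kernel φ) := isCoh_kernel φ hF hω
  have hIc : Coh.IsCoh (Abelian.coimage φ) := isCoh_cokernel (kernel.ι φ) hKc hF
  have hS2 : (ShortComplex.mk (kernel.ι φ) (Abelian.coimage.π φ)
      (by simp)).ShortExact :=
    { exact := ShortComplex.exact_cokernel (kernel.ι φ) }
  have h3 := gdim_add _ hS2 hKc hIc
  change gdim F = gdim (kernel φ) + gdim (Abelian.coimage φ) at h3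
  by_cases hI0 : gdim (Abelian.coimage φ) = 0
  · exfalso
    have hIt : IsTors (Abelian.coimage φ) := isTors_of_gdim_eq_zero hIc hI0
    have hsupp := dim_support_le_zero_of_isTors hdim hIc hIt
    haveI := hIc.1
    have hH1 : Subsingleton (Coh.HH X (Abelian.coimage φ) 1) :=
      Groth.Agent.LD.GS.subsingleton_HH_of_support_dim _ hIc.2 hsupp 0
    have h4 := h.eq_zero _ hIc hH1 (Abelian.factorThruCoimage φ)
    apply hφ
    rw [← Abelian.coimage.fac φ, h4, comp_zero]
  · have hK0 : gdim (kernel φ) = 0 := by omega
    have hKt : IsTors (kernel φ) := isTors_of_gdim_eq_zero hKc hK0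
    have hKz : IsZero (kernel φ) := isZero_of_mono_of_isTors hM (kernel.ι φ ≫ i) hKt
    exact Preadditive.mono_of_kernel_zero (hKz.eq_of_src _ _)

end curve

end Groth.Agent.H5.SD
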