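import Mathlib
import Groth.Agent.Lib.Lead.XS.KilEdge
import Groth.Agent.Lib.Helper5.Glue.LS
import Groth.Agent.Lib.Helper5.Curve2.A

/-!
# Modules killed by an ideal sheaf: quotients and homology.
-/

set_option autoImplicit false
set_option linter.style.haveILetI false
universe u
open CategoryTheory CategoryTheory.Limits AlgebraicGeometry TopologicalSpace Opposite

namespace Groth.Agent.H5.SD

open Groth.Agent.LD Groth.Agent.LD.QC Groth.Agent.H5.Glue Groth.Agent.H5.Curve2
open Groth.Agent.LD.XS.KE

variable {X : Scheme.{u}}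

/-- quotients of modules killed by `J` are killed by `J`. -/
lemma kil_of_epi (J : X.IdealSheafData) {G G' : X.Modules} (π : G ⟶ G') [Epi π]
    (hG : Kil J G) : Kil J G' := by
  intro U a ha s
  apply sec_ext
  intro x hx
  obtain ⟨W, hW, hxW, g, hg⟩ := locSurjAt_of_epi π x U.1 s hx
  obtain ⟨W', hW'aff, hxW', hW'W0⟩ := exists_isAffineOpen_mem_and_subset (x := x) (U := W) hxW
  have hW'W : W' ≤ W := hW'W0
  have hW'U : W' ≤ U.1 := hW'W.trans hW
  let W'a : X.affineOpens := ⟨W', hW'aff⟩
  have ha' : (X.presheaf.map (homOfLE hW'U).op).hom a ∈ J.ideal W'a :=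
    J.ideal_le_comap_ideal (U := W'a) (V := U) hW'U ha
  have h1 : mres G' hW'U (a • s) = 0 := by
    rw [mres_smul]
    have h2 : mres G' hW'U s = π.app W' (mres G hW'W g) := by
      rw [← mres_mres G' hW hW'W s]
      change _ = π.app W' (G.presheaf.map (homOfLE hW'W).op g)
      rw [app_res π hW'W g, hg]
    rw [h2, ← Scheme.Modules.Hom.app_smul]
    have h3 := hG W'a _ ha' (mres G hW'W g)
    change π.app W' (res hW'U a • mres G hW'W g) = 0
    change (X.presheaf.map (homOfLE hW'U).op).hom a • mres G hW'W g = 0 at h3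
    rw [show res hW'U a = (X.presheaf.map (homOfLE hW'U).op).hom a from rfl, h3]
    exact (appLinear π W').map_zero
  rw [← germ_mres G' hW'U x hxW' (a • s), h1, map_zero, map_zero]

attribute [-instance] Groth.Agent.LD.QC.stalkModule
attribute [local instance] Groth.Agent.LD.MS.hasSheafHom

/-- **the local Ext sheaves of a module killed by `J` are killed by `J`.** -/
theorem kil_extSh [HasInjectiveResolutions (ModSite.Mod X.sheaf)] (J : X.IdealSheafData)
    (A : X.Modules) [A.IsQuasicoherent] (hA : Kil J A) (Z : X.Modules) (q : ℕ) :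
    Kil J ((ModSite.extSh (O := X.sheaf) A q).obj Z) := by
  let I : InjectiveResolution (show ModSite.Mod X.sheaf from Z) := injectiveResolution _
  let F : ModSite.Mod X.sheaf ⥤ ModSite.Mod X.sheaf := ModSite.sheafHom (O := X.sheaf) A
  let K := (F.mapHomologicalComplex _).obj I.cocomplex
  have e : (F.rightDerived q).obj Z ≅ K.homology q := I.isoRightDerivedObj F q
  have hX : ∀ n, Kil J (K.X n) := fun n => by
    have m0 : IsIso (hI A (I.cocomplex.X n)) := inferInstance
    have m1 : Mono (hI A (I.cocomplex.X n)) := inferInstance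
    exact @kil_of_mono X J _ _ (hI A (I.cocomplex.X n)) m1 (kil_homSh J A _ hA)
  have hcyc : Kil J (K.cycles q) := by
    have m1 : Mono (K.iCycles q) := inferInstance
    exact @kil_of_mono X J (K.cycles q) (K.X q) (K.iCycles q) m1 (hX q)
  have hhom : Kil J (K.homology q) := by
    have m1 : Epi (K.homologyπ q) := inferInstance
    exact @kil_of_epi X J (K.cycles q) (K.homology q) (K.homologyπ q) m1 hcyc
  have m2 : Mono e.hom := inferInstance
  exact @kil_of_mono X J _ _ e.hom m2 hhom

end Groth.Agent.H5.SD
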