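import Mathlib
import Groth.Agent.Lib.Helper5.SD.Kil
import Groth.Agent.Lib.Lead.XS.Dualizing
import Groth.Agent.Lib.Lead.XS.GenZero

/-!
# Existence of a coherent dualizing module on a closed subscheme of projective space.
-/

set_option autoImplicit false
set_option linter.style.haveILetI false
universe u
open CategoryTheory CategoryTheory.Limits AlgebraicGeometry TopologicalSpace Opposite

namespace Groth.Agent.H5.SD

open Twist Groth.Agent.LD.QC Groth.Agent.LD Groth.Agent.LD.PN Groth.Agent.LD.TW
  Groth.Agent.LD.PD.HA Groth.Agent.LD.XS Groth.Agent.LD.XS.KE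

attribute [-instance] Groth.Agent.LD.QC.stalkModule
attribute [local instance] Groth.Agent.LD.MS.hasSheafHom

variable (n : ℕ) (k : Type u) [Field k] {X : Scheme.{u}}
  (ι : X ⟶ Proj (CohB1.polyGrading n k)) [IsClosedImmersion ι]
variable [X.Over (Spec (CommRingCat.of k))]

/-- **existence of a coherent dualizing module** on a closed subscheme of dimension `≤ r` of
`P^n_k`. -/
theorem exists_dualizing_module
    (hι : ι ≫ CohB1.ProjSpace.toSpec n k = X ↘ Spec (CommRingCat.of k))
    (r : ℕ) (hr : r ≤ n) (hdim : topologicalKrullDim X ≤ (r : WithBot ℕ∞)) :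
    ∃ ω : X.Modules, Coh.IsCoh ω ∧
      ∃ t : Coh.HH X ω r →ₗ[k] k, ∀ F : X.Modules, Coh.IsCoh F → ∀ ψ : Coh.HH X F r →ₗ[k] k,
        ∃! φ : F ⟶ ω, ∀ x : Coh.HH X F r,
          ψ x = t (Sheaf.H.map ((SheafOfModules.toSheaf X.ringCatSheaf).map φ) r x) := by
  haveI := Groth.Agent.H1.sheafOfModules_isGrothendieckAbelian
    (Opens.grothendieckTopology (Proj (CohB1.polyGrading n k)))
    (Proj (CohB1.polyGrading n k)).ringCatSheaf
  haveI : EnoughInjectives (Proj (CohB1.polyGrading n k)).Modules :=
    inferInstanceAs (EnoughInjectives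
      (SheafOfModules.{u} (Proj (CohB1.polyGrading n k)).ringCatSheaf))
  haveI : HasInjectiveResolutions (ModSite.Mod (Proj (CohB1.polyGrading n k)).sheaf) :=
    inferInstanceAs (HasInjectiveResolutions
      (SheafOfModules.{u} (Proj (CohB1.polyGrading n k)).ringCatSheaf))
  haveI : IsLocallyNoetherian (Proj (CohB1.polyGrading n k)) := by
    haveI : IsNoetherianRing k := inferInstance
    exact inferInstance
  have hOc : Coh.IsCoh (unitMod X) := Groth.Agent.H5.Curve2.isCoh_of_isInvertible (isInvertible_unit X)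
  haveI : (unitMod X).IsQuasicoherent := hOc.1
  let A : (Proj (CohB1.polyGrading n k)).Modules := (Scheme.Modules.pushforward ι).obj (unitMod X)
  have hAc : Coh.IsCoh A := isCoh_push n k ι (unitMod X) hOc
  haveI : A.IsQuasicoherent := hAc.1
  have hA : Kil ι.ker A := kil_push ι (unitMod X)
  have homc : Coh.IsCoh (om n k) :=
    Groth.Agent.H5.Curve2.isCoh_of_isInvertible (isInvertible_twist n k _)
  let E := (ModSite.extSh (O := (Proj (CohB1.polyGrading n k)).sheaf) A (n - r)).obj (om n k)
  have hEk : Kil ι.ker E := kil_extSh ι.ker A hA (om n k) (n - r)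
  have hEc : Coh.IsCoh E := isCoh_extSh (hasRes_PN n k) (n - r) A hAc (om n k) homc
  haveI : E.IsQuasicoherent := hEc.1
  haveI : IsIso ((Scheme.Modules.pullbackPushforwardAdjunction ι).unit.app E) :=
    (isIso_unit_closedImmersion_iff ι E).mpr hEk
  let ω : X.Modules := (Scheme.Modules.pullback ι).obj E
  let e : (Scheme.Modules.pushforward ι).obj ω ≅ E :=
    (asIso ((Scheme.Modules.pullbackPushforwardAdjunction ι).unit.app E)).symm
  have hωc : Coh.IsCoh ω := GZ.isCoh_of_isCoh_push ι ω (isCoh_of_iso e.symm hEc)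
  obtain ⟨t, ht⟩ := DZ.exists_dualizing' n k ι hι r hr hdim ω ⟨e⟩
  exact ⟨ω, hωc, t, ht⟩

end Groth.Agent.H5.SD
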