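import Mathlib
import Groth.Agent.Lib.Helper5.SD.Omega
import Groth.Agent.Lib.Helper5.SD.MonoCrit
import Groth.Agent.Lib.Helper5.Curve5.Main
import Groth.Agent.Lib.Helper5.Curve2.E

/-!
# The dualizing module of an integral proper curve.
-/

set_option autoImplicit false
set_option linter.style.haveILetI false
universe u
open CategoryTheory CategoryTheory.Limits AlgebraicGeometry TopologicalSpace Opposite

namespace Groth.Agent.H5.SD

open Groth.Agent.LD Groth.Agent.LD.QC

variable (k : Type u) [Field k] (X : Scheme.{u}) [X.Over (Spec (CommRingCat.of k))]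
  [IsProper (X ↘ Spec (CommRingCat.of k))] [IsIntegral X]

/-- **an integral proper curve has a coherent dualizing module.** -/
theorem exists_dualizing_curve (hdim : topologicalKrullDim X = 1) :
    ∃ (ω : X.Modules) (t : Coh.HH X ω 1 →ₗ[k] k), Coh.IsCoh ω ∧ IsDualizing k X 1 ω t := by
  rcases Groth.Agent.H5.Curve5.affine_or_projective k X hdim with haff | ⟨d, c, hc, hcs⟩
  · exact absurd haff (Groth.Agent.H5.Curve2.not_isAffine_of_dim_one k X hdim)
  · let c' : X ⟶ Proj (CohB1.polyGrading d k) := c
    haveI : IsClosedImmersion c' := hc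
    -- we need `1 ≤ d`
    have hd : 1 ≤ d := by
      by_contra hcon
      have hd0 : d = 0 := by omega
      subst hd0
      have h1 : topologicalKrullDim X ≤ topologicalKrullDim (CohB1.ProjSpace 0 k) :=
        IsClosedImmersion.isClosedEmbedding c |>.topologicalKrullDim_le
      rw [hdim, Groth.Agent.H5.IntN.dim_projSpace k 0] at h1
      exact absurd h1 (by decide)
    obtain ⟨ω, hω, t, ht⟩ := exists_dualizing_module d k c' hcs 1 hd (by rw [hdim]; rfl)
    exact ⟨ω, t, hω, ht⟩

end Groth.Agent.H5.SD
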