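import Mathlib
import Groth.Agent.Lib.Helper5.SD.CurveOmega
import Groth.Agent.Lib.Helper5.DegC.Cartier
import Groth.Agent.Lib.Helper5.Curve2.B
import Groth.Agent.Lib.Lead.QC.QuotSupp
import Groth.Agent.Lib.Lead.QC.TensorExact
import Groth.Agent.Lib.Lead.QC.TensorComm
import Groth.Agent.Lib.Lead.Curve.Torsion

/-!
# Twisted ideal sheaves of finite subschemes of an integral proper curve: S1531, S1532.
-/

set_option autoImplicit false
set_option linter.style.haveILetI false
universe u
open CategoryTheory CategoryTheory.Limits AlgebraicGeometry TopologicalSpace Opposite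

namespace Groth.Agent.H5.SD

open Groth.Agent.LD Groth.Agent.LD.QC Groth.Agent.H5.DegC

variable (k : Type u) [Field k] (X : Scheme.{u}) [X.Over (Spec (CommRingCat.of k))]
  [IsProper (X ↘ Spec (CommRingCat.of k))] [IsIntegral X]

/-- the twisted ideal sheaf is coherent, embeds into `L`, and has Euler characteristic
`χ(L) - deg Z`. -/
theorem idealTwist_facts (L : X.Modules)
    (hL : PicF.IsInvertible L) (Z : X.IdealSheafData)
    (hZ : topologicalKrullDim (Z.support : Set X) ≤ 0) :
    Coh.IsCoh (CohB1.tensorMod (ClSub.idealMod Z) L) ∧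
    (∃ i : CohB1.tensorMod (ClSub.idealMod Z) L ⟶ L, Mono i) ∧
    Curv2.euler k X (CohB1.tensorMod (ClSub.idealMod Z) L) =
      Curv2.euler k X L - Module.finrank k (Coh.HH X (ClSub.quotMod Z) 0) := by
  haveI : IsNoetherian X := Groth.Agent.H5.Curve2.isNoetherian_of_proper k X
  haveI : L.IsQuasicoherent := qc_of_isInvertible _ hL
  have hOc : Coh.IsCoh (unitMod X) :=
    Groth.Agent.H5.Curve2.isCoh_of_isInvertible (isInvertible_unit X)
  have hQc : Coh.IsCoh (ClSub.quotMod Z) := isCoh_quotMod Z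
  have hS := shortExact_idealMod Z
  have hIc : Coh.IsCoh (ClSub.idealMod Z) := by
    haveI := hS.mono_f
    exact isCoh_of_mono (ClSub.idealModι Z) inferInstance hOc
  have c1 := Groth.Agent.H5.Curve2.isCoh_tensor_of_isInvertible hIc hL
  have c2 := Groth.Agent.H5.Curve2.isCoh_tensor_of_isInvertible hOc hL
  have c3 := Groth.Agent.H5.Curve2.isCoh_tensor_of_isInvertible hQc hL
  have hS' := shortExact_tensorMap_of_isInvertible hS L hL
  refine ⟨c1, ?_, ?_⟩
  · haveI := hS'.mono_f
    exact ⟨KoszTw.tensorMap (ClSub.idealModι Z) (𝟙 L) ≫ (unitorL L).hom, mono_comp _ _⟩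
  · have h2 := Curve.euler_add k X _ hS' c1 c2 c3
    change Curv2.euler k X (CohB1.tensorMod (unitMod X) L) =
      Curv2.euler k X (CohB1.tensorMod (ClSub.idealMod Z) L) +
        Curv2.euler k X (CohB1.tensorMod (ClSub.quotMod Z) L) at h2
    have h3 : Curv2.euler k X (CohB1.tensorMod (unitMod X) L) = Curv2.euler k X L :=
      Curve.euler_iso k X (unitorL L)
    haveI := hQc.1
    have hpt : ∀ x : X, ¬ Subsingleton ((ClSub.quotMod Z).presheaf.stalk x) →
        IsClosed ({x} : Set X) := fun x hx =>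
      Groth.Agent.LD.GS.isClosed_point_of_support_dim _ hQc.2
        (by rw [support_quotMod]; exact hZ) x hx
    have h4 := Groth.Agent.H5.Curve2.euler_tensor_of_support_closed_points k X _ hQc hpt L hL
    have h5 := Curve.euler_of_support_closed_points k X _ hQc hpt
    linarith

/-- **a coherent submodule of an invertible module with `H¹ ≠ 0` has `χ ≤ g - 1`.** -/
theorem euler_le_of_H1_nontrivial (hdim : topologicalKrullDim X = 1) {F M : X.Modules}
    (hF : Coh.IsCoh F) (hM : PicF.IsInvertible M) (i : F ⟶ M) [Mono i]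
    (h1 : Nontrivial (Coh.HH X F 1)) :
    Curv2.euler k X F ≤ (Curv2.genus k X : ℤ) - 1 := by
  obtain ⟨ω, t, hω, hd⟩ := exists_dualizing_curve k X hdim
  obtain ⟨φ, hφ⟩ := hd.exists_ne_zero F hF h1
  haveI : Mono φ := hd.mono_of_ne_zero hω hdim.le hF hM i φ hφ
  have hle := hd.finrank_H0_le_of_mono F φ
  haveI := hF.1
  haveI := Curve.finite_HH k X _ hF 1
  have hpos : 0 < Module.finrank k (Coh.HH X F 1) := Module.finrank_pos
  rw [Curve.euler_eq_sub k X hdim.le F]
  have h2 : (Module.finrank k (Coh.HH X F 0) : ℤ) ≤ (Curv2.genus k X : ℤ) := by exact_mod_cast hle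
  have h3 : (1 : ℤ) ≤ (Module.finrank k (Coh.HH X F 1) : ℤ) := by exact_mod_cast hpos
  linarith

/-- **S1531**. -/
theorem deg_le_of_H1_nontrivial (hdim : topologicalKrullDim X = 1)
    (h0 : Module.finrank k (Coh.HH X (Coh.structureModule X) 0) = 1)
    (L : X.Modules) (hL : PicF.IsInvertible L) (Z : X.IdealSheafData)
    (hZ : topologicalKrullDim (Z.support : Set X) ≤ 0)
    (h1 : Nontrivial (Coh.HH X (CohB1.tensorMod (ClSub.idealMod Z) L) 1)) :
    Curv2.deg k X L 1 ≤ 2 * (Curv2.genus k X : ℤ) - 2 +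
      Module.finrank k (Coh.HH X (ClSub.quotMod Z) 0) := by
  obtain ⟨hc, ⟨i, hi⟩, he⟩ := idealTwist_facts k X L hL Z hZ
  haveI := hi
  have h2 := euler_le_of_H1_nontrivial k X hdim hc hL i h1
  haveI : (unitMod X).IsQuasicoherent := qc_of_isInvertible _ (isInvertible_unit X)
  have h3 := Curve.euler_eq_sub k X hdim.le (unitMod X)
  have hO : Module.finrank k (Coh.HH X (unitMod X) 0) = 1 := h0
  have hg : Module.finrank k (Coh.HH X (unitMod X) 1) = Curv2.genus k X := rfl
  rw [hO, hg] at h3
  have h4 : Curv2.deg k X L 1 = Curv2.euler k X L - Curv2.euler k X (unitMod X) := by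
    unfold Curv2.deg
    push_cast
    ring_nf
  rw [h4, h3]
  push_cast
  linarith

/-- **S1532**. -/
theorem H1_subsingleton_of_deg_gt (hdim : topologicalKrullDim X = 1)
    (h0 : Module.finrank k (Coh.HH X (Coh.structureModule X) 0) = 1)
    (L : X.Modules) (hL : PicF.IsInvertible L) (Z : X.IdealSheafData)
    (hZ : topologicalKrullDim (Z.support : Set X) ≤ 0)
    (hdeg : 2 * (Curv2.genus k X : ℤ) - 2 + Module.finrank k (Coh.HH X (ClSub.quotMod Z) 0) <
      Curv2.deg k X L 1) :
    Subsingleton (Coh.HH X (CohB1.tensorMod (ClSub.idealMod Z) L) 1) ∧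
      (Subsingleton (Coh.HH X (CohB1.tensorMod (ClSub.idealMod Z) L) 0) →
        Curv2.genus k X = 0 ∧ Curv2.deg k X L 1 =
          Module.finrank k (Coh.HH X (ClSub.quotMod Z) 0) - 1) := by
  have hsub : Subsingleton (Coh.HH X (CohB1.tensorMod (ClSub.idealMod Z) L) 1) := by
    by_contra hcon
    rw [not_subsingleton_iff_nontrivial] at hcon
    have := deg_le_of_H1_nontrivial k X hdim h0 L hL Z hZ hcon
    linarith
  refine ⟨hsub, fun hsub0 => ?_⟩
  obtain ⟨hc, -, he⟩ := idealTwist_facts k X L hL Z hZ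
  haveI := hc.1
  have h2 := Curve.euler_eq_sub k X hdim.le (CohB1.tensorMod (ClSub.idealMod Z) L)
  have z0 : Module.finrank k (Coh.HH X (CohB1.tensorMod (ClSub.idealMod Z) L) 0) = 0 :=
    Module.finrank_zero_of_subsingleton
  have z1 : Module.finrank k (Coh.HH X (CohB1.tensorMod (ClSub.idealMod Z) L) 1) = 0 :=
    Module.finrank_zero_of_subsingleton
  rw [z0, z1] at h2
  haveI : (unitMod X).IsQuasicoherent := qc_of_isInvertible _ (isInvertible_unit X)
  have h3 := Curve.euler_eq_sub k X hdim.le (unitMod X)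
  have hO : Module.finrank k (Coh.HH X (unitMod X) 0) = 1 := h0
  have hg : Module.finrank k (Coh.HH X (unitMod X) 1) = Curv2.genus k X := rfl
  rw [hO, hg] at h3
  have h4 : Curv2.deg k X L 1 = Curv2.euler k X L - Curv2.euler k X (unitMod X) := by
    unfold Curv2.deg
    push_cast
    ring_nf
  rw [h4, h3] at hdeg ⊢
  push_cast at h2 hdeg ⊢
  have hg0 : (Curv2.genus k X : ℤ) = 0 := by
    have : (Curv2.genus k X : ℤ) < 1 := by linarith
    have h5 : (0 : ℤ) ≤ (Curv2.genus k X : ℤ) := Int.natCast_nonneg _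
    omega
  refine ⟨by exact_mod_cast hg0, ?_⟩
  rw [hg0]
  linarith

end Groth.Agent.H5.SD
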