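import Mathlib
import Groth.Agent.Lib.Helper5.SD.IdealTw
import Groth.Agent.Lib.Lead.QC.AmpleCrit
import Groth.Agent.Lib.Lead.QC.AmpleGG
import Groth.Agent.Lib.Helper5.Curve1.D

/-!
# Global generation of invertible modules of degree `≥ 2g` on an integral proper curve (S1533).
-/

set_option autoImplicit false
set_option linter.style.haveILetI false
universe u
open CategoryTheory CategoryTheory.Limits AlgebraicGeometry TopologicalSpace Opposite

namespace Groth.Agent.H5.SD

open Groth.Agent.LD Groth.Agent.LD.QC Groth.Agent.H5.DegC Groth.Agent.LD.CL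

section General

variable {X : Scheme.{u}}

/-- membership in the vanishing ideal of a closed set, over an affine open. -/
lemma mem_vanishingIdeal_ideal_of_forall (Z : Closeds X) (V : X.affineOpens) (f : Γ(X, V.1))
    (h : ∀ y : X, y ∈ V.1 → y ∈ Z → y ∉ X.basicOpen f) :
    f ∈ (Scheme.IdealSheafData.vanishingIdeal Z).ideal V := by
  rw [Scheme.IdealSheafData.vanishingIdeal_ideal, PrimeSpectrum.mem_vanishingIdeal]
  intro p hp
  have h2 : V.2.fromSpec p ∈ (V.1 : Set X) := by
    rw [← V.2.range_fromSpec]; exact ⟨p, rfl⟩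
  have h3 := h _ h2 hp
  by_contra hfp
  apply h3
  have h4 : p ∈ PrimeSpectrum.basicOpen f := hfp
  rw [← V.2.fromSpec_preimage_basicOpen] at h4
  exact h4

/-- a section of `L` which does not generate at the closed point `x` lies in `I_x ⊗ L`. -/
theorem exists_lift_of_notMem_genLocus (L : X.Modules) [L.IsQuasicoherent]
    (hL : PicF.IsInvertible L) (x : X) (hx : IsClosed ({x} : Set X)) (σ : unitMod X ⟶ L)
    (hσ : x ∉ CohB1.genLocus L σ) :
    ∃ τ : unitMod X ⟶ CohB1.tensorMod
        (ClSub.idealMod (Scheme.IdealSheafData.vanishingIdeal ⟨{x}, hx⟩)) L,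
      τ ≫ twistIncl (ClSub.idealModι (Scheme.IdealSheafData.vanishingIdeal ⟨{x}, hx⟩)) L = σ := by
  classical
  let Z : Closeds X := ⟨{x}, hx⟩
  let J := Scheme.IdealSheafData.vanishingIdeal Z
  let ι := ClSub.idealModι J
  let μ := twistIncl ι L
  haveI : Mono μ := mono_twistIncl ι L hL
  let π := cokernel.π μ
  have hπμ : ∀ (V : X.Opens) (t : Γ(CohB1.tensorMod (ClSub.idealMod J) L, V)),
      π.app V (μ.app V t) = 0 := by
    intro V t
    have : (μ ≫ π).app V t = 0 := by rw [cokernel.condition]; rfl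
    exact this
  let s₀ : Γ(L, ⊤) := sectionOfHom σ
  have hval : ∀ U : X.Opens, SecTwist.val σ U = L.presheaf.map (homOfLE (le_top : U ≤ ⊤)).op s₀ := by
    intro U
    have := val_homOfSection L s₀ U
    rw [homOfSection_sectionOfHom] at this
    exact this
  have hloc : ∀ y : X, ∃ W : X.Opens, y ∈ W ∧
      π.app W (L.presheaf.map (homOfLE (le_top : W ≤ ⊤)).op s₀) = 0 := by
    intro y
    by_cases hy : y = x
    · obtain ⟨U₀, e₀, hxU₀, he₀⟩ := (isInvertible_iff_exists_isBasisOver L).mp hL x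
      obtain ⟨U, hU, hxU, hUU₀⟩ := exists_isAffineOpen_mem_and_subset (x := x) (U := U₀) hxU₀
      have hUU₀' : U ≤ U₀ := hUU₀
      have he := he₀.mono hUU₀'
      obtain ⟨f, hf⟩ := he.exists_coord (SecTwist.val σ U)
      have hG := genLocus_inf_eq_basicOpen σ he f hf
      have hxf : x ∉ X.basicOpen f := by
        rw [← hG]
        intro h
        exact hσ h.1
      have hmem : f ∈ J.ideal ⟨U, hU⟩ := by
        apply mem_vanishingIdeal_ideal_of_forall Z ⟨U, hU⟩ f
        intro z _ hzZ
        have hzx : z = x := hzZ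
        rw [hzx]
        exact hxf
      obtain ⟨c, hc⟩ := (exists_idealModι_app_eq_iff J ⟨U, hU⟩ f).mpr hmem
      refine ⟨U, hy ▸ hxU, ?_⟩
      rw [← hval U, hf]
      have h2 : μ.app U (SecTwist.tmul (ClSub.idealMod J) L U c
          (L.presheaf.map (homOfLE hUU₀').op e₀)) = f • L.presheaf.map (homOfLE hUU₀').op e₀ := by
        rw [twistIncl_app_tmul]
        have hc' : (show Γ(X, U) from ι.app U c) = f := hc
        rw [hc']
      rw [← h2]
      exact hπμ _ _
    · let V₀ : X.Opens := ⟨({x} : Set X)ᶜ, hx.isOpen_compl⟩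
      have hyV₀ : y ∈ V₀ := hy
      obtain ⟨W, hW, hyW, hWle⟩ := exists_isAffineOpen_mem_and_subset (x := y) (U := V₀) hyV₀
      have hd : Disjoint ((⟨W, hW⟩ : X.affineOpens).1 : Set X) (Z : Set X) := by
        rw [Set.disjoint_left]
        intro z hzW hzZ
        exact hWle hzW hzZ
      have htop := vanishingIdeal_ideal_eq_top Z ⟨W, hW⟩ hd
      have hmem : (1 : Γ(X, W)) ∈ J.ideal ⟨W, hW⟩ := by
        change _ ∈ (Scheme.IdealSheafData.vanishingIdeal Z).ideal ⟨W, hW⟩
        rw [htop]; trivial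
      obtain ⟨c, hc⟩ := (exists_idealModι_app_eq_iff J ⟨W, hW⟩ _).mpr hmem
      refine ⟨W, hyW, ?_⟩
      have h2 : μ.app W (SecTwist.tmul (ClSub.idealMod J) L W c
          (L.presheaf.map (homOfLE (le_top : W ≤ ⊤)).op s₀)) =
          L.presheaf.map (homOfLE (le_top : W ≤ ⊤)).op s₀ := by
        rw [twistIncl_app_tmul]
        have hc' : (show Γ(X, W) from ι.app W c) = 1 := hc
        rw [hc', one_smul]
      rw [← h2]
      exact hπμ _ _
  choose W hyW hW using hloc
  have h0 : π.app ⊤ s₀ = 0 := by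
    apply section_ext_of_cover (cokernel μ) W (fun _ => le_top)
    · intro y _
      exact Opens.mem_iSup.mpr ⟨y, hyW y⟩
    · intro y
      rw [map_zero, ← app_res]
      exact hW y
  obtain ⟨t, ht⟩ := (mem_range_mono_iff μ ⊤ s₀).mpr h0
  refine ⟨homOfSection _ t, ?_⟩
  rw [← homOfSection_sectionOfHom σ, ← homOfSection_sectionOfHom (homOfSection _ t ≫ μ)]
  congr 1
  have h1 : sectionOfHom (homOfSection _ t ≫ μ) = μ.app ⊤ (sectionOfHom (homOfSection _ t)) := rfl
  rw [h1, sectionOfHom_homOfSection]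
  exact ht

end General

end Groth.Agent.H5.SD
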