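import Mathlib
import Groth.Agent.Lib.Helper5.SD.GG

/-!
# Global generation of invertible modules of degree `≥ 2g` on an integral proper curve (S1533).
-/

set_option autoImplicit false
set_option linter.style.haveILetI false
universe u
open CategoryTheory CategoryTheory.Limits AlgebraicGeometry TopologicalSpace Opposite

namespace Groth.Agent.H5.SD

open Groth.Agent.LD Groth.Agent.LD.QC Groth.Agent.H5.DegC Groth.Agent.LD.CL

variable (k : Type u) [Field k] (X : Scheme.{u}) [X.Over (Spec (CommRingCat.of k))]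
  [IsProper (X ↘ Spec (CommRingCat.of k))] [IsIntegral X]

/-- **a coherent submodule of an invertible module with `H¹ ≠ 0` has `h⁰ ≤ g`.** -/
theorem finrank_H0_le_genus_of_H1_nontrivial (hdim : topologicalKrullDim X = 1) {F M : X.Modules}
    (hF : Coh.IsCoh F) (hM : PicF.IsInvertible M) (i : F ⟶ M) [Mono i]
    (h1 : Nontrivial (Coh.HH X F 1)) :
    Module.finrank k (Coh.HH X F 0) ≤ Curv2.genus k X := by
  obtain ⟨ω, t, hω, hd⟩ := exists_dualizing_curve k X hdim
  obtain ⟨φ, hφ⟩ := hd.exists_ne_zero F hF h1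
  haveI : Mono φ := hd.mono_of_ne_zero hω hdim.le hF hM i φ hφ
  exact hd.finrank_H0_le_of_mono F φ

omit [IsIntegral X] in
/-- the structure sheaf of a reduced closed point has nonzero sections. -/
theorem finrank_H0_quotMod_point_pos (x : X) (hx : IsClosed ({x} : Set X)) :
    0 < Module.finrank k (Coh.HH X
      (ClSub.quotMod (Scheme.IdealSheafData.vanishingIdeal ⟨{x}, hx⟩)) 0) := by
  haveI : IsNoetherian X := Groth.Agent.H5.Curve2.isNoetherian_of_proper k X
  let Z : Closeds X := ⟨{x}, hx⟩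
  let J := Scheme.IdealSheafData.vanishingIdeal Z
  have hQc : Coh.IsCoh (ClSub.quotMod J) := isCoh_quotMod J
  haveI := Curve.finite_HH k X _ hQc 0
  by_contra hcon
  have h0 : Module.finrank k (Coh.HH X (ClSub.quotMod J) 0) = 0 := by
    have : ¬ 0 < Module.finrank k (Coh.HH X (ClSub.quotMod J) 0) := hcon
    omega
  haveI : Subsingleton (Coh.HH X (ClSub.quotMod J) 0) := Module.finrank_zero_iff.mp h0
  letI := PF.moduleΓ k (ClSub.quotMod J)
  haveI : Subsingleton ((ClSub.quotMod J).val.obj (op ⊤)) :=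
    (PF.H0LinearEquivΓ k (ClSub.quotMod J)).symm.toEquiv.subsingleton
  have hS := shortExact_idealMod J
  haveI := hS.mono_f
  have h1 : (ClSub.toSubscheme J).app ⊤ (1 : Γ(X, ⊤)) = 0 :=
    Subsingleton.elim (α := (ClSub.quotMod J).val.obj (op ⊤)) _ _
  obtain ⟨a, ha⟩ := exact_sections' _ hS.exact ⊤ (1 : Γ(X, ⊤)) h1
  obtain ⟨U, hU, hxU, -⟩ := exists_isAffineOpen_mem_and_subset (x := x) (U := ⊤) trivial
  have h2 : (ClSub.idealModι J).app U ((ClSub.idealMod J).presheaf.map
      (homOfLE (le_top : U ≤ ⊤)).op a) = (1 : Γ(X, U)) := by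
    rw [app_res]
    have ha' : (ClSub.idealModι J).app ⊤ a = (1 : Γ(X, ⊤)) := ha
    rw [ha']
    exact map_one (X.presheaf.map (homOfLE (le_top : U ≤ ⊤)).op).hom
  have h3 : (1 : Γ(X, U)) ∈ J.ideal ⟨U, hU⟩ :=
    (exists_idealModι_app_eq_iff J ⟨U, hU⟩ _).mp ⟨_, h2⟩
  have h4 := notMem_basicOpen_of_mem_vanishingIdeal Z ⟨U, hU⟩ _ h3 x hxU rfl
  apply h4
  rw [X.basicOpen_of_isUnit isUnit_one]
  exact hxU

/-- **every closed point is generated by a global section when `deg L ≥ 2g`.** -/
theorem exists_section_mem_genLocus (hdim : topologicalKrullDim X = 1)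
    (h0 : Module.finrank k (Coh.HH X (Coh.structureModule X) 0) = 1)
    (L : X.Modules) (hL : PicF.IsInvertible L)
    (hdeg : 2 * (Curv2.genus k X : ℤ) ≤ Curv2.deg k X L 1)
    (x : X) (hx : IsClosed ({x} : Set X)) :
    ∃ σ : unitMod X ⟶ L, x ∈ CohB1.genLocus L σ := by
  by_contra hcon
  push Not at hcon
  haveI : IsNoetherian X := Groth.Agent.H5.Curve2.isNoetherian_of_proper k X
  haveI : L.IsQuasicoherent := qc_of_isInvertible _ hL
  let Z : Closeds X := ⟨{x}, hx⟩
  let J := Scheme.IdealSheafData.vanishingIdeal Z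
  have hJ : topologicalKrullDim (J.support : Set X) ≤ 0 := by
    have h1 : (J.support : Set X) = {x} := by
      rw [Scheme.IdealSheafData.coe_support_vanishingIdeal]
      rfl
    rw [h1]
    exact topologicalKrullDim_zero_of_discreteTopology _
  obtain ⟨hc, ⟨i, hi⟩, he⟩ := idealTwist_facts k X L hL J hJ
  haveI := hi
  haveI := hc.1
  let IL := CohB1.tensorMod (ClSub.idealMod J) L
  haveI : IL.IsQuasicoherent := hc.1
  have hc' : Coh.IsCoh IL := hc
  have he' : Curv2.euler k X IL =
      Curv2.euler k X L - Module.finrank k (Coh.HH X (ClSub.quotMod J) 0) := he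
  have hLc : Coh.IsCoh L := Groth.Agent.H5.Curve2.isCoh_of_isInvertible hL
  -- `h⁰(L) ≤ h⁰(I ⊗ L)`
  have hle : Module.finrank k (Coh.HH X L 0) ≤ Module.finrank k (Coh.HH X IL 0) := by
    letI := PF.moduleΓ k L
    letI := PF.moduleΓ k IL
    let c : (unitMod X ⟶ IL) →ₗ[k] (unitMod X ⟶ L) :=
      { toFun := fun φ => φ ≫ twistIncl (ClSub.idealModι J) L
        map_add' := fun φ ψ => Preadditive.add_comp _ _ _ _ _ _
        map_smul' := fun a φ => Linear.smul_comp _ _ _ _ _ _ }
    have hcs : Function.Surjective c := fun σ =>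
      exists_lift_of_notMem_genLocus L hL x hx σ (hcon σ)
    let f : Coh.HH X IL 0 →ₗ[k] Coh.HH X L 0 :=
      (PF.H0LinearEquivΓ k L).symm.toLinearMap.comp ((secEquiv k L).toLinearMap.comp
        (c.comp ((secEquiv k IL).symm.toLinearMap.comp (PF.H0LinearEquivΓ k IL).toLinearMap)))
    have hf : Function.Surjective f := by
      intro y
      obtain ⟨φ, hφ⟩ := hcs ((secEquiv k L).symm ((PF.H0LinearEquivΓ k L) y))
      refine ⟨(PF.H0LinearEquivΓ k IL).symm ((secEquiv k IL) φ), ?_⟩
      change (PF.H0LinearEquivΓ k L).symm ((secEquiv k L) (c ((secEquiv k IL).symm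
        ((PF.H0LinearEquivΓ k IL) ((PF.H0LinearEquivΓ k IL).symm ((secEquiv k IL) φ)))))) = y
      rw [LinearEquiv.apply_symm_apply, LinearEquiv.symm_apply_apply, hφ,
        LinearEquiv.apply_symm_apply, LinearEquiv.symm_apply_apply]
    haveI := Curve.finite_HH k X _ hc 0
    exact LinearMap.finrank_le_finrank_of_surjective hf
  -- numerics
  haveI : (unitMod X).IsQuasicoherent := qc_of_isInvertible _ (isInvertible_unit X)
  have h3 := Curve.euler_eq_sub k X hdim.le (unitMod X)
  have hO : Module.finrank k (Coh.HH X (unitMod X) 0) = 1 := h0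
  have hg : Module.finrank k (Coh.HH X (unitMod X) 1) = Curv2.genus k X := rfl
  rw [hO, hg] at h3
  have h4 : Curv2.deg k X L 1 = Curv2.euler k X L - Curv2.euler k X (unitMod X) := by
    unfold Curv2.deg
    push_cast
    ring_nf
  have h5 := Curve.euler_eq_sub k X hdim.le L
  have h6 := Curve.euler_eq_sub k X hdim.le IL
  have hpos := finrank_H0_quotMod_point_pos k X x hx
  have hpos' : (1 : ℤ) ≤ (Module.finrank k (Coh.HH X (ClSub.quotMod J) 0) : ℤ) := by
    exact_mod_cast hpos
  have hle' : (Module.finrank k (Coh.HH X L 0) : ℤ) ≤ (Module.finrank k (Coh.HH X IL 0) : ℤ) := by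
    exact_mod_cast hle
  have hn1 : (0 : ℤ) ≤ (Module.finrank k (Coh.HH X L 1) : ℤ) := Int.natCast_nonneg _
  by_cases hH1 : Nontrivial (Coh.HH X IL 1)
  · have h7 : Module.finrank k (Coh.HH X IL 0) ≤ Curv2.genus k X :=
      finrank_H0_le_genus_of_H1_nontrivial k X hdim hc hL i hH1
    have h7' : (Module.finrank k (Coh.HH X IL 0) : ℤ) ≤ (Curv2.genus k X : ℤ) := by
      exact_mod_cast h7
    rw [h4, h3, h5] at hdeg
    push_cast at hdeg
    linarith
  · rw [not_nontrivial_iff_subsingleton] at hH1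
    have z1 : Module.finrank k (Coh.HH X IL 1) = 0 := Module.finrank_zero_of_subsingleton
    rw [z1] at h6
    rw [h5, h6] at he'
    push_cast at he'
    linarith

end Groth.Agent.H5.SD
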