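import Mathlib
import Groth.Agent.Lib.Helper5.SD.GG2

/-!
# S1533: invertible modules of degree `≥ 2g` are globally generated.
-/

set_option autoImplicit false
set_option linter.style.haveILetI false
universe u
open CategoryTheory CategoryTheory.Limits AlgebraicGeometry TopologicalSpace Opposite

namespace Groth.Agent.H5.SD

open Groth.Agent.LD Groth.Agent.LD.QC Groth.Agent.H5.DegC Groth.Agent.LD.CL

section General
variable {X : Scheme.{u}}

/-- on a quasi-compact scheme, a module is globally generated as soon as every closed point lies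
in the generating locus of a global section. -/
theorem isGloballyGenerated_of_closedPoints [CompactSpace X] (L : X.Modules)
    (h : ∀ x : X, IsClosed ({x} : Set X) → ∃ σ : unitMod X ⟶ L, x ∈ CohB1.genLocus L σ) :
    Curv2.IsGloballyGenerated L := by
  classical
  have hall : ∀ y : X, ∃ σ : unitMod X ⟶ L, y ∈ CohB1.genLocus L σ := by
    intro y
    obtain ⟨x, hxy, hx⟩ := (isClosed_closure (s := ({y} : Set X))).exists_closed_singleton
      ⟨y, subset_closure rfl⟩
    obtain ⟨σ, hσ⟩ := h x hx
    refine ⟨σ, ?_⟩
    have hspec : y ⤳ x := specializes_iff_mem_closure.mpr hxy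
    exact hspec.mem_open (CohB1.genLocus L σ).2 hσ
  choose σ hσ using hall
  obtain ⟨s, hs⟩ := isCompact_univ.elim_finite_subcover
    (fun y => ((CohB1.genLocus L (σ y) : X.Opens) : Set X))
    (fun y => (CohB1.genLocus L (σ y)).2) (fun y _ => Set.mem_iUnion.mpr ⟨y, hσ y⟩)
  let e := s.equivFin
  apply isGloballyGenerated_of_epi_freeMod
    (homOfSections L (fun c : Fin s.card => sectionOfHom (σ (e.symm c).1)))
  apply Groth.Agent.H5.Curve1.epi_homOfSections_of_cover
  intro y
  have hy := hs (Set.mem_univ y)
  simp only [Set.mem_iUnion] at hy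
  obtain ⟨z, hz, hyz⟩ := hy
  refine ⟨e ⟨z, hz⟩, ?_⟩
  rw [homOfSection_sectionOfHom, Equiv.symm_apply_apply]
  exact hyz

end General

variable (k : Type u) [Field k] (X : Scheme.{u}) [X.Over (Spec (CommRingCat.of k))]
  [IsProper (X ↘ Spec (CommRingCat.of k))] [IsIntegral X]

/-- **S1533**. -/
theorem isGloballyGenerated_of_deg_ge (hdim : topologicalKrullDim X = 1)
    (h0 : Module.finrank k (Coh.HH X (Coh.structureModule X) 0) = 1)
    (L : X.Modules) (hL : PicF.IsInvertible L)
    (hdeg : 2 * (Curv2.genus k X : ℤ) ≤ Curv2.deg k X L 1) :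
    Curv2.IsGloballyGenerated L := by
  haveI : IsNoetherian X := Groth.Agent.H5.Curve2.isNoetherian_of_proper k X
  exact isGloballyGenerated_of_closedPoints L
    (fun x hx => exists_section_mem_genLocus k X hdim h0 L hL hdeg x hx)

end Groth.Agent.H5.SD
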