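import Mathlib
import Groth.Agent.Lib.Helper5.SD.GG3

/-!
# Global generation in degree `≥ 2g` on an integral proper curve, without assuming `h⁰(O) = 1`
(S16299, S16300, S16306).
-/

set_option autoImplicit false
set_option linter.style.haveILetI false
universe u
open CategoryTheory CategoryTheory.Limits AlgebraicGeometry TopologicalSpace Opposite

namespace Groth.Agent.H5.SD

open Groth.Agent.LD Groth.Agent.LD.QC Groth.Agent.H5.DegC Groth.Agent.LD.CL

variable (k : Type u) [Field k] (X : Scheme.{u}) [X.Over (Spec (CommRingCat.of k))]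
  [IsProper (X ↘ Spec (CommRingCat.of k))] [IsIntegral X]

/-- `h⁰(O_X) > 0`. -/
theorem finrank_H0_unit_pos :
    0 < Module.finrank k (Coh.HH X (Coh.structureModule X) 0) := by
  haveI := Curve.isLocallyNoetherian k X
  haveI : Module.Finite k (Coh.HH X (Coh.structureModule X) 0) :=
    Curve.finite_HH k X _ (PF.isCoh_unitMod X) 0
  letI : Algebra k Γ(X, ⊤) := (Coh.toGlobal (X ↘ Spec (CommRingCat.of k))).toAlgebra
  haveI : Nontrivial (Coh.HH X (Coh.structureModule X) 0) :=
    (FF.HH0LinearEquivΓ k X).toEquiv.nontrivial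
  exact Module.finrank_pos

/-- **every closed point is generated by a global section when `deg L ≥ 2g`.** -/
theorem exists_section_mem_genLocus' (hdim : topologicalKrullDim X = 1)
    (L : X.Modules) (hL : PicF.IsInvertible L)
    (hdeg : 2 * (Curv2.genus k X : ℤ) ≤ Curv2.deg k X L 1)
    (x : X) (hx : IsClosed ({x} : Set X)) :
    ∃ σ : unitMod X ⟶ L, x ∈ CohB1.genLocus L σ := by
  by_contra hcon
  push Not at hcon
  haveI : IsNoetherian X := Groth.Agent.H5.Curve2.isNoetherian_of_proper k X
  haveI : L.IsQuasicoherent := qc_of_isInvertible _ hL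
  let Z : Closeds X := ⟨{x}, hx⟩
  let J := Scheme.IdealSheafData.vanishingIdeal Z
  have hJ : topologicalKrullDim (J.support : Set X) ≤ 0 := by
    have h1 : (J.support : Set X) = {x} := by
      rw [Scheme.IdealSheafData.coe_support_vanishingIdeal]
      rfl
    rw [h1]
    exact topologicalKrullDim_zero_of_discreteTopology _
  obtain ⟨hc, ⟨i, hi⟩, he⟩ := idealTwist_facts k X L hL J hJ
  haveI := hi
  haveI := hc.1
  let IL := CohB1.tensorMod (ClSub.idealMod J) L
  haveI : IL.IsQuasicoherent := hc.1
  have hc' : Coh.IsCoh IL := hc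
  have he' : Curv2.euler k X IL =
      Curv2.euler k X L - Module.finrank k (Coh.HH X (ClSub.quotMod J) 0) := he
  have hLc : Coh.IsCoh L := Groth.Agent.H5.Curve2.isCoh_of_isInvertible hL
  -- `h⁰(L) ≤ h⁰(I ⊗ L)`
  have hle : Module.finrank k (Coh.HH X L 0) ≤ Module.finrank k (Coh.HH X IL 0) := by
    letI := PF.moduleΓ k L
    letI := PF.moduleΓ k IL
    let c : (unitMod X ⟶ IL) →ₗ[k] (unitMod X ⟶ L) :=
      { toFun := fun φ => φ ≫ twistIncl (ClSub.idealModι J) L
        map_add' := fun φ ψ => Preadditive.add_comp _ _ _ _ _ _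
        map_smul' := fun a φ => Linear.smul_comp _ _ _ _ _ _ }
    have hcs : Function.Surjective c := fun σ =>
      exists_lift_of_notMem_genLocus L hL x hx σ (hcon σ)
    let f : Coh.HH X IL 0 →ₗ[k] Coh.HH X L 0 :=
      (PF.H0LinearEquivΓ k L).symm.toLinearMap.comp ((secEquiv k L).toLinearMap.comp
        (c.comp ((secEquiv k IL).symm.toLinearMap.comp (PF.H0LinearEquivΓ k IL).toLinearMap)))
    have hf : Function.Surjective f := by
      intro y
      obtain ⟨φ, hφ⟩ := hcs ((secEquiv k L).symm ((PF.H0LinearEquivΓ k L) y))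
      refine ⟨(PF.H0LinearEquivΓ k IL).symm ((secEquiv k IL) φ), ?_⟩
      change (PF.H0LinearEquivΓ k L).symm ((secEquiv k L) (c ((secEquiv k IL).symm
        ((PF.H0LinearEquivΓ k IL) ((PF.H0LinearEquivΓ k IL).symm ((secEquiv k IL) φ)))))) = y
      rw [LinearEquiv.apply_symm_apply, LinearEquiv.symm_apply_apply, hφ,
        LinearEquiv.apply_symm_apply, LinearEquiv.symm_apply_apply]
    haveI := Curve.finite_HH k X _ hc 0
    exact LinearMap.finrank_le_finrank_of_surjective hf
  -- numerics
  haveI : (unitMod X).IsQuasicoherent := qc_of_isInvertible _ (isInvertible_unit X)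
  have h3 := Curve.euler_eq_sub k X hdim.le (unitMod X)
  have hO : (1 : ℤ) ≤ (Module.finrank k (Coh.HH X (unitMod X) 0) : ℤ) := by
    exact_mod_cast finrank_H0_unit_pos k X
  have hg : Module.finrank k (Coh.HH X (unitMod X) 1) = Curv2.genus k X := rfl
  rw [hg] at h3
  have h4 : Curv2.deg k X L 1 = Curv2.euler k X L - Curv2.euler k X (unitMod X) := by
    unfold Curv2.deg
    push_cast
    ring_nf
  have h5 := Curve.euler_eq_sub k X hdim.le L
  have h6 := Curve.euler_eq_sub k X hdim.le IL
  have hpos := finrank_H0_quotMod_point_pos k X x hx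
  have hpos' : (1 : ℤ) ≤ (Module.finrank k (Coh.HH X (ClSub.quotMod J) 0) : ℤ) := by
    exact_mod_cast hpos
  have hle' : (Module.finrank k (Coh.HH X L 0) : ℤ) ≤ (Module.finrank k (Coh.HH X IL 0) : ℤ) := by
    exact_mod_cast hle
  have hn1 : (0 : ℤ) ≤ (Module.finrank k (Coh.HH X L 1) : ℤ) := Int.natCast_nonneg _
  by_cases hH1 : Nontrivial (Coh.HH X IL 1)
  · have h7 : Module.finrank k (Coh.HH X IL 0) ≤ Curv2.genus k X :=
      finrank_H0_le_genus_of_H1_nontrivial k X hdim hc hL i hH1
    have h7' : (Module.finrank k (Coh.HH X IL 0) : ℤ) ≤ (Curv2.genus k X : ℤ) := by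
      exact_mod_cast h7
    rw [h4, h3, h5] at hdeg
    push_cast at hdeg
    linarith
  · rw [not_nontrivial_iff_subsingleton] at hH1
    have z1 : Module.finrank k (Coh.HH X IL 1) = 0 := Module.finrank_zero_of_subsingleton
    rw [z1] at h6
    rw [h5, h6] at he'
    push_cast at he'
    linarith


/-- every point is generated by a global section when `deg L ≥ 2g`. -/
theorem exists_section_mem_genLocus_any (hdim : topologicalKrullDim X = 1)
    (L : X.Modules) (hL : PicF.IsInvertible L)
    (hdeg : 2 * (Curv2.genus k X : ℤ) ≤ Curv2.deg k X L 1) (y : X) :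
    ∃ σ : unitMod X ⟶ L, y ∈ CohB1.genLocus L σ := by
  haveI : IsNoetherian X := Groth.Agent.H5.Curve2.isNoetherian_of_proper k X
  obtain ⟨x, hxy, hx⟩ := (isClosed_closure (s := ({y} : Set X))).exists_closed_singleton
    ⟨y, subset_closure rfl⟩
  obtain ⟨σ, hσ⟩ := exists_section_mem_genLocus' k X hdim L hL hdeg x hx
  refine ⟨σ, ?_⟩
  have hspec : y ⤳ x := specializes_iff_mem_closure.mpr hxy
  exact hspec.mem_open (CohB1.genLocus L σ).2 hσ

/-- invertible modules of degree `≥ 2g` are globally generated (no hypothesis on `h⁰(O)`). -/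
theorem isGloballyGenerated_of_deg_ge' (hdim : topologicalKrullDim X = 1)
    (L : X.Modules) (hL : PicF.IsInvertible L)
    (hdeg : 2 * (Curv2.genus k X : ℤ) ≤ Curv2.deg k X L 1) :
    Curv2.IsGloballyGenerated L := by
  haveI : IsNoetherian X := Groth.Agent.H5.Curve2.isNoetherian_of_proper k X
  exact isGloballyGenerated_of_closedPoints L
    (fun x hx => exists_section_mem_genLocus' k X hdim L hL hdeg x hx)

end Groth.Agent.H5.SD
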