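import Mathlib
import Groth.Agent.Lib.Helper5.SD.DualB
import Groth.Agent.Lib.Lead.QC.TwistEquiv
import Groth.Agent.Lib.Lead.QC.InvBasis
import Groth.Agent.Lib.Lead.QC.TensorDesc

/-!
# Twisting morphisms by an invertible module, linearly over the base field.
-/

set_option autoImplicit false
set_option linter.style.haveILetI false
universe u
open CategoryTheory CategoryTheory.Limits AlgebraicGeometry TopologicalSpace Opposite

namespace Groth.Agent.H5.SD

open Groth.Agent.LD Groth.Agent.LD.QC Groth.Agent.LD.CL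

variable (k : Type u) [Field k] {X : Scheme.{u}} [X.Over (Spec (CommRingCat.of k))]

/-- tensoring with a fixed module is additive on morphisms. -/
lemma tensorMap_add_left {A B : X.Modules} (M : X.Modules) (φ ψ : A ⟶ B) :
    KoszTw.tensorMap (φ + ψ) (𝟙 M) = KoszTw.tensorMap φ (𝟙 M) + KoszTw.tensorMap ψ (𝟙 M) := by
  apply hom_ext_tmul
  intro U m l
  have h1 := KoszTw.tensorMap_tmul (φ + ψ) (𝟙 M) U m l
  have h2 := KoszTw.tensorMap_tmul φ (𝟙 M) U m l
  have h3 := KoszTw.tensorMap_tmul ψ (𝟙 M) U m l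
  have h4 := add_app' (KoszTw.tensorMap φ (𝟙 M)) (KoszTw.tensorMap ψ (𝟙 M)) U
    (SecTwist.tmul A M U m l)
  have h5 := add_app' φ ψ U m
  refine h1.trans ?_
  refine Eq.trans ?_ h4.symm
  rw [h2, h3]
  refine Eq.trans ?_ (tmul_add_left B M U (φ.app U m) (ψ.app U m) ((𝟙 M : M ⟶ M).app U l))
  exact congrArg (fun z => SecTwist.tmul B M U z ((𝟙 M : M ⟶ M).app U l)) h5

/-- tensoring with a fixed module is linear on morphisms. -/
lemma tensorMap_smul_left {A B : X.Modules} (M : X.Modules) (a : k) (φ : A ⟶ B) :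
    KoszTw.tensorMap (a • φ) (𝟙 M) = a • KoszTw.tensorMap φ (𝟙 M) := by
  apply hom_ext_tmul
  intro U m l
  rw [KoszTw.tensorMap_tmul, KLin.smul_app_apply, KLin.smul_app_apply, KoszTw.tensorMap_tmul,
    tmul_smul_left]
  rfl

/-- twisting morphisms: `Hom(N, W) ≃ Hom(O, W ⊗ M)` when `N ⊗ M ≅ O`. -/
noncomputable def twistHomLin {N M : X.Modules} (e : CohB1.tensorMod N M ≅ unitMod X)
    (W : X.Modules) : (N ⟶ W) →ₗ[k] (unitMod X ⟶ CohB1.tensorMod W M) where
  toFun φ := e.inv ≫ KoszTw.tensorMap φ (𝟙 M)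
  map_add' φ ψ := by
    rw [tensorMap_add_left, Preadditive.comp_add]
  map_smul' a φ := by
    rw [tensorMap_smul_left, Linear.comp_smul]
    rfl

lemma twistHomLin_bijective {N M : X.Modules} (e : CohB1.tensorMod N M ≅ unitMod X)
    (W : X.Modules) : Function.Bijective (twistHomLin k e W) := by
  let E := twEquiv M N (tensorCommAll M N ≪≫ e)
  have hF : ∀ {A B : X.Modules} (f : A ⟶ B), E.functor.map f = KoszTw.tensorMap f (𝟙 M) :=
    fun f => twF_map M f
  constructor
  · intro φ ψ h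
    have h1 : KoszTw.tensorMap φ (𝟙 M) = KoszTw.tensorMap ψ (𝟙 M) := by
      have h2 : e.inv ≫ KoszTw.tensorMap φ (𝟙 M) = e.inv ≫ KoszTw.tensorMap ψ (𝟙 M) := h
      exact (cancel_epi e.inv).mp h2
    rw [← hF, ← hF] at h1
    exact E.functor.map_injective h1
  · intro τ
    let g : CohB1.tensorMod N M ⟶ CohB1.tensorMod W M := e.hom ≫ τ
    have hg : e.inv ≫ g = τ := Iso.inv_hom_id_assoc e τ
    obtain ⟨φ, hφ⟩ := E.functor.map_surjective (X := N) (Y := W) g
    refine ⟨φ, ?_⟩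
    change e.inv ≫ KoszTw.tensorMap φ (𝟙 M) = τ
    rw [← hF, hφ]
    exact hg

/-- `Hom(N, W) ≃ₗ Hom(O, W ⊗ M)`. -/
noncomputable def twistHomEquiv {N M : X.Modules} (e : CohB1.tensorMod N M ≅ unitMod X)
    (W : X.Modules) : (N ⟶ W) ≃ₗ[k] (unitMod X ⟶ CohB1.tensorMod W M) :=
  LinearEquiv.ofBijective (twistHomLin k e W) (twistHomLin_bijective k e W)

/-- `h⁰(F) = dim Hom(O, F)`. -/
theorem finrank_H0_eq_finrank_hom (F : X.Modules) :
    Module.finrank k (Coh.HH X F 0) = Module.finrank k (unitMod X ⟶ F) := by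
  letI := PF.moduleΓ k F
  exact ((PF.H0LinearEquivΓ k F).trans (secEquiv k F).symm).finrank_eq

end Groth.Agent.H5.SD
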