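import Mathlib
import Groth.Agent.Lib.Helper5.SD.TwLin
import Groth.Agent.Lib.Lead.QC.TensorExact
import Groth.Agent.Lib.Lead.QC.RestrictOpen
import Groth.Agent.Lib.Lead.QC.InvEpi

/-!
# The Koszul relation `s₂ ⊗ s₁ = s₁ ⊗ s₂` for sections of an invertible module.
-/

set_option autoImplicit false
set_option linter.style.haveILetI false
universe u
open CategoryTheory CategoryTheory.Limits AlgebraicGeometry TopologicalSpace Opposite

namespace Groth.Agent.H5.SD

open Groth.Agent.LD Groth.Agent.LD.QC Groth.Agent.LD.CL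

section General
variable {X : Scheme.{u}}

/-- pure tensors commute in the square of an invertible module. -/
theorem tmul_comm_of_isInvertible {L : X.Modules} (hL : PicF.IsInvertible L) (U : X.Opens)
    (a b : Γ(L, U)) : SecTwist.tmul L L U a b = SecTwist.tmul L L U b a := by
  have hb := (isInvertible_iff_exists_isBasisOver L).mp hL
  choose W e hxW he using hb
  apply section_ext_of_cover (CohB1.tensorMod L L) (fun x : U => U ⊓ W x.1)
    (fun x => inf_le_left)
  · intro y hy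
    exact Opens.mem_iSup.2 ⟨⟨y, hy⟩, ⟨hy, hxW y⟩⟩
  · intro x
    rw [tmul_res, tmul_res]
    have hbV := (he x.1).mono (inf_le_right : U ⊓ W x.1 ≤ W x.1)
    obtain ⟨α, hα⟩ := (hbV _ le_rfl).2
      (L.presheaf.map (homOfLE (inf_le_left : U ⊓ W x.1 ≤ U)).op a)
    obtain ⟨β, hβ⟩ := (hbV _ le_rfl).2
      (L.presheaf.map (homOfLE (inf_le_left : U ⊓ W x.1 ≤ U)).op b)
    simp only at hα hβ
    rw [res_self] at hα hβ
    rw [← hα, ← hβ, tmul_smul_left, tmul_smul_right, tmul_smul_left, tmul_smul_right, smul_smul,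
      smul_smul, mul_comm]

/-- the sections `s₂ · s₁` and `s₁ · s₂` of `L ⊗ L` agree. -/
theorem mulSec_comm {L : X.Modules} [L.IsQuasicoherent] (hL : PicF.IsInvertible L)
    (s₁ s₂ : unitMod X ⟶ L) :
    s₂ ≫ (unitorL L).inv ≫ KoszTw.tensorMap s₁ (𝟙 L) =
      s₁ ≫ (unitorL L).inv ≫ KoszTw.tensorMap s₂ (𝟙 L) := by
  apply unitHom_ext
  have key : ∀ a b : unitMod X ⟶ L,
      sectionOfHom (a ≫ (unitorL L).inv ≫ KoszTw.tensorMap b (𝟙 L)) =
        SecTwist.tmul L L ⊤ (b.app ⊤ (1 : Γ(X, ⊤))) (a.app ⊤ (1 : Γ(X, ⊤))) := by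
    intro a b
    change (KoszTw.tensorMap b (𝟙 L)).app ⊤ ((unitorL L).inv.app ⊤ (a.app ⊤ (1 : Γ(X, ⊤)))) = _
    rw [unitorL_inv_app, KoszTw.tensorMap_tmul]
    rfl
  rw [key, key]
  exact tmul_comm_of_isInvertible hL ⊤ _ _

end General

variable (k : Type u) [Field k] {X : Scheme.{u}} [X.Over (Spec (CommRingCat.of k))]

/-- the contraction `L' ⟶ O` with a section of `L`, where `L' ⊗ L ≅ O`. -/
noncomputable def contr {L L' : X.Modules} [L.IsQuasicoherent]
    (e' : CohB1.tensorMod L' L ≅ unitMod X) (s : unitMod X ⟶ L) : L' ⟶ unitMod X :=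
  (twistHomEquiv k e' (unitMod X)).symm (s ≫ (unitorL L).inv)

lemma contr_spec {L L' : X.Modules} [L.IsQuasicoherent]
    (e' : CohB1.tensorMod L' L ≅ unitMod X) (s : unitMod X ⟶ L) :
    e'.inv ≫ KoszTw.tensorMap (contr k e' s) (𝟙 L) = s ≫ (unitorL L).inv :=
  (twistHomEquiv k e' (unitMod X)).apply_symm_apply _

/-- the Koszul relation. -/
theorem contr_comm {L L' : X.Modules} [L.IsQuasicoherent] (hL : PicF.IsInvertible L)
    (e' : CohB1.tensorMod L' L ≅ unitMod X) (s₁ s₂ : unitMod X ⟶ L) :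
    contr k e' s₂ ≫ s₁ = contr k e' s₁ ≫ s₂ := by
  apply (twistHomLin_bijective k e' L).1
  change e'.inv ≫ KoszTw.tensorMap (contr k e' s₂ ≫ s₁) (𝟙 L) =
    e'.inv ≫ KoszTw.tensorMap (contr k e' s₁ ≫ s₂) (𝟙 L)
  rw [tensorMap_comp_id, tensorMap_comp_id, ← Category.assoc, contr_spec,
    ← Category.assoc e'.inv, contr_spec, Category.assoc, Category.assoc]
  exact mulSec_comm hL s₁ s₂

lemma contr_eq_zero {L L' : X.Modules} [L.IsQuasicoherent]
    (e' : CohB1.tensorMod L' L ≅ unitMod X) (s : unitMod X ⟶ L) (h : contr k e' s = 0) :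
    s = 0 := by
  have h1 := contr_spec k e' s
  rw [h] at h1
  have h2 : (twistHomLin k e' (unitMod X)) 0 = 0 := map_zero _
  have h3 : s ≫ (unitorL L).inv = 0 := by
    rw [← h1]
    exact h2
  have h4 := congrArg (fun f => f ≫ (unitorL L).hom) h3
  simpa using h4

end Groth.Agent.H5.SD
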