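import Mathlib
import Groth.Agent.Lib.Helper5.SD.PencilA
import Groth.Agent.Lib.Helper5.Glue.LS
import Groth.Agent.Lib.Lead.QC.BiprodSec
import Groth.Agent.Lib.Lead.QC.TensorDesc
import Groth.Agent.Lib.Helper3.ZClosLib

/-!
# The first Koszul step for generating sections of an invertible module.
-/

set_option autoImplicit false
set_option linter.style.haveILetI false
universe u
open CategoryTheory CategoryTheory.Limits AlgebraicGeometry TopologicalSpace Opposite

namespace Groth.Agent.H5.SD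

open Groth.Agent.LD Groth.Agent.LD.QC Groth.Agent.H5.Glue

variable {X : Scheme.{u}}

/-- multiplication by a section of `A`: `F ⟶ F ⊗ A`. -/
noncomputable def mulS (A F : X.Modules) (t : unitMod X ⟶ A) : F ⟶ CohB1.tensorMod F A :=
  (SecTwist.unitorR F).inv ≫ KoszTw.tensorMap (𝟙 F) t

lemma mulS_app (A F : X.Modules) (t : unitMod X ⟶ A) (U : X.Opens) (ν : Γ(F, U)) :
    (mulS A F t).app U ν = SecTwist.tmul F A U ν (SecTwist.val t U) := by
  change (KoszTw.tensorMap (𝟙 F) t).app U ((SecTwist.unitorR F).inv.app U ν) = _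
  rw [unitorR_inv_app, KoszTw.tensorMap_tmul]
  rfl

/-- multiplications by two sections commute. -/
lemma mulS_comm {A : X.Modules} (hA : PicF.IsInvertible A) (F : X.Modules) [F.IsQuasicoherent]
    (t t' : unitMod X ⟶ A) :
    mulS A F t ≫ mulS A (CohB1.tensorMod F A) t' = mulS A F t' ≫ mulS A (CohB1.tensorMod F A) t := by
  haveI : A.IsQuasicoherent := qc_of_isInvertible _ hA
  apply Scheme.Modules.hom_ext
  intro U
  ext ν
  change (mulS A (CohB1.tensorMod F A) t').app U ((mulS A F t).app U ν) =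
    (mulS A (CohB1.tensorMod F A) t).app U ((mulS A F t').app U ν)
  rw [mulS_app, mulS_app, mulS_app, mulS_app]
  have hinj : Function.Injective ((tensorAssoc F A A).hom.app U) :=
    (app_bijective_of_isIso (tensorAssoc F A A).hom U).1
  apply hinj
  rw [tensorAssoc_hom_app_tmul, tensorAssoc_hom_app_tmul,
    tmul_comm_of_isInvertible hA U (SecTwist.val t U) (SecTwist.val t' U)]

lemma bijective_mulS_app (A F : X.Modules) (t : unitMod X ⟶ A) (W : X.Opens)
    (hW : W ≤ CohB1.genLocus A t) : Function.Bijective ((mulS A F t).app W) := by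
  have he : IsBasisOver A W (SecTwist.val t W) := (le_genLocus_iff_isBasisOver A t W).mp hW
  have hb := bijective_tmul_of_isBasisOver F A he W le_rfl
  rw [val_res] at hb
  have : ⇑(ConcreteCategory.hom ((mulS A F t).app W)) =
      fun ν : Γ(F, W) => SecTwist.tmul F A W ν (SecTwist.val t W) := by
    funext ν
    exact mulS_app A F t W ν
  rw [this]
  exact hb

lemma mulS_app_of_val_eq (A F : X.Modules) (t t' : unitMod X ⟶ A) (W : X.Opens) (f : Γ(X, W))
    (h : SecTwist.val t' W = f • SecTwist.val t W) (ν : Γ(F, W)) :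
    (mulS A F t').app W ν = f • (mulS A F t).app W ν := by
  rw [mulS_app, mulS_app, h]
  exact tmul_smul_right F A W f ν _

lemma app_fsum {M N : X.Modules} (φ : M ⟶ N) (W : X.Opens) {r : ℕ} (g : Fin r → Γ(M, W)) :
    φ.app W (∑ i, g i) = ∑ i, φ.app W (g i) :=
  map_sum (φ.app W).hom g Finset.univ

lemma app_zero' {M N : X.Modules} (φ : M ⟶ N) (W : X.Opens) : φ.app W (0 : Γ(M, W)) = 0 :=
  map_zero (φ.app W).hom

section Kosz

attribute [local instance] CategoryTheory.Abelian.hasFiniteBiproducts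

variable {A : X.Modules} (hA : PicF.IsInvertible A) (N : X.Modules) [N.IsQuasicoherent] {r : ℕ}
  (s : Fin r → (unitMod X ⟶ A))

/-- `q : ⨁_i (N ⊗ A) ⟶ (N ⊗ A) ⊗ A`, `(m_i) ↦ ∑ m_i ⊗ s_i`. -/
noncomputable def kq :
    (⨁ fun _ : Fin r => CohB1.tensorMod N A) ⟶ CohB1.tensorMod (CohB1.tensorMod N A) A :=
  biproduct.desc fun i => mulS A (CohB1.tensorMod N A) (s i)

/-- the Koszul maps `κ_{ij} : ν ↦ (ν ⊗ s_j) e_i - (ν ⊗ s_i) e_j`. -/
noncomputable def kκ (i j : Fin r) : N ⟶ ⨁ fun _ : Fin r => CohB1.tensorMod N A :=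
  mulS A N (s j) ≫ biproduct.ι (fun _ : Fin r => CohB1.tensorMod N A) i -
    mulS A N (s i) ≫ biproduct.ι (fun _ : Fin r => CohB1.tensorMod N A) j

include hA in
lemma kκ_kq (i j : Fin r) : kκ N s i j ≫ kq N s = 0 := by
  unfold kκ kq
  rw [Preadditive.sub_comp, Category.assoc, Category.assoc, biproduct.ι_desc, biproduct.ι_desc,
    mulS_comm hA N (s j) (s i), sub_self]

/-- all Koszul maps together. -/
noncomputable def kAll : (⨁ fun _ : Fin r => ⨁ fun _ : Fin r => N) ⟶
    ⨁ fun _ : Fin r => CohB1.tensorMod N A :=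
  biproduct.desc fun i => biproduct.desc fun j => kκ N s i j

include hA in
lemma kAll_kq : kAll N s ≫ kq N s = 0 := by
  unfold kAll
  apply biproduct.hom_ext'
  intro i
  apply biproduct.hom_ext'
  intro j
  rw [biproduct.ι_desc_assoc, biproduct.ι_desc_assoc, kκ_kq hA, comp_zero, comp_zero]

/-- the map onto the kernel. -/
noncomputable def kK : (⨁ fun _ : Fin r => ⨁ fun _ : Fin r => N) ⟶ kernel (kq N s) :=
  kernel.lift _ (kAll N s) (kAll_kq hA N s)

include hA in
/-- **the Koszul maps surject onto the kernel** when the `s_i` generate `A`. -/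
theorem epi_kK (hgen : ∀ x : X, ∃ l, x ∈ CohB1.genLocus A (s l)) : Epi (kK hA N s) := by
  classical
  apply epi_of_locSurjAt
  intro x
  obtain ⟨l, hl⟩ := hgen x
  intro U t hxU
  let W : X.Opens := U ⊓ CohB1.genLocus A (s l)
  have hWU : W ≤ U := inf_le_left
  have hWl : W ≤ CohB1.genLocus A (s l) := inf_le_right
  refine ⟨W, hWU, ⟨hxU, hl⟩, ?_⟩
  let tW : Γ(kernel (kq N s), W) := (kernel (kq N s)).presheaf.map (homOfLE hWU).op t
  let m : Γ(⨁ fun _ : Fin r => CohB1.tensorMod N A, W) := (kernel.ι (kq N s)).app W tW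
  have hqm : (kq N s).app W m = 0 := by
    have h0 : kernel.ι (kq N s) ≫ kq N s = 0 := kernel.condition _
    change (kernel.ι (kq N s) ≫ kq N s).app W tW = 0
    rw [h0]
    rfl
  let mi : Fin r → Γ(CohB1.tensorMod N A, W) := fun i =>
    (biproduct.π (fun _ : Fin r => CohB1.tensorMod N A) i).app W m
  have hm : m = ∑ i, (biproduct.ι (fun _ : Fin r => CohB1.tensorMod N A) i).app W (mi i) := by
    have htot := biproduct.total (f := fun _ : Fin r => CohB1.tensorMod N A)
    have h1 : (∑ j : Fin r, biproduct.π (fun _ : Fin r => CohB1.tensorMod N A) j ≫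
        biproduct.ι (fun _ : Fin r => CohB1.tensorMod N A) j).app W m = m := by
      rw [htot]; rfl
    rw [sum_app] at h1
    exact h1.symm
  have hT1 := bijective_mulS_app A N (s l) W hWl
  have hT2 := bijective_mulS_app A (CohB1.tensorMod N A) (s l) W hWl
  choose ν hν using fun i => hT1.2 (mi i)
  have he : IsBasisOver A W (SecTwist.val (s l) W) :=
    (le_genLocus_iff_isBasisOver A (s l) W).mp hWl
  have hf : ∀ i, ∃ f : Γ(X, W), SecTwist.val (s i) W = f • SecTwist.val (s l) W := fun i => by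
    obtain ⟨f, hf⟩ := (he W le_rfl).2 (SecTwist.val (s i) W)
    refine ⟨f, ?_⟩
    rw [← hf, val_res]
    rfl
  choose f hf using hf
  have hrel : ∑ i, f i • ν i = 0 := by
    apply hT1.1
    apply hT2.1
    rw [app_zero', app_zero', app_fsum, app_fsum]
    rw [← hqm, hm, app_fsum]
    apply Finset.sum_congr rfl
    intro i _
    change _ = (biproduct.ι (fun _ : Fin r => CohB1.tensorMod N A) i ≫ kq N s).app W (mi i)
    rw [kq, biproduct.ι_desc, mulS_app_of_val_eq A _ (s l) (s i) W (f i) (hf i), ← hν i,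
      Scheme.Modules.Hom.app_smul, Scheme.Modules.Hom.app_smul]
  let z : Γ(⨁ fun _ : Fin r => ⨁ fun _ : Fin r => N, W) :=
    ∑ i, (biproduct.ι (fun _ : Fin r => N) l ≫
      biproduct.ι (fun _ : Fin r => ⨁ fun _ : Fin r => N) i).app W (ν i)
  refine ⟨z, ?_⟩
  apply Groth.Agent.H3.ZClosLib.app_injective_of_mono (kernel.ι (kq N s)) W
  change (kK hA N s ≫ kernel.ι (kq N s)).app W z = m
  rw [kK, kernel.lift_ι, app_fsum]
  have hterm : ∀ i, (kAll N s).app W ((biproduct.ι (fun _ : Fin r => N) l ≫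
      biproduct.ι (fun _ : Fin r => ⨁ fun _ : Fin r => N) i).app W (ν i)) =
      (biproduct.ι (fun _ : Fin r => CohB1.tensorMod N A) i).app W (mi i) -
      (biproduct.ι (fun _ : Fin r => CohB1.tensorMod N A) l).app W
        (f i • (mulS A N (s l)).app W (ν i)) := by
    intro i
    change ((biproduct.ι (fun _ : Fin r => N) l ≫
      biproduct.ι (fun _ : Fin r => ⨁ fun _ : Fin r => N) i) ≫ kAll N s).app W (ν i) = _
    rw [kAll, Category.assoc, biproduct.ι_desc, biproduct.ι_desc, kκ]
    change (biproduct.ι (fun _ : Fin r => CohB1.tensorMod N A) i).app W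
        ((mulS A N (s l)).app W (ν i)) -
      (biproduct.ι (fun _ : Fin r => CohB1.tensorMod N A) l).app W
        ((mulS A N (s i)).app W (ν i)) = _
    rw [mulS_app_of_val_eq A N (s l) (s i) W (f i) (hf i), hν i]
  simp_rw [hterm]
  have hsum : ∑ i, (f i • (mulS A N (s l)).app W (ν i)) = 0 := by
    have h1 : ∀ i, f i • (mulS A N (s l)).app W (ν i) = (mulS A N (s l)).app W (f i • ν i) :=
      fun i => (Scheme.Modules.Hom.app_smul (mulS A N (s l)) (f i) (ν i)).symm
    simp_rw [h1]
    rw [← app_fsum, hrel, app_zero']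
  rw [Finset.sum_sub_distrib, ← hm, ← app_fsum, hsum, app_zero', sub_zero]

end Kosz

end Groth.Agent.H5.SD
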