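import Mathlib
import Groth.Agent.Lib.Helper5.SD.KoszA
import Groth.Agent.Lib.Helper5.GG.Tensor
import Groth.Agent.Lib.Helper5.GG.FinGen
import Groth.Agent.Lib.Helper5.Split.Split1
import Groth.Agent.Lib.Lead.QC.AmpleIso
import Groth.Agent.Lib.Lead.CohLES.Vanish

/-!
# S16308: multiplication of sections `H⁰(A^n) ⊗ H⁰(A) → H⁰(A^{n+1})` is surjective for a globally
generated `A` on a one-dimensional proper scheme, once `H¹(A^m) = 0` and `n ≥ m + 1`.
-/

set_option autoImplicit false
set_option linter.style.haveILetI false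
universe u
open CategoryTheory CategoryTheory.Limits AlgebraicGeometry TopologicalSpace Opposite

namespace Groth.Agent.H5.SD

open Groth.Agent.LD Groth.Agent.LD.QC Groth.Agent.LD.CL Groth.Agent.H5.Glue Groth.Agent.H5.GG

attribute [local instance] CategoryTheory.Abelian.hasFiniteBiproducts

variable (k : Type u) [Field k] (X : Scheme.{u}) [X.Over (Spec (CommRingCat.of k))]
  [IsProper (X ↘ Spec (CommRingCat.of k))]

omit [IsProper (X ↘ Spec (CommRingCat.of k))] [X.Over (Spec (CommRingCat.of k))] in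
/-- `H¹` of a finite biproduct vanishes when it does for each summand. -/
theorem subsingleton_HH_biproduct (n i : ℕ) (f : Fin n → X.Modules)
    (h : ∀ j, Subsingleton (Coh.HH X (f j) i)) : Subsingleton (Coh.HH X (⨁ f) i) :=
  subsingleton_HH_of_iso (biproduct.isoCoproduct f) i (subsingleton_HH_sigma_fin n i f h)

omit [IsProper (X ↘ Spec (CommRingCat.of k))] [X.Over (Spec (CommRingCat.of k))] in
/-- finite biproducts of copies of a quasi-coherent module are quasi-coherent. -/
theorem qc_biproduct_fin (r : ℕ) (G : X.Modules) [G.IsQuasicoherent] :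
    (⨁ fun _ : Fin r => G).IsQuasicoherent := by
  haveI : (FlatMod.freeMod X r).IsQuasicoherent :=
    qc_of_isFinLocFree _ (isFinLocFree_freeMod X r)
  exact qc_of_iso (tensorFreeIso G r ≪≫ (biproduct.isoCoproduct _).symm)
    (tensorMod_isQuasicoherent G (FlatMod.freeMod X r))

omit [IsProper (X ↘ Spec (CommRingCat.of k))] [X.Over (Spec (CommRingCat.of k))] in
/-- multiplication by a section is locally surjective where the section generates. -/
theorem locSurjAt_mulS (A F : X.Modules) (t : unitMod X ⟶ A) (x : X)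
    (hx : x ∈ CohB1.genLocus A t) : LocSurjAt (mulS A F t) x := by
  intro U τ hxU
  obtain ⟨ν, hν⟩ := (bijective_mulS_app A F t (U ⊓ CohB1.genLocus A t) inf_le_right).2
    ((CohB1.tensorMod F A).presheaf.map (homOfLE (inf_le_left : U ⊓ CohB1.genLocus A t ≤ U)).op τ)
  exact ⟨U ⊓ CohB1.genLocus A t, inf_le_left, ⟨hxU, hx⟩, ν, hν⟩

omit [IsProper (X ↘ Spec (CommRingCat.of k))] [X.Over (Spec (CommRingCat.of k))] in
theorem epi_kq {A : X.Modules} (N : X.Modules) [N.IsQuasicoherent] {r : ℕ}
    (s : Fin r → (unitMod X ⟶ A)) (hgen : ∀ x : X, ∃ l, x ∈ CohB1.genLocus A (s l)) :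
    Epi (kq N s) := by
  apply epi_of_locSurjAt
  intro x
  obtain ⟨l, hl⟩ := hgen x
  apply LocSurjAt.of_comp (biproduct.ι (fun _ : Fin r => CohB1.tensorMod N A) l)
  rw [kq, biproduct.ι_desc]
  exact locSurjAt_mulS X A _ (s l) x hl

include k in
/-- `H¹(A^j) = 0` propagates upwards for globally generated invertible `A` in dimension one. -/
theorem subsingleton_H1_tensorPow_of_le (hdim : topologicalKrullDim X ≤ 1)
    (A : X.Modules) (hA : PicF.IsInvertible A) (hgg : Curv2.IsGloballyGenerated A)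
    (m : ℕ) (hm : Subsingleton (Coh.HH X (CohB1.tensorPow A m) 1)) :
    ∀ j : ℕ, m ≤ j → Subsingleton (Coh.HH X (CohB1.tensorPow A j) 1) := by
  haveI : A.IsQuasicoherent := qc_of_isInvertible _ hA
  have hAc : Coh.IsCoh A := Groth.Agent.H5.Curve2.isCoh_of_isInvertible hA
  intro j hj
  induction j, hj using Nat.le_induction with
  | base => exact hm
  | succ j hj ih =>
    haveI : (CohB1.tensorPow A j).IsQuasicoherent :=
      qc_of_isInvertible _ (isInvertible_tensorPow hA j)
    exact subsingleton_H1_tensorMod_of_isGloballyGenerated X k hdim (CohB1.tensorPow A j) ih A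
      hAc.2 hgg

include k in
/-- **S16308**. -/
theorem span_tmul_eq_top_of_gg (hdim : topologicalKrullDim X = 1)
    (A : X.Modules) (hA : PicF.IsInvertible A) (hgg : Curv2.IsGloballyGenerated A)
    (m : ℕ) (hm : Subsingleton (Coh.HH X (CohB1.tensorPow A m) 1))
    (n : ℕ) (hn : m + 1 ≤ n) :
    Submodule.span (X.ringCatSheaf.obj.obj (Opposite.op ⊤))
        (Set.range (fun p : (CohB1.tensorPow A n).val.obj (Opposite.op ⊤) ×
            A.val.obj (Opposite.op ⊤) =>
          SecTwist.tmul (CohB1.tensorPow A n) A ⊤ p.1 p.2)) = ⊤ := by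
  classical
  haveI : CompactSpace X := Curve.compactSpace k X
  haveI : A.IsQuasicoherent := qc_of_isInvertible _ hA
  have hAc : Coh.IsCoh A := Groth.Agent.H5.Curve2.isCoh_of_isInvertible hA
  obtain ⟨r, p, hp⟩ := exists_epi_freeMod_of_isGloballyGenerated A hAc.2 hgg
  let s : Fin r → (unitMod X ⟶ A) := fun i => Sigma.ι (fun _ : Fin r => unitMod X) i ≫ p
  have hgen : ∀ x : X, ∃ l, x ∈ CohB1.genLocus A (s l) :=
    fun x => exists_mem_genLocus_of_epi A hA p hp x
  obtain ⟨n', rfl⟩ : ∃ n', n = n' + 1 := ⟨n - 1, by omega⟩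
  let N := CohB1.tensorPow A n'
  have hN : PicF.IsInvertible N := isInvertible_tensorPow hA n'
  haveI : N.IsQuasicoherent := qc_of_isInvertible _ hN
  have hH1N : Subsingleton (Coh.HH X N 1) :=
    subsingleton_H1_tensorPow_of_le k X hdim.le A hA hgg m hm n' (by omega)
  -- `H¹(ker q) = 0`
  haveI hepi := epi_kK hA N s hgen
  haveI hqM : (CohB1.tensorMod N A).IsQuasicoherent := tensorMod_isQuasicoherent _ _
  haveI hqMA : (CohB1.tensorMod (CohB1.tensorMod N A) A).IsQuasicoherent :=
    tensorMod_isQuasicoherent _ _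
  haveI hqB : (⨁ fun _ : Fin r => N).IsQuasicoherent := qc_biproduct_fin X r N
  haveI hqBB : (⨁ fun _ : Fin r => ⨁ fun _ : Fin r => N).IsQuasicoherent :=
    qc_biproduct_fin X r _
  haveI hqBM : (⨁ fun _ : Fin r => CohB1.tensorMod N A).IsQuasicoherent :=
    qc_biproduct_fin X r _
  haveI hqK : (kernel (kq N s)).IsQuasicoherent := qc_kernel _ hqBM hqMA
  haveI hqKK : (kernel (kK hA N s)).IsQuasicoherent := qc_kernel _ hqBB hqK
  have hH1BB : Subsingleton (Coh.HH X (⨁ fun _ : Fin r => ⨁ fun _ : Fin r => N) 1) :=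
    subsingleton_HH_biproduct X r 1 _ (fun _ => subsingleton_HH_biproduct X r 1 _ (fun _ => hH1N))
  let S₁ : ShortComplex X.Modules :=
    ShortComplex.mk (kernel.ι (kK hA N s)) (kK hA N s) (kernel.condition _)
  have hS₁ : S₁.ShortExact :=
    { exact := ShortComplex.exact_of_f_is_kernel _ (kernelIsKernel (kK hA N s))
      mono_f := inferInstanceAs (Mono (kernel.ι (kK hA N s)))
      epi_g := hepi }
  have hH1K : Subsingleton (Coh.HH X (kernel (kq N s)) 1) :=
    CL.subsingleton_right hS₁ 1 hH1BB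
      (Curve.subsingleton_HH_of_two_le k X hdim.le (kernel (kK hA N s)) 2 le_rfl)
  haveI hepiq := epi_kq X N s hgen
  let S₂ : ShortComplex X.Modules :=
    ShortComplex.mk (kernel.ι (kq N s)) (kq N s) (kernel.condition _)
  have hS₂ : S₂.ShortExact :=
    { exact := ShortComplex.exact_of_f_is_kernel _ (kernelIsKernel (kq N s))
      mono_f := inferInstanceAs (Mono (kernel.ι (kq N s)))
      epi_g := hepiq }
  -- conclusion
  rw [eq_top_iff]
  intro y _
  obtain ⟨σ, hσ⟩ := Groth.Agent.H5.Split.exists_lift_of_H1 k hS₂ hH1K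
    (homOfSection (CohB1.tensorMod (CohB1.tensorMod N A) A) y)
  have hy : y = (kq N s).app ⊤ (σ.app ⊤ (1 : Γ(X, ⊤))) := by
    have h1 : (σ ≫ kq N s).app ⊤ (1 : Γ(X, ⊤)) = y := by
      have hσ' : σ ≫ kq N s = homOfSection _ y := hσ
      rw [hσ', homOfSection_app_one]
      exact congrFun (congrArg (fun φ => (ConcreteCategory.hom φ : _ → _))
        ((CohB1.tensorMod (CohB1.tensorMod N A) A).presheaf.map_id _)) y
    exact h1.symm
  set w := σ.app ⊤ (1 : Γ(X, ⊤)) with hw
  have hwsum : w = ∑ i, (biproduct.ι (fun _ : Fin r => CohB1.tensorMod N A) i).app ⊤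
      ((biproduct.π (fun _ : Fin r => CohB1.tensorMod N A) i).app ⊤ w) := by
    have htot := biproduct.total (f := fun _ : Fin r => CohB1.tensorMod N A)
    have h1 : (∑ j : Fin r, biproduct.π (fun _ : Fin r => CohB1.tensorMod N A) j ≫
        biproduct.ι (fun _ : Fin r => CohB1.tensorMod N A) j).app ⊤ w = w := by
      rw [htot]; rfl
    rw [sum_app] at h1
    exact h1.symm
  rw [hy, hwsum, app_fsum]
  apply Submodule.sum_mem
  intro i _
  apply Submodule.subset_span
  refine ⟨((biproduct.π (fun _ : Fin r => CohB1.tensorMod N A) i).app ⊤ w,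
    SecTwist.val (s i) ⊤), ?_⟩
  change _ = (biproduct.ι (fun _ : Fin r => CohB1.tensorMod N A) i ≫ kq N s).app ⊤ _
  rw [kq, biproduct.ι_desc, mulS_app]
  rfl

end Groth.Agent.H5.SD
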