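import Mathlib
import Groth.Agent.Lib.Lead.QC.TensorPow
import Groth.Agent.Lib.Lead.QC.TensorComm
import Groth.Agent.Lib.Lead.QC.InvBasis

/-!
# Degree-one generation of the section ring of a power `L^d`.
-/

set_option autoImplicit false
set_option linter.style.haveILetI false
universe u
open CategoryTheory CategoryTheory.Limits AlgebraicGeometry TopologicalSpace Opposite

namespace Groth.Agent.H5.SD

open Groth.Agent.LD Groth.Agent.LD.QC

variable {X : Scheme.{u}}

/-- the products `a ⊗ b` of global sections span the global sections of `M ⊗ N`. -/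
def SpanAt (M N : X.Modules) : Prop :=
  Submodule.span Γ(X, ⊤) (Set.range (fun p : Γ(M, ⊤) × Γ(N, ⊤) =>
    SecTwist.tmul M N ⊤ p.1 p.2)) = ⊤

/-- pushing a spanning statement through a morphism. -/
lemma mem_span_app {F G : X.Modules} (φ : F ⟶ G) (S : Set Γ(F, ⊤)) (T : Set Γ(G, ⊤))
    (hST : ∀ x ∈ S, φ.app ⊤ x ∈ Submodule.span Γ(X, ⊤) T) (z : Γ(F, ⊤))
    (hz : z ∈ Submodule.span Γ(X, ⊤) S) : φ.app ⊤ z ∈ Submodule.span Γ(X, ⊤) T := by
  induction hz using Submodule.span_induction with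
  | mem x hx => exact hST x hx
  | zero => rw [map_zero]; exact Submodule.zero_mem _
  | add x y _ _ hx hy => rw [map_add]; exact Submodule.add_mem _ hx hy
  | smul r x _ hx =>
    rw [Scheme.Modules.Hom.app_smul]
    exact Submodule.smul_mem _ _ hx

/-- `tmul · v` maps spans into submodules. -/
lemma tmul_left_mem_of_mem_span (M N : X.Modules) (v : Γ(N, ⊤)) (S : Set Γ(M, ⊤))
    (P : Submodule Γ(X, ⊤) Γ(CohB1.tensorMod M N, ⊤))
    (hS : ∀ x ∈ S, SecTwist.tmul M N ⊤ x v ∈ P) (u : Γ(M, ⊤))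
    (hu : u ∈ Submodule.span Γ(X, ⊤) S) : SecTwist.tmul M N ⊤ u v ∈ P := by
  induction hu using Submodule.span_induction with
  | mem x hx => exact hS x hx
  | zero => exact (tmul_zero_left M N ⊤ v).symm ▸ P.zero_mem
  | add x y _ _ hx hy => exact (tmul_add_left M N ⊤ x y v).symm ▸ P.add_mem hx hy
  | smul r x _ hx => exact (tmul_smul_left M N ⊤ r x v).symm ▸ P.smul_mem r hx

variable (L : X.Modules) [L.IsQuasicoherent]

/-- the products of sections of `L^a` and `L^b` span the sections of `L^(a+b)`. -/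
def SpanPow (a b : ℕ) : Prop :=
  Submodule.span Γ(X, ⊤) (Set.range (fun p : Γ(CohB1.tensorPow L a, ⊤) × Γ(CohB1.tensorPow L b, ⊤) =>
    (powAddIso L a b).hom.app ⊤ (SecTwist.tmul (CohB1.tensorPow L a) (CohB1.tensorPow L b) ⊤ p.1 p.2)))
    = ⊤

/-- **products of sections of `L^a` and `L^b` span**, once the section ring is generated in
degree one from degree `j₀ ≤ a` on. -/
theorem spanPow_of_spanAt (j₀ : ℕ) (h : ∀ j, j₀ ≤ j → SpanAt (CohB1.tensorPow L j) L)
    (a : ℕ) (ha : j₀ ≤ a) : ∀ b : ℕ, SpanPow L a b := by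
  intro b
  induction b with
  | zero =>
    unfold SpanPow
    rw [eq_top_iff]
    rintro z -
    apply Submodule.subset_span
    refine ⟨(z, (1 : Γ(X, ⊤))), ?_⟩
    have h1 := SecTwist.unitorR_tmul (CohB1.tensorPow L a) ⊤ z (1 : Γ(X, ⊤))
    exact h1.trans (one_smul Γ(X, ⊤) z)
  | succ b ih =>
    unfold SpanPow at ih ⊢
    rw [eq_top_iff]
    rintro z -
    have hz : z ∈ Submodule.span Γ(X, ⊤) (Set.range (fun p :
        Γ(CohB1.tensorPow L (a + b), ⊤) × Γ(L, ⊤) =>
        SecTwist.tmul (CohB1.tensorPow L (a + b)) L ⊤ p.1 p.2)) := by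
      have := h (a + b) (by omega)
      unfold SpanAt at this
      rw [this]; trivial
    induction hz using Submodule.span_induction with
    | zero => exact Submodule.zero_mem _
    | add x y _ _ hx hy => exact Submodule.add_mem _ hx hy
    | smul r x _ hx => exact Submodule.smul_mem _ _ hx
    | mem x hx =>
      obtain ⟨⟨u, v⟩, rfl⟩ := hx
      have hu : u ∈ Submodule.span Γ(X, ⊤) (Set.range (fun p :
          Γ(CohB1.tensorPow L a, ⊤) × Γ(CohB1.tensorPow L b, ⊤) =>
          (powAddIso L a b).hom.app ⊤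
            (SecTwist.tmul (CohB1.tensorPow L a) (CohB1.tensorPow L b) ⊤ p.1 p.2))) := by
        rw [ih]; trivial
      let T : Set Γ(CohB1.tensorMod (CohB1.tensorPow L (a + b)) L, ⊤) :=
        Set.range (fun p : Γ(CohB1.tensorPow L a, ⊤) × Γ(CohB1.tensorPow L (b + 1), ⊤) =>
          (powAddIso L a (b + 1)).hom.app ⊤
            (SecTwist.tmul (CohB1.tensorPow L a) (CohB1.tensorPow L (b + 1)) ⊤ p.1 p.2))
      change SecTwist.tmul (CohB1.tensorPow L (a + b)) L ⊤ u v ∈
        (Submodule.span Γ(X, ⊤) T :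
          Submodule Γ(X, ⊤) Γ(CohB1.tensorMod (CohB1.tensorPow L (a + b)) L, ⊤))
      refine tmul_left_mem_of_mem_span (CohB1.tensorPow L (a + b)) L v _
        (Submodule.span Γ(X, ⊤) T) ?_ u hu
      rintro _ ⟨⟨p, q⟩, rfl⟩
      apply Submodule.subset_span
      refine ⟨(p, SecTwist.tmul (CohB1.tensorPow L b) L ⊤ q v), ?_⟩
      change (KoszTw.tensorMap (powAddIso L a b).hom (𝟙 L)).app ⊤
        ((tensorAssoc (CohB1.tensorPow L a) (CohB1.tensorPow L b) L).inv.app ⊤
          (SecTwist.tmul (CohB1.tensorPow L a) (CohB1.tensorMod (CohB1.tensorPow L b) L) ⊤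
            p (SecTwist.tmul (CohB1.tensorPow L b) L ⊤ q v))) = _
      rw [tensorAssoc_inv_app_tmul, KoszTw.tensorMap_tmul]
      rfl

/-- `(L^d)^N ≅ L^(d N)`. -/
noncomputable def powPowIso (d : ℕ) : (N : ℕ) →
    (CohB1.tensorPow (CohB1.tensorPow L d) N ≅ CohB1.tensorPow L (d * N))
  | 0 => Iso.refl _
  | N + 1 => tensorIso' (powPowIso d N) (Iso.refl (CohB1.tensorPow L d)) ≪≫
      powAddIso L (d * N) d

/-- sections of `O ⊗ A` are products. -/
lemma spanAt_unit (A : X.Modules) [A.IsQuasicoherent] : SpanAt (unitMod X) A := by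
  unfold SpanAt
  rw [eq_top_iff]
  rintro y -
  apply Submodule.subset_span
  refine ⟨((1 : Γ(X, ⊤)), (unitorL A).hom.app ⊤ y), ?_⟩
  have hinj : Function.Injective ((unitorL A).hom.app ⊤) :=
    (app_bijective_of_isIso (unitorL A).hom ⊤).1
  apply hinj
  change (unitorL A).hom.app ⊤ (SecTwist.tmul (unitMod X) A ⊤ (1 : Γ(X, ⊤)) _) = _
  rw [unitorL_hom_app_tmul, one_smul]

/-- **the section ring of `L^d` is generated in degree one**, once that of `L` is generated in
degree one from degree `j₀ ≤ d` on. -/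
theorem spanAt_pow (j₀ : ℕ) (h : ∀ j, j₀ ≤ j → SpanAt (CohB1.tensorPow L j) L)
    (d : ℕ) (hd : j₀ ≤ d) (hd1 : 1 ≤ d) [(CohB1.tensorPow L d).IsQuasicoherent] :
    ∀ N : ℕ, SpanAt (CohB1.tensorPow (CohB1.tensorPow L d) N) (CohB1.tensorPow L d) := by
  intro N
  rcases Nat.eq_zero_or_pos N with rfl | hN
  · exact spanAt_unit (CohB1.tensorPow L d)
  · have hdN : j₀ ≤ d * N := hd.trans (Nat.le_mul_of_pos_right d hN)
    have hB := spanPow_of_spanAt L j₀ h (d * N) hdN d
    unfold SpanPow at hB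
    unfold SpanAt
    rw [eq_top_iff]
    rintro z -
    -- transport `z` to `L^(dN + d)`
    let θ := powPowIso L d (N + 1)
    have hw : θ.hom.app ⊤ z ∈ Submodule.span Γ(X, ⊤) (Set.range (fun p :
        Γ(CohB1.tensorPow L (d * N), ⊤) × Γ(CohB1.tensorPow L d, ⊤) =>
        (powAddIso L (d * N) d).hom.app ⊤
          (SecTwist.tmul (CohB1.tensorPow L (d * N)) (CohB1.tensorPow L d) ⊤ p.1 p.2))) := by
      rw [hB]; trivial
    have hz : z = θ.inv.app ⊤ (θ.hom.app ⊤ z) := by
      have := (app_bijective_of_isIso θ.hom ⊤).1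
      apply this
      have h2 : θ.hom.app ⊤ (θ.inv.app ⊤ (θ.hom.app ⊤ z)) = θ.hom.app ⊤ z := by
        change (θ.inv ≫ θ.hom).app ⊤ (θ.hom.app ⊤ z) = _
        rw [θ.inv_hom_id]
        rfl
      exact h2.symm
    rw [hz]
    refine mem_span_app θ.inv _ _ ?_ _ hw
    rintro _ ⟨⟨x, y⟩, rfl⟩
    apply Submodule.subset_span
    refine ⟨((powPowIso L d N).inv.app ⊤ x, y), ?_⟩
    have h1 : (powAddIso L (d * N) d).inv.app ⊤ ((powAddIso L (d * N) d).hom.app ⊤
        (SecTwist.tmul (CohB1.tensorPow L (d * N)) (CohB1.tensorPow L d) ⊤ x y)) =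
        SecTwist.tmul (CohB1.tensorPow L (d * N)) (CohB1.tensorPow L d) ⊤ x y := by
      change ((powAddIso L (d * N) d).hom ≫ (powAddIso L (d * N) d).inv).app ⊤ _ = _
      rw [(powAddIso L (d * N) d).hom_inv_id]
      rfl
    change _ = (KoszTw.tensorMap (powPowIso L d N).inv (𝟙 (CohB1.tensorPow L d))).app ⊤
      ((powAddIso L (d * N) d).inv.app ⊤ ((powAddIso L (d * N) d).hom.app ⊤
        (SecTwist.tmul (CohB1.tensorPow L (d * N)) (CohB1.tensorPow L d) ⊤ x y)))
    rw [h1, KoszTw.tensorMap_tmul]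
    rfl

end Groth.Agent.H5.SD
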