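import Mathlib
import Groth.Agent.Lib.Helper5.SD.TwLin
import Groth.Agent.Lib.Helper5.SD.MonoCrit
import Groth.Agent.Lib.Helper5.Curve5.Exact
import Groth.Agent.Lib.Helper5.Curve2.E
import Groth.Agent.Lib.Helper5.Curve2.D
import Groth.Agent.Lib.Helper5.Glue.F
import Groth.Agent.Lib.Helper5.Curve4.VB1
import Groth.Agent.Lib.Lead.Curve.InvMono
import Groth.Agent.Lib.Lead.QC.TensorPow

/-!
# The dualizing module of an integral proper curve has generic rank one.
-/

set_option autoImplicit false
set_option linter.style.haveILetI false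
universe u
open CategoryTheory CategoryTheory.Limits AlgebraicGeometry TopologicalSpace Opposite

namespace Groth.Agent.H5.SD

open Groth.Agent.LD Groth.Agent.LD.QC Groth.Agent.LD.CL Groth.Agent.H5.Curve4
  Groth.Agent.H5.DegC

variable (k : Type u) [Field k] (X : Scheme.{u}) [X.Over (Spec (CommRingCat.of k))]
  [IsProper (X ↘ Spec (CommRingCat.of k))] [IsIntegral X]

/-- an integral proper curve carries an invertible module of positive degree. -/
theorem exists_invertible_deg_pos (hdim : topologicalKrullDim X = 1) :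
    ∃ M : X.Modules, PicF.IsInvertible M ∧ 0 < Curv2.deg k X M 1 := by
  haveI : IsNoetherian X := Groth.Agent.H5.Curve2.isNoetherian_of_proper k X
  haveI : Nonempty X := nonempty_of_dim_eq_one X hdim
  obtain ⟨x, -, hx⟩ := isClosed_univ.exists_closed_singleton (Set.univ_nonempty (α := X))
  have hne : genericPoint X ≠ x := by
    rintro rfl
    have h1 : (Set.univ : Set X) = {genericPoint X} := by
      have h2 := (genericPoint_spec X).def
      rw [hx.closure_eq] at h2
      exact h2.symm
    haveI : Subsingleton X := by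
      constructor
      intro a b
      have ha : a ∈ ({genericPoint X} : Set X) := h1 ▸ Set.mem_univ a
      have hb : b ∈ ({genericPoint X} : Set X) := h1 ▸ Set.mem_univ b
      rw [Set.mem_singleton_iff] at ha hb
      rw [ha, hb]
    have h3 := topologicalKrullDim_zero_of_discreteTopology X
    rw [hdim] at h3
    exact absurd h3 (by norm_num)
  have hsp : genericPoint X ⤳ x := (genericPoint_spec X).specializes (Set.mem_univ x)
  obtain ⟨L, s, hL, hs⟩ :=
    Groth.Agent.H5.Curve5.exists_invertible_section_genLocus_eq_compl_singleton hdim.le x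
      (genericPoint X) hsp hne
  have hη : genericPoint X ∈ CohB1.genLocus L s := by
    change genericPoint X ∈ ((CohB1.genLocus L s : X.Opens) : Set X)
    rw [hs]
    exact hne
  have hxn : x ∉ CohB1.genLocus L s := by
    intro h
    have h' : x ∈ ((CohB1.genLocus L s : X.Opens) : Set X) := h
    rw [hs] at h'
    exact h' rfl
  have hs0 : s ≠ 0 := Groth.Agent.H5.Curve2.ne_zero_of_mem_genLocus X s _ hη
  exact ⟨L, hL, Groth.Agent.H5.Curve2.deg_pos_of_section k X hdim.le hL s hs0 x hxn⟩

/-- `h¹` of an invertible module of negative degree. -/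
theorem finrank_H1_of_deg_neg (hdim : topologicalKrullDim X = 1) (N : X.Modules)
    (hN : PicF.IsInvertible N) (hdeg : Curv2.deg k X N 1 < 0) :
    (Module.finrank k (Coh.HH X N 1) : ℤ) = - Curv2.deg k X N 1 - Curv2.euler k X (unitMod X) := by
  haveI : N.IsQuasicoherent := qc_of_isInvertible _ hN
  have h0 : Module.finrank k (Coh.HH X N 0) = 0 := by
    by_contra hne
    rw [finrank_H0_eq_finrank_hom] at hne
    haveI : Nontrivial (unitMod X ⟶ N) :=
      Module.nontrivial_of_finrank_pos (R := k) (Nat.pos_of_ne_zero hne)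
    obtain ⟨σ, hσ⟩ := exists_ne (0 : unitMod X ⟶ N)
    have h1 := (Curve.deg_le_of_ne_zero k X hdim.le (isInvertible_unit X) hN σ hσ).1
    have h2 : Curv2.deg k X (unitMod X) 1 = 0 := Curve.deg_structureModule k X
    rw [h2] at h1
    omega
  have h1 := Curve.euler_eq_sub k X hdim.le N
  have h4 : Curv2.deg k X N 1 = Curv2.euler k X N - Curv2.euler k X (unitMod X) := by
    unfold Curv2.deg
    push_cast
    ring_nf
  rw [h0] at h1
  push_cast at h1
  linarith

variable {k X}
variable {ω : X.Modules} {t : Coh.HH X ω 1 →ₗ[k] k}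

/-- `dim Hom(N, ω) = -deg N - χ(O)` for `N` invertible of negative degree. -/
theorem IsDualizing.finrank_hom_of_deg_neg (hd : IsDualizing k X 1 ω t)
    (hdim : topologicalKrullDim X = 1) (N : X.Modules)
    (hN : PicF.IsInvertible N) (hdeg : Curv2.deg k X N 1 < 0) :
    (Module.finrank k (N ⟶ ω) : ℤ) = - Curv2.deg k X N 1 - Curv2.euler k X (unitMod X) := by
  haveI : IsNoetherian X := Groth.Agent.H5.Curve2.isNoetherian_of_proper k X
  have hNc : Coh.IsCoh N := Groth.Agent.H5.Curve2.isCoh_of_isInvertible hN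
  haveI := Curve.finite_HH k X _ hNc 1
  have e2 := (hd.equiv N hNc).finrank_eq
  rw [Subspace.dual_finrank_eq] at e2
  rw [e2]
  exact finrank_H1_of_deg_neg k X hdim N hN hdeg

/-- the rank inequality. -/
theorem IsDualizing.gdim_mul_deg_le (hd : IsDualizing k X 1 ω t) (hω : Coh.IsCoh ω)
    (hdim : topologicalKrullDim X = 1) (M : X.Modules)
    (hM : PicF.IsInvertible M) (hdeg : 0 < Curv2.deg k X M 1) :
    (gdim ω : ℤ) * Curv2.deg k X M 1 + Curv2.euler k X ω ≤
      Curv2.deg k X M 1 - Curv2.euler k X (unitMod X) := by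
  haveI : IsNoetherian X := Groth.Agent.H5.Curve2.isNoetherian_of_proper k X
  obtain ⟨N, hN, ⟨e0⟩⟩ := Groth.Agent.H5.Glue.exists_inverse M hM
  let e : CohB1.tensorMod N M ≅ unitMod X := tensorCommAll N M ≪≫ e0
  have hdegN : Curv2.deg k X N 1 = - Curv2.deg k X M 1 := by
    have h1 := Groth.Agent.H5.Curve2.deg_tensor k X hdim.le hM hN
    rw [Curve.deg_iso k X e0 1] at h1
    have h2 : Curv2.deg k X (unitMod X) 1 = 0 := Curve.deg_structureModule k X
    rw [h2] at h1
    linarith
  have e1 := (twistHomEquiv k e ω).finrank_eq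
  have e3 := finrank_H0_eq_finrank_hom k (CohB1.tensorMod ω M)
  have e4 := hd.finrank_hom_of_deg_neg hdim N hN (by rw [hdegN]; linarith)
  have hMc : Coh.IsCoh M := Groth.Agent.H5.Curve2.isCoh_of_isInvertible hM
  have hTc : Coh.IsCoh (CohB1.tensorMod ω M) :=
    Groth.Agent.H5.Curve2.isCoh_tensor_of_isInvertible hω hM
  haveI := hTc.1
  have hχ := Curve.euler_eq_sub k X hdim.le (CohB1.tensorMod ω M)
  have hδ := delta_eq_zero k hdim.le 1 M ((isInvertible_iff M).mp hM) ω hω
  unfold delta at hδ
  have hcomm : Curv2.euler k X (CohB1.tensorMod M ω) = Curv2.euler k X (CohB1.tensorMod ω M) :=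
    Curve.euler_iso k X (tensorCommAll M ω)
  rw [hcomm] at hδ
  have hn1 : (0 : ℤ) ≤ (Module.finrank k (Coh.HH X (CohB1.tensorMod ω M) 1) : ℤ) :=
    Int.natCast_nonneg _
  rw [e1, ← e3] at e4
  rw [hdegN] at e4
  push_cast at hδ
  linarith

/-- a dualizing module of generic rank zero is zero. -/
theorem IsDualizing.isZero_of_gdim_eq_zero (hd : IsDualizing k X 1 ω t) (hω : Coh.IsCoh ω)
    (hdim : topologicalKrullDim X = 1) (h0 : gdim ω = 0) : IsZero ω := by
  haveI : IsNoetherian X := Groth.Agent.H5.Curve2.isNoetherian_of_proper k X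
  have ht : IsTors ω := isTors_of_gdim_eq_zero hω h0
  have hsupp := dim_support_le_zero_of_isTors hdim.le hω ht
  haveI := hω.1
  have hH1 : Subsingleton (Coh.HH X ω 1) :=
    Groth.Agent.LD.GS.subsingleton_HH_of_support_dim _ hω.2 hsupp 0
  have h4 := hd.eq_zero _ hω hH1 (𝟙 ω)
  exact (IsZero.iff_id_eq_zero ω).mpr h4

/-- **the dualizing module of an integral proper curve has generic rank one.** -/
theorem IsDualizing.gdim_eq_one (hd : IsDualizing k X 1 ω t) (hω : Coh.IsCoh ω)
    (hdim : topologicalKrullDim X = 1) : gdim ω = 1 := by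
  obtain ⟨M, hM, hpos⟩ := exists_invertible_deg_pos k X hdim
  have hdn : ∀ n : ℕ, Curv2.deg k X (CohB1.tensorPow M n) 1 = n * Curv2.deg k X M 1 :=
    fun n => Groth.Agent.H5.Curve2.deg_tensorPow k X hdim.le hM n
  have key : ∀ n : ℕ, 0 < n →
      (gdim ω : ℤ) * (n * Curv2.deg k X M 1) + Curv2.euler k X ω ≤
        n * Curv2.deg k X M 1 - Curv2.euler k X (unitMod X) := by
    intro n hn
    have hMn := isInvertible_tensorPow hM n
    have hp : 0 < Curv2.deg k X (CohB1.tensorPow M n) 1 := by
      rw [hdn]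
      have : (0 : ℤ) < n := by exact_mod_cast hn
      positivity
    have := hd.gdim_mul_deg_le hω hdim (CohB1.tensorPow M n) hMn hp
    rwa [hdn] at this
  have hle : gdim ω ≤ 1 := by
    by_contra hcon
    push Not at hcon
    obtain ⟨n, hn0, hn⟩ : ∃ n : ℕ, 0 < n ∧
        - Curv2.euler k X (unitMod X) - Curv2.euler k X ω < n :=
      ⟨(- Curv2.euler k X (unitMod X) - Curv2.euler k X ω).toNat + 1, by omega, by
        push_cast
        have := Int.self_le_toNat (- Curv2.euler k X (unitMod X) - Curv2.euler k X ω)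
        linarith⟩
    have h1 := key n hn0
    have h2 : (2 : ℤ) ≤ (gdim ω : ℤ) := by exact_mod_cast hcon
    have h3 : (n : ℤ) ≤ n * Curv2.deg k X M 1 := by
      have : (0 : ℤ) ≤ n := Int.natCast_nonneg n
      nlinarith
    have h4 : (0 : ℤ) ≤ n * Curv2.deg k X M 1 := by
      have : (0 : ℤ) ≤ n := Int.natCast_nonneg n
      nlinarith
    nlinarith
  have hge : gdim ω ≠ 0 := by
    intro h0
    have hz := hd.isZero_of_gdim_eq_zero hω hdim h0
    have hfin : ∀ N : X.Modules, Module.finrank k (N ⟶ ω) = 0 := by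
      intro N
      haveI : Subsingleton (N ⟶ ω) := ⟨fun a b => hz.eq_of_tgt a b⟩
      exact Module.finrank_zero_of_subsingleton
    have hneg : ∀ n : ℕ, 0 < n → (n : ℤ) * Curv2.deg k X M 1 =
        Curv2.euler k X (unitMod X) := by
      intro n hn
      obtain ⟨N, hN, ⟨e0⟩⟩ := Groth.Agent.H5.Glue.exists_inverse (CohB1.tensorPow M n)
        (isInvertible_tensorPow hM n)
      have hdegN : Curv2.deg k X N 1 = - (n * Curv2.deg k X M 1) := by
        have h1 := Groth.Agent.H5.Curve2.deg_tensor k X hdim.le (isInvertible_tensorPow hM n) hN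
        rw [Curve.deg_iso k X e0 1, hdn] at h1
        have h2 : Curv2.deg k X (unitMod X) 1 = 0 := Curve.deg_structureModule k X
        rw [h2] at h1
        linarith
      have hlt : Curv2.deg k X N 1 < 0 := by
        rw [hdegN]
        have : (0 : ℤ) < n := by exact_mod_cast hn
        have : (0 : ℤ) < n * Curv2.deg k X M 1 := by positivity
        linarith
      have e4 := hd.finrank_hom_of_deg_neg hdim N hN hlt
      rw [hfin N, hdegN] at e4
      push_cast at e4
      linarith
    have h1 := hneg 1 one_pos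
    have h2 := hneg 2 two_pos
    push_cast at h1 h2
    linarith
  omega

end Groth.Agent.H5.SD
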