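import Mathlib
import Groth.Agent.Lib.Helper5.SD.Rank
import Groth.Agent.Lib.Helper5.Curve4.Tors2
import Groth.Agent.Lib.Helper5.Curve4.VB2
import Groth.Agent.Lib.Helper5.Curve2.L
import Groth.Agent.Lib.Lead.Curve.Torsion

/-!
# The dualizing module of a regular integral proper curve: invertible, `h⁰ = g`, `deg = 2g - 2`.
-/

set_option autoImplicit false
set_option linter.style.haveILetI false
universe u
open CategoryTheory CategoryTheory.Limits AlgebraicGeometry TopologicalSpace Opposite

namespace Groth.Agent.H5.SD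

open Groth.Agent.LD Groth.Agent.LD.QC Groth.Agent.LD.CL Groth.Agent.H5.Curve4
  Groth.Agent.H5.DegC

variable {k : Type u} [Field k] {X : Scheme.{u}} [X.Over (Spec (CommRingCat.of k))]
  [IsProper (X ↘ Spec (CommRingCat.of k))] [IsIntegral X]
  {ω : X.Modules} {t : Coh.HH X ω 1 →ₗ[k] k}

variable (k) in
include k in
/-- a coherent module supported at closed points has no `H¹`. -/
theorem subsingleton_H1_of_support_closed_points' (hdim : topologicalKrullDim X ≤ 1)
    (T : X.Modules) (hT : Coh.IsCoh T)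
    (hpt : ∀ x : X, ¬ Subsingleton (T.presheaf.stalk x) → IsClosed ({x} : Set X)) :
    Subsingleton (Coh.HH X T 1) := by
  haveI := hT.1
  have e1 := Curve.euler_of_support_closed_points k X T hT hpt
  have e2 := Curve.euler_eq_sub k X hdim T
  haveI : Module.Finite k (Coh.HH X T 1) := Curve.finite_HH k X _ hT 1
  have h0 : Module.finrank k (Coh.HH X T 1) = 0 := by
    rw [e1] at e2
    omega
  exact Module.finrank_zero_iff.mp h0

/-- on a regular curve the dualizing module is finite locally free. -/
theorem IsDualizing.isFinLocFree (hd : IsDualizing k X 1 ω t) (hω : Coh.IsCoh ω)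
    (hdim : topologicalKrullDim X = 1)
    (hreg : ∀ x : X, IsRegularLocalRing (X.presheaf.stalk x)) : FlatMod.IsFinLocFree ω := by
  haveI : IsNoetherian X := Groth.Agent.H5.Curve2.isNoetherian_of_proper k X
  by_contra hnf
  obtain ⟨T, i, hi, hTc, hTnz, x, hxne, hTsupp⟩ :=
    exists_torsion_sub_of_not_locFree hdim.le hreg ω hω hnf
  have hpt : ∀ y : X, ¬ Subsingleton (T.presheaf.stalk y) → IsClosed ({y} : Set X) := by
    intro y hy
    have hyx : y = x := by
      by_contra h
      exact hy (hTsupp y h)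
    rw [hyx]
    exact Curve.isClosed_singleton_of_ne_genericPoint hdim.le x hxne
  have hH1 := subsingleton_H1_of_support_closed_points' k hdim.le T hTc hpt
  have h0 := hd.eq_zero T hTc hH1 i
  haveI := hi
  apply hTnz
  exact IsZero.of_mono_eq_zero i h0

/-- **on a regular curve the dualizing module is invertible.** -/
theorem IsDualizing.isInvertible (hd : IsDualizing k X 1 ω t) (hω : Coh.IsCoh ω)
    (hdim : topologicalKrullDim X = 1)
    (hreg : ∀ x : X, IsRegularLocalRing (X.presheaf.stalk x)) : PicF.IsInvertible ω := by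
  obtain ⟨r, hr⟩ := exists_rank (hd.isFinLocFree hω hdim hreg)
  have h1 : gdim ω = r := gdim_of_rank hr
  have h2 := hd.gdim_eq_one hω hdim
  have h3 : r = 1 := by omega
  subst h3
  exact (isInvertible_iff ω).mpr hr

/-- `h⁰(ω) = g`. -/
theorem IsDualizing.finrank_H0 (hd : IsDualizing k X 1 ω t) :
    Module.finrank k (Coh.HH X ω 0) = Curv2.genus k X := by
  haveI : IsNoetherian X := Groth.Agent.H5.Curve2.isNoetherian_of_proper k X
  rw [finrank_H0_eq_finrank_hom]
  have hOc : Coh.IsCoh (unitMod X) :=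
    Groth.Agent.H5.Curve2.isCoh_of_isInvertible (isInvertible_unit X)
  haveI : Module.Finite k (Coh.HH X (unitMod X) 1) := Curve.finite_HH k X _ hOc 1
  have h1 := (hd.equiv (unitMod X) hOc).finrank_eq
  rw [Subspace.dual_finrank_eq] at h1
  exact h1

/-- `h¹(ω) = h⁰(O)` when `ω` is invertible. -/
theorem IsDualizing.finrank_H1 (hd : IsDualizing k X 1 ω t) (hinv : PicF.IsInvertible ω) :
    Module.finrank k (Coh.HH X ω 1) = Module.finrank k (Coh.HH X (unitMod X) 0) := by
  haveI : IsNoetherian X := Groth.Agent.H5.Curve2.isNoetherian_of_proper k X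
  have hω : Coh.IsCoh ω := Groth.Agent.H5.Curve2.isCoh_of_isInvertible hinv
  obtain ⟨ω', hω', ⟨e0⟩⟩ := Groth.Agent.H5.Glue.exists_inverse ω hinv
  have e1 := (twistHomEquiv k e0 ω).finrank_eq
  have e2 := finrank_H0_eq_finrank_hom k (CohB1.tensorMod ω ω')
  have e3 := Groth.Agent.H5.Curve2.finrank_HH_iso k _ e0 0
  haveI : Module.Finite k (Coh.HH X ω 1) := Curve.finite_HH k X _ hω 1
  have e4 := (hd.equiv ω hω).finrank_eq
  rw [Subspace.dual_finrank_eq] at e4
  rw [← e4, e1, ← e2, e3]

/-- **`deg ω = 2g - 2`** on a regular curve with `h⁰(O) = 1`. -/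
theorem IsDualizing.deg_eq (hd : IsDualizing k X 1 ω t) (hinv : PicF.IsInvertible ω)
    (hdim : topologicalKrullDim X = 1)
    (h0 : Module.finrank k (Coh.HH X (Coh.structureModule X) 0) = 1) :
    Curv2.deg k X ω 1 = 2 * (Curv2.genus k X : ℤ) - 2 := by
  haveI : ω.IsQuasicoherent := qc_of_isInvertible _ hinv
  haveI : (unitMod X).IsQuasicoherent := qc_of_isInvertible _ (isInvertible_unit X)
  have h1 := Curve.euler_eq_sub k X hdim.le ω
  have h3 := Curve.euler_eq_sub k X hdim.le (unitMod X)
  have hO : Module.finrank k (Coh.HH X (unitMod X) 0) = 1 := h0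
  have hg : Module.finrank k (Coh.HH X (unitMod X) 1) = Curv2.genus k X := rfl
  rw [hO, hg] at h3
  rw [hd.finrank_H0, hd.finrank_H1 hinv, hO] at h1
  have h4 : Curv2.deg k X ω 1 = Curv2.euler k X ω - Curv2.euler k X (unitMod X) := by
    unfold Curv2.deg
    push_cast
    ring_nf
  rw [h4, h1, h3]
  push_cast
  ring

end Groth.Agent.H5.SD
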