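import Mathlib
import Groth.Agent.Lib.Helper5.SD.GG3
import Groth.Agent.Lib.Helper5.SD.TwLin
import Groth.Agent.Lib.Helper5.Curve6.PtTw
import Groth.Agent.Lib.Helper5.Curve6.PtSeq
import Groth.Agent.Lib.Lead.QC.GlobGen2

/-!
# Base points and the drop of `h⁰` (S11330).
-/

set_option autoImplicit false
set_option linter.style.haveILetI false
universe u
open CategoryTheory CategoryTheory.Limits AlgebraicGeometry TopologicalSpace Opposite

namespace Groth.Agent.H5.SD

open Groth.Agent.LD Groth.Agent.LD.QC Groth.Agent.H5.DegC Groth.Agent.LD.CL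

section General

variable {X : Scheme.{u}}

/-- a section of `I_x ⊗ L` does not generate `L` at `x`. -/
theorem notMem_genLocus_of_factors (L : X.Modules) [L.IsQuasicoherent]
    (hL : PicF.IsInvertible L) (x : X) (hx : IsClosed ({x} : Set X))
    (τ : unitMod X ⟶ CohB1.tensorMod
        (ClSub.idealMod (Scheme.IdealSheafData.vanishingIdeal ⟨{x}, hx⟩)) L) :
    x ∉ CohB1.genLocus L
      (τ ≫ twistIncl (ClSub.idealModι (Scheme.IdealSheafData.vanishingIdeal ⟨{x}, hx⟩)) L) := by
  let Z : Closeds X := ⟨{x}, hx⟩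
  let J := Scheme.IdealSheafData.vanishingIdeal Z
  let ι := ClSub.idealModι J
  let μ := twistIncl ι L
  let σ : unitMod X ⟶ L := τ ≫ μ
  let t : Γ(CohB1.tensorMod (ClSub.idealMod J) L, ⊤) := sectionOfHom τ
  have hσt : sectionOfHom σ = μ.app ⊤ t := rfl
  obtain ⟨U₀, e₀, hxU₀, he₀⟩ := (isInvertible_iff_exists_isBasisOver L).mp hL x
  obtain ⟨U, hU, hxU, hUU₀⟩ := exists_isAffineOpen_mem_and_subset (x := x) (U := U₀) hxU₀
  have hUU₀' : U ≤ U₀ := hUU₀
  have he := he₀.mono hUU₀'
  obtain ⟨c, hc⟩ := (bijective_tmul_of_isBasisOver (ClSub.idealMod J) L he U le_rfl).2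
    ((CohB1.tensorMod (ClSub.idealMod J) L).presheaf.map (homOfLE (le_top : U ≤ ⊤)).op t)
  have hc' : SecTwist.tmul (ClSub.idealMod J) L U c
      (L.presheaf.map (homOfLE (le_refl U)).op (L.presheaf.map (homOfLE hUU₀').op e₀)) =
      (CohB1.tensorMod (ClSub.idealMod J) L).presheaf.map (homOfLE (le_top : U ≤ ⊤)).op t := hc
  rw [res_self] at hc'
  have hval : SecTwist.val σ U =
      (show Γ(X, U) from ι.app U c) • L.presheaf.map (homOfLE hUU₀').op e₀ := by
    have h1 := val_homOfSection L (sectionOfHom σ) U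
    rw [homOfSection_sectionOfHom] at h1
    rw [h1, hσt, ← app_res, ← hc', twistIncl_app_tmul]
  have hG := genLocus_inf_eq_basicOpen σ he _ hval
  have h2 : (show Γ(X, U) from ι.app U c) ∈ J.ideal ⟨U, hU⟩ :=
    (exists_idealModι_app_eq_iff J ⟨U, hU⟩ _).mp ⟨c, rfl⟩
  have h3 := notMem_basicOpen_of_mem_vanishingIdeal Z ⟨U, hU⟩ _ h2 x hxU rfl
  intro hmem
  apply h3
  rw [← hG]
  exact ⟨hmem, hxU⟩

end General

variable (k : Type u) [Field k] (X : Scheme.{u}) [X.Over (Spec (CommRingCat.of k))]
  [IsProper (X ↘ Spec (CommRingCat.of k))]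

/-- **a closed point is not a base point iff `h⁰` drops.** -/
theorem exists_mem_genLocus_iff_finrank_lt (L : X.Modules) (hL : PicF.IsInvertible L) (x : X)
    (hx : IsClosed ({x} : Set X)) :
    (∃ σ : unitMod X ⟶ L, x ∈ CohB1.genLocus L σ) ↔
      Module.finrank k (Coh.HH X (CohB1.tensorMod
        (ClSub.idealMod (Scheme.IdealSheafData.vanishingIdeal ⟨{x}, hx⟩)) L) 0) <
        Module.finrank k (Coh.HH X L 0) := by
  haveI : IsNoetherian X := Groth.Agent.H5.Curve2.isNoetherian_of_proper k X
  haveI : L.IsQuasicoherent := qc_of_isInvertible _ hL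
  let J := Scheme.IdealSheafData.vanishingIdeal (⟨{x}, hx⟩ : Closeds X)
  let IL := CohB1.tensorMod (ClSub.idealMod J) L
  have hOc : Coh.IsCoh (unitMod X) :=
    Groth.Agent.H5.Curve2.isCoh_of_isInvertible (isInvertible_unit X)
  have hLc : Coh.IsCoh L := Groth.Agent.H5.Curve2.isCoh_of_isInvertible hL
  have hIc : Coh.IsCoh (ClSub.idealMod J) := by
    haveI := (shortExact_idealMod J).mono_f
    exact isCoh_of_mono (ClSub.idealModι J) inferInstance hOc
  have hILc : Coh.IsCoh IL := Groth.Agent.H5.Curve2.isCoh_tensor_of_isInvertible hIc hL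
  haveI : Mono (twistIncl (ClSub.idealModι J) L) := mono_twistIncl _ L hL
  let c : (unitMod X ⟶ IL) →ₗ[k] (unitMod X ⟶ L) :=
    { toFun := fun φ => φ ≫ twistIncl (ClSub.idealModι J) L
      map_add' := fun φ ψ => Preadditive.add_comp _ _ _ _ _ _
      map_smul' := fun a φ => Linear.smul_comp _ _ _ _ _ _ }
  have hcinj : Function.Injective c := fun φ ψ h =>
    (cancel_mono (twistIncl (ClSub.idealModι J) L)).mp h
  rw [finrank_H0_eq_finrank_hom k IL, finrank_H0_eq_finrank_hom k L]
  haveI : Module.Finite k (unitMod X ⟶ L) := by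
    haveI := Curve.finite_HH k X _ hLc 0
    letI := PF.moduleΓ k L
    exact Module.Finite.equiv ((PF.H0LinearEquivΓ k L).trans (secEquiv k L).symm)
  constructor
  · rintro ⟨σ, hσ⟩
    have hnr : σ ∉ LinearMap.range c := by
      rintro ⟨τ, rfl⟩
      exact notMem_genLocus_of_factors L hL x hx τ hσ
    have hlt : LinearMap.range c ≠ ⊤ := fun h => hnr (h ▸ Submodule.mem_top)
    have h1 := Submodule.finrank_lt hlt
    rw [LinearMap.finrank_range_of_inj hcinj] at h1
    exact h1
  · intro hlt
    by_contra hcon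
    push Not at hcon
    have hcs : Function.Surjective c := fun σ =>
      exists_lift_of_notMem_genLocus L hL x hx σ (hcon σ)
    haveI : Module.Finite k (unitMod X ⟶ IL) := by
      haveI := Curve.finite_HH k X _ hILc 0
      letI := PF.moduleΓ k IL
      exact Module.Finite.equiv ((PF.H0LinearEquivΓ k IL).trans (secEquiv k IL).symm)
    have := LinearMap.finrank_le_finrank_of_surjective hcs
    omega

variable [IsIntegral X]

/-- **S11330**. -/
theorem isGloballyGenerated_iff_h0_drop [IsAlgClosed k] (L : X.Modules)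
    (hL : PicF.IsInvertible L) :
    Curv2.IsGloballyGenerated L ↔
      ∀ (P : X) (hP : IsClosed ({P} : Set X)),
        Module.finrank k (Coh.HH X (CohB1.tensorMod L (ClSub.idealMod
          (Scheme.IdealSheafData.vanishingIdeal ⟨{P}, hP⟩))) 0) + 1 =
          Module.finrank k (Coh.HH X L 0) := by
  haveI : IsNoetherian X := Groth.Agent.H5.Curve2.isNoetherian_of_proper k X
  have hcomm : ∀ (P : X) (hP : IsClosed ({P} : Set X)),
      Module.finrank k (Coh.HH X (CohB1.tensorMod L (ClSub.idealMod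
        (Scheme.IdealSheafData.vanishingIdeal ⟨{P}, hP⟩))) 0) =
      Module.finrank k (Coh.HH X (CohB1.tensorMod (ClSub.idealMod
        (Scheme.IdealSheafData.vanishingIdeal ⟨{P}, hP⟩)) L) 0) := fun P hP =>
    Groth.Agent.H5.Curve2.finrank_HH_iso k _ (tensorCommAll _ _) 0
  constructor
  · rintro ⟨K, p, hp⟩ P hP
    obtain ⟨j, hj⟩ := exists_mem_genLocus_of_epi_free L hL p hp P
    have h1 := (exists_mem_genLocus_iff_finrank_lt k X L hL P hP).mp ⟨_, hj⟩
    rw [← hcomm P hP] at h1
    have hv : Groth.Agent.H5.Snap.vI P = Scheme.IdealSheafData.vanishingIdeal ⟨{P}, hP⟩ :=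
      congrArg Scheme.IdealSheafData.vanishingIdeal (Closeds.ext hP.closure_eq)
    have hsupp : topologicalKrullDim ((Scheme.IdealSheafData.vanishingIdeal
        (⟨{P}, hP⟩ : Closeds X)).support : Set X) ≤ 0 := by
      have h3 : ((Scheme.IdealSheafData.vanishingIdeal (⟨{P}, hP⟩ : Closeds X)).support : Set X) =
          {P} := by
        rw [Scheme.IdealSheafData.coe_support_vanishingIdeal]
        rfl
      rw [h3]
      exact topologicalKrullDim_zero_of_discreteTopology _
    have h2 := (Groth.Agent.H5.Curve6.h0_tensor_idealMod_bounds k X _ hsupp L hL).2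
    have h4 := Groth.Agent.H5.Curve6.finrank_H0_quotMod_vI k X P
    rw [hv] at h4
    rw [h4] at h2
    omega
  · intro h
    haveI : CompactSpace X := inferInstance
    apply isGloballyGenerated_of_closedPoints L
    intro P hP
    apply (exists_mem_genLocus_iff_finrank_lt k X L hL P hP).mpr
    rw [← hcomm P hP]
    have := h P hP
    omega

end Groth.Agent.H5.SD
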