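import Mathlib
import Groth.Agent.Lib.Helper5.Curve6.IdealInv
import Groth.Agent.Lib.Lead.QC.SerreCore

/-!
# Powers of the ideal of a closed point with principal maximal ideal are effective Cartier.
-/

set_option autoImplicit false
universe u
open CategoryTheory CategoryTheory.Limits AlgebraicGeometry TopologicalSpace Opposite

namespace Groth.Agent.H5.SD

open Groth.Agent.H5.Curve3 Groth.Agent.H5.Curve6 Groth.Agent.LD.QC

variable {X : Scheme.{u}}

/-- **pointwise version**: a nonzero ideal sheaf on an integral locally Noetherian scheme is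
principal, generated by a nonzerodivisor, near a point whose local ring has principal maximal
ideal. -/
theorem exists_principal_chart [IsIntegral X] [IsLocallyNoetherian X] (y : X)
    (hpr : (IsLocalRing.maximalIdeal (X.presheaf.stalk y)).IsPrincipal)
    (I : X.IdealSheafData) (hI : I ≠ ⊥) :
    ∃ U : X.affineOpens, y ∈ U.1 ∧
      ∃ f : Γ(X, U.1), f ∈ nonZeroDivisors Γ(X, U.1) ∧ I.ideal U = Ideal.span {f} := by
  obtain ⟨_, ⟨U, hU, rfl⟩, hxU, -⟩ :=
    X.isBasis_affineOpens.exists_subset_of_mem_open (Set.mem_univ y) isOpen_univ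
  haveI : IsNoetherianRing Γ(X, U) := IsLocallyNoetherian.component_noetherian ⟨U, hU⟩
  letI : Algebra Γ(X, U) (X.presheaf.stalk y) :=
    TopCat.Presheaf.algebra_section_stalk X.presheaf ⟨y, hxU⟩
  haveI hloc : IsLocalization.AtPrime (X.presheaf.stalk y)
      (hU.primeIdealOf ⟨y, hxU⟩).asIdeal := hU.isLocalization_stalk ⟨y, hxU⟩
  haveI : IsPrincipalIdealRing (X.presheaf.stalk y) :=
    ((tfae_of_isNoetherianRing_of_isLocalRing_of_isDomain (X.presheaf.stalk y)).out 4 0).mp hpr
  have hfg : (I.ideal ⟨U, hU⟩).FG := (isNoetherianRing_iff_ideal_fg _).mp inferInstance _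
  obtain ⟨g, hg, a, haI, hgen, hmul⟩ :=
    exists_smul_le_span_ideal (hU.primeIdealOf ⟨y, hxU⟩).asIdeal (I.ideal ⟨U, hU⟩) hfg
      (X.presheaf.stalk y) (IsPrincipalIdealRing.principal _)
  have hyg : y ∈ X.basicOpen g := (mem_basicOpen_iff_notMem_primeIdealOf hU g y hxU).mpr hg
  have hne : I.ideal ⟨U, hU⟩ ≠ ⊥ := fun h0 =>
    hI (ideal_eq_bot_of_ideal_eq_bot I ⟨U, hU⟩ ⟨y, hxU⟩ h0)
  refine ⟨X.affineBasicOpen (U := ⟨U, hU⟩) g, hyg,
    X.presheaf.map (homOfLE (X.basicOpen_le g)).op a, ?_, ?_⟩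
  · haveI : Nonempty (X.basicOpen g) := ⟨⟨y, hyg⟩⟩
    haveI : IsDomain Γ(X, X.basicOpen g) := inferInstance
    change (X.presheaf.map (homOfLE (X.basicOpen_le g)).op).hom a ∈
      nonZeroDivisors Γ(X, X.basicOpen g)
    apply mem_nonZeroDivisors_of_ne_zero
    intro h0
    apply hne
    have h1 : algebraMap Γ(X, U) (X.presheaf.stalk y) a =
        X.presheaf.germ (X.basicOpen g) y hyg
          (X.presheaf.map (homOfLE (X.basicOpen_le g)).op a) := by
      rw [TopCat.Presheaf.germ_res_apply]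
      rfl
    rw [h1, h0, map_zero] at hgen
    have h2 : Ideal.span {(0 : X.presheaf.stalk y)} = ⊥ := by simp
    rw [h2, Ideal.map_eq_bot_iff_le_ker] at hgen
    rw [eq_bot_iff]
    intro b hb
    have h3 := hgen hb
    rw [RingHom.mem_ker] at h3
    rw [Ideal.mem_bot]
    have hinj : Function.Injective (algebraMap Γ(X, U) (X.presheaf.stalk y)) :=
      germ_injective_of_isIntegral X y hxU
    apply hinj
    rw [map_zero]
    exact h3
  · rw [← I.map_ideal_basicOpen ⟨U, hU⟩ g]
    apply le_antisymm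
    · refine Ideal.map_le_iff_le_comap.mpr ?_
      intro b hb
      obtain ⟨c, hc⟩ := hmul b hb
      rw [Ideal.mem_comap]
      have hu : IsUnit ((X.presheaf.map (homOfLE (X.basicOpen_le g)).op).hom g) :=
        X.toRingedSpace.isUnit_res_basicOpen g
      obtain ⟨w, hw⟩ := hu
      have h2 := congrArg (X.presheaf.map (homOfLE (X.basicOpen_le g)).op).hom hc
      rw [map_mul, map_mul, ← hw] at h2
      have h3 : (X.presheaf.map (homOfLE (X.basicOpen_le g)).op).hom b =
          (↑w⁻¹ * (X.presheaf.map (homOfLE (X.basicOpen_le g)).op).hom c) *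
            (X.presheaf.map (homOfLE (X.basicOpen_le g)).op).hom a := by
        rw [mul_assoc, ← h2, ← mul_assoc, Units.inv_mul, one_mul]
      rw [h3]
      exact Ideal.mul_mem_left _ _ (Ideal.subset_span rfl)
    · rw [Ideal.span_le, Set.singleton_subset_iff]
      exact Ideal.mem_map_of_mem _ haI


/-- powers of the ideal of a closed point whose local ring has principal maximal ideal are
effective Cartier divisors. -/
theorem isEffCartierIdeal_point_pow [IsIntegral X] [IsLocallyNoetherian X] (p : X)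
    (hp : IsClosed ({p} : Set X))
    (hpr : (IsLocalRing.maximalIdeal (X.presheaf.stalk p)).IsPrincipal)
    (hnt : ∃ y : X, y ≠ p) (n : ℕ) :
    BlowUp.IsEffCartierIdeal ((Scheme.IdealSheafData.vanishingIdeal ⟨{p}, hp⟩) ^ n) := by
  let Z : Closeds X := ⟨{p}, hp⟩
  let J := Scheme.IdealSheafData.vanishingIdeal Z
  have htop : ∀ y : X, y ≠ p → ∃ U : X.affineOpens, y ∈ U.1 ∧ (J ^ n).ideal U = ⊤ := by
    intro y hy
    let V₀ : X.Opens := ⟨({p} : Set X)ᶜ, hp.isOpen_compl⟩
    have hyV₀ : y ∈ V₀ := hy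
    obtain ⟨W, hW, hyW, hWle⟩ := exists_isAffineOpen_mem_and_subset (x := y) (U := V₀) hyV₀
    have hd : Disjoint ((⟨W, hW⟩ : X.affineOpens).1 : Set X) (Z : Set X) := by
      rw [Set.disjoint_left]
      intro z hzW hzZ
      exact hWle hzW hzZ
    have h1 := vanishingIdeal_ideal_eq_top Z ⟨W, hW⟩ hd
    refine ⟨⟨W, hW⟩, hyW, ?_⟩
    rw [Scheme.IdealSheafData.ideal_pow]
    change (J.ideal ⟨W, hW⟩) ^ n = ⊤
    have h1' : J.ideal ⟨W, hW⟩ = ⊤ := h1
    rw [h1']
    exact Ideal.top_pow _ n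
  have hne : J ^ n ≠ ⊥ := by
    obtain ⟨y₀, hy₀⟩ := hnt
    obtain ⟨U, hyU, hU⟩ := htop y₀ hy₀
    intro h0
    rw [h0, Scheme.IdealSheafData.ideal_bot] at hU
    haveI : Nonempty U.1 := ⟨⟨y₀, hyU⟩⟩
    haveI : IsDomain Γ(X, U.1) := inferInstance
    exact bot_ne_top hU
  intro y
  by_cases hy : y = p
  · rw [hy]
    exact exists_principal_chart p hpr (J ^ n) hne
  · obtain ⟨U, hyU, hU⟩ := htop y hy
    refine ⟨U, hyU, 1, one_mem _, ?_⟩
    rw [hU, Ideal.span_singleton_one]

end Groth.Agent.H5.SD
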