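import Mathlib
import Groth.Agent.Lib.Helper5.SD.PtPow
import Groth.Agent.Lib.Helper5.SD.GG3
import Groth.Agent.Lib.Helper5.Curve6.PtDeg
import Groth.Agent.Lib.Helper5.Curve3.SmInt
import Groth.Agent.Lib.Helper5.Curve1.G
import Groth.Agent.Lib.Helper5.Split.Split2
import Groth.Agent.Lib.Helper5.AG.ProjProper
import Groth.Agent.Lib.Lead.QC.IdealMul

/-!
# S7933: twists by a smooth rational point on a curve of arithmetic genus one.
-/

set_option autoImplicit false
set_option linter.style.haveILetI false
universe u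
open CategoryTheory CategoryTheory.Limits AlgebraicGeometry TopologicalSpace Opposite

namespace Groth.Agent.H5.SD

open Groth.Agent.LD Groth.Agent.LD.QC Groth.Agent.H5.DegC Groth.Agent.LD.CL
  Groth.Agent.H5.Curve6 Groth.Agent.H5.Snap

variable (k : Type u) [Field k] (C : Scheme.{u}) [C.Over (Spec (CommRingCat.of k))]
  [IsProper (C ↘ Spec (CommRingCat.of k))] [IsIntegral C]

/-- on an integral proper scheme with a rational point the global functions are the constants. -/
theorem finrank_HH0_eq_one_of_rational_point (p : C)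
    (hrat : Function.Surjective (Curv2.resMap k C p)) :
    Module.finrank k (Coh.HH C (Coh.structureModule C) 0) = 1 := by
  rw [FF.finrank_HH0_eq]
  letI : Algebra k Γ(C, ⊤) := (Coh.toGlobal (C ↘ Spec (CommRingCat.of k))).toAlgebra
  haveI := Curve.isLocallyNoetherian k C
  haveI : Module.Finite k (Coh.HH C (Coh.structureModule C) 0) :=
    Curve.finite_HH k C _ (PF.isCoh_unitMod C) 0
  haveI : Module.Finite k Γ(C, ⊤) := Module.Finite.equiv (FF.HH0LinearEquivΓ k C)
  haveI : IsDomain Γ(C, ⊤) := inferInstance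
  haveI : IsArtinianRing Γ(C, ⊤) := IsArtinianRing.of_finite k Γ(C, ⊤)
  have hfield : IsField Γ(C, ⊤) := IsArtinianRing.isField_of_isDomain Γ(C, ⊤)
  let ev : Γ(C, ⊤) →+* C.residueField p :=
    (C.residue p).hom.comp (C.presheaf.germ ⊤ p trivial).hom
  have hev : ∀ c : k, ev (algebraMap k Γ(C, ⊤) c) = Curv2.resMap k C p c := fun c => rfl
  have hinj : Function.Injective ev := by
    rw [injective_iff_map_eq_zero]
    intro a ha
    by_contra hne
    obtain ⟨b, hb⟩ := hfield.mul_inv_cancel hne
    have h1 := congrArg ev hb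
    rw [map_mul, ha, zero_mul, map_one] at h1
    exact zero_ne_one h1
  have hbij : Function.Bijective (algebraMap k Γ(C, ⊤)) := by
    refine ⟨(algebraMap k Γ(C, ⊤)).injective, fun a => ?_⟩
    obtain ⟨c, hc⟩ := hrat (ev a)
    exact ⟨c, hinj (by rw [hev, hc])⟩
  exact (LinearEquiv.ofBijective (Algebra.linearMap k Γ(C, ⊤)) hbij).finrank_eq.symm.trans
    (Module.finrank_self k)

attribute [local instance] Curv2.resAlgebra in
/-- `h⁰(O/I_p) = 1` at a rational closed point. -/
theorem finrank_H0_quotMod_rational_point (p : C) (hp : IsClosed ({p} : Set C))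
    (hrat : Function.Surjective (Curv2.resMap k C p)) :
    Module.finrank k (Coh.HH C
      (ClSub.quotMod (Scheme.IdealSheafData.vanishingIdeal ⟨{p}, hp⟩)) 0) = 1 := by
  have h1 := finrank_H0_quotMod_ker k C p hp
  rw [ker_fromSpecResidueField] at h1
  have h2 : vI p = Scheme.IdealSheafData.vanishingIdeal ⟨{p}, hp⟩ :=
    congrArg Scheme.IdealSheafData.vanishingIdeal (Closeds.ext hp.closure_eq)
  rw [h2] at h1
  rw [h1]
  have hbij : Function.Bijective (algebraMap k (C.residueField p)) :=
    ⟨(algebraMap k (C.residueField p)).injective, hrat⟩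
  exact (LinearEquiv.ofBijective (Algebra.linearMap k (C.residueField p)) hbij).finrank_eq.symm.trans
    (Module.finrank_self k)

/-- invertibility and degree of `O(np)` for a regular rational closed point `p`. -/
theorem facts_point_pow (hdim : topologicalKrullDim C = 1) (p : C)
    (hp : IsClosed ({p} : Set C)) (hrat : Function.Surjective (Curv2.resMap k C p))
    (hreg : IsRegularLocalRing (C.presheaf.stalk p)) (n : ℕ) (hn : 1 ≤ n) (L : C.Modules)
    (hL : ClSub.IsInverseOf L
      (ClSub.idealMod ((Scheme.IdealSheafData.vanishingIdeal ⟨{p}, hp⟩) ^ n))) :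
    PicF.IsInvertible L ∧ Curv2.deg k C L 1 = n := by
  haveI : IsNoetherian C := Groth.Agent.H5.Curve2.isNoetherian_of_proper k C
  let J := Scheme.IdealSheafData.vanishingIdeal (⟨{p}, hp⟩ : Closeds C)
  have hpne : p ≠ genericPoint C := by
    intro h
    have h1 : (Set.univ : Set C) = {p} := by
      have h2 := (genericPoint_spec C).def
      rw [← h, hp.closure_eq] at h2
      exact h2.symm
    haveI : Subsingleton C := by
      constructor
      intro a b
      have ha : a ∈ ({p} : Set C) := h1 ▸ Set.mem_univ a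
      have hb : b ∈ ({p} : Set C) := h1 ▸ Set.mem_univ b
      rw [Set.mem_singleton_iff] at ha hb
      rw [ha, hb]
    have h3 := topologicalKrullDim_zero_of_discreteTopology C
    rw [hdim] at h3
    exact absurd h3 (by norm_num)
  have hpr : (IsLocalRing.maximalIdeal (C.presheaf.stalk p)).IsPrincipal := by
    have h1 := Groth.Agent.H5.Curve1.ringKrullDim_stalk_eq_one hdim.le p hpne
    have h2 := hreg.spanFinrank_maximalIdeal
    rw [h1] at h2
    have h3 : (IsLocalRing.maximalIdeal (C.presheaf.stalk p)).spanFinrank = 1 := by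
      exact_mod_cast h2
    exact ((Submodule.spanFinrank_eq_one_iff _).mp h3).1
  have hCart : ∀ m : ℕ, BlowUp.IsEffCartierIdeal (J ^ m) := fun m =>
    isEffCartierIdeal_point_pow p hp hpr ⟨genericPoint C, fun h => hpne h.symm⟩ m
  have hInv : ∀ m : ℕ, PicF.IsInvertible (ClSub.idealMod (J ^ m)) := fun m =>
    (isInvertible_idealMod_iff (J ^ m)).mpr (hCart m)
  have hInv1 : PicF.IsInvertible (ClSub.idealMod J) := by
    have := hInv 1
    rwa [pow_one] at this
  obtain ⟨e⟩ := hL
  have hLinv : PicF.IsInvertible L :=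
    Groth.Agent.H5.Split.isInvertible_of_tensor_iso (hInv n) e
  refine ⟨hLinv, ?_⟩
  have hO : Curv2.deg k C (unitMod C) 1 = 0 := Curve.deg_structureModule k C
  -- `deg L = - deg I^n`
  have h1 := Groth.Agent.H5.Curve2.deg_tensor k C hdim.le hLinv (hInv n)
  rw [Curve.deg_iso k C e 1] at h1
  have h1' : Curv2.deg k C (Coh.structureModule C) 1 = 0 := hO
  rw [h1'] at h1
  -- `deg I^n = n deg I`
  obtain ⟨m, rfl⟩ : ∃ m, n = m + 1 := ⟨n - 1, by omega⟩
  obtain ⟨e2⟩ := nonempty_tensorPow_iso_idealMod_pow J hInv1 m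
  have h2 := Curve.deg_iso k C e2 1
  rw [Groth.Agent.H5.Curve2.deg_tensorPow k C hdim.le hInv1 (m + 1)] at h2
  -- `deg I = -1`
  have hJsupp : topologicalKrullDim (J.support : Set C) ≤ 0 := by
    have h3 : (J.support : Set C) = {p} := by
      rw [Scheme.IdealSheafData.coe_support_vanishingIdeal]
      rfl
    rw [h3]
    exact topologicalKrullDim_zero_of_discreteTopology _
  obtain ⟨-, -, he⟩ := idealTwist_facts k C (unitMod C) (isInvertible_unit C) J hJsupp
  have h4 : Curv2.euler k C (CohB1.tensorMod (ClSub.idealMod J) (unitMod C)) =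
      Curv2.euler k C (ClSub.idealMod J) :=
    Curve.euler_iso k C (SecTwist.unitorR (ClSub.idealMod J))
  rw [h4, finrank_H0_quotMod_rational_point k C p hp hrat] at he
  have h5 : Curv2.deg k C (ClSub.idealMod J) 1 =
      Curv2.euler k C (ClSub.idealMod J) - Curv2.euler k C (unitMod C) := by
    unfold Curv2.deg
    push_cast
    ring_nf
  rw [he] at h5
  push_cast at h2 h5 ⊢
  change 0 = Curv2.deg k C L 1 + Curv2.deg k C (ClSub.idealMod (J ^ (m + 1))) 1 at h1
  rw [← h2, h5] at h1
  linarith

/-- **S7933**. -/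
theorem genus_one_point_twists (hdim : topologicalKrullDim C = 1)
    (hpa : Curv2.euler k C (Coh.structureModule C) = 0)
    (p : C) (hp : IsClosed ({p} : Set C)) (hrat : Function.Surjective (Curv2.resMap k C p))
    (hreg : IsRegularLocalRing (C.presheaf.stalk p))
    (n : ℕ) (L : C.Modules)
    (hL : ClSub.IsInverseOf L
      (ClSub.idealMod ((Scheme.IdealSheafData.vanishingIdeal ⟨{p}, hp⟩) ^ n))) :
    Module.finrank k (Coh.HH C (Coh.structureModule C) 0) = 1 ∧
      Module.finrank k (Coh.HH C (Coh.structureModule C) 1) = 1 ∧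
      (n = 1 → Module.finrank k (Coh.HH C L 0) = 1) ∧
      (2 ≤ n → Module.finrank k (Coh.HH C L 0) = n) ∧
      (1 ≤ n → Subsingleton (Coh.HH C L 1)) ∧
      (2 ≤ n → Curv2.IsGloballyGenerated L) := by
  haveI : IsNoetherian C := Groth.Agent.H5.Curve2.isNoetherian_of_proper k C
  have h0 := finrank_HH0_eq_one_of_rational_point k C p hrat
  haveI : (unitMod C).IsQuasicoherent := qc_of_isInvertible _ (isInvertible_unit C)
  have h3 := Curve.euler_eq_sub k C hdim.le (unitMod C)
  have hO : Module.finrank k (Coh.HH C (unitMod C) 0) = 1 := h0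
  have hpa' : Curv2.euler k C (unitMod C) = 0 := hpa
  rw [hO, hpa'] at h3
  have h1 : Module.finrank k (Coh.HH C (unitMod C) 1) = 1 := by
    push_cast at h3
    omega
  have hg : Curv2.genus k C = 1 := h1
  have key : 1 ≤ n → PicF.IsInvertible L ∧ Subsingleton (Coh.HH C L 1) ∧
      Module.finrank k (Coh.HH C L 0) = n := by
    intro hn
    obtain ⟨hLinv, hdeg⟩ := facts_point_pow k C hdim p hp hrat hreg n hn L hL
    have hLc : Coh.IsCoh L := Groth.Agent.H5.Curve2.isCoh_of_isInvertible hLinv
    haveI := hLc.1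
    have h4 : Curv2.deg k C L 1 = Curv2.euler k C L - Curv2.euler k C (unitMod C) := by
      unfold Curv2.deg
      push_cast
      ring_nf
    rw [hpa', hdeg] at h4
    have hsub : Subsingleton (Coh.HH C L 1) := by
      by_contra hcon
      rw [not_subsingleton_iff_nontrivial] at hcon
      have h5 := euler_le_of_H1_nontrivial k C hdim hLc hLinv (𝟙 L) hcon
      rw [hg] at h5
      push_cast at h5
      have : (1 : ℤ) ≤ n := by exact_mod_cast hn
      linarith
    refine ⟨hLinv, hsub, ?_⟩
    have h5 := Curve.euler_eq_sub k C hdim.le L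
    have z1 : Module.finrank k (Coh.HH C L 1) = 0 := Module.finrank_zero_of_subsingleton
    rw [z1] at h5
    push_cast at h5
    have : (Module.finrank k (Coh.HH C L 0) : ℤ) = n := by linarith
    exact_mod_cast this
  refine ⟨h0, h1, ?_, ?_, ?_, ?_⟩
  · intro hn
    rw [(key (by omega)).2.2, hn]
  · intro hn
    exact (key (by omega)).2.2
  · intro hn
    exact (key hn).2.1
  · intro hn
    obtain ⟨hLinv, hdeg⟩ := facts_point_pow k C hdim p hp hrat hreg n (by omega) L hL
    apply isGloballyGenerated_of_deg_ge k C hdim h0 L hLinv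
    rw [hg, hdeg]
    push_cast
    have : (2 : ℤ) ≤ n := by exact_mod_cast hn
    linarith

end Groth.Agent.H5.SD
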