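import Mathlib
import Groth.Agent.Lib.Helper5.SD.Genus1Pt
import Groth.Agent.Lib.Helper5.SD.GGIff
import Groth.Agent.Lib.Helper5.SD.IdealTw
import Groth.Agent.Lib.Helper5.SD.TwLin
import Groth.Agent.Lib.Helper5.Curve6.RP3
import Groth.Agent.Lib.Helper5.Curve6.Rat
import Groth.Agent.Lib.Helper5.IntN.SecPos
import Groth.Agent.Lib.Helper5.Curve4.VB3
import Groth.Agent.Lib.Lead.QC.InvBasis
import Groth.Agent.Lib.Lead.QC.TensorDesc

/-!
# S14341: on a curve of genus one with a rational point `O`, every invertible module of degree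
zero is `O(P - O)` for a unique rational point `P`.
-/

set_option autoImplicit false
set_option linter.style.haveILetI false
universe u
open CategoryTheory CategoryTheory.Limits AlgebraicGeometry TopologicalSpace Opposite

namespace Groth.Agent.H5.SD

open Groth.Agent.LD Groth.Agent.LD.QC Groth.Agent.H5.DegC Groth.Agent.LD.CL
  Groth.Agent.H5.Curve6 Groth.Agent.H5.Snap Groth.Agent.H5.Glue

variable (k : Type u) [Field k] (X : Scheme.{u}) [X.Over (Spec (CommRingCat.of k))]
  [IsProper (X ↘ Spec (CommRingCat.of k))] [IsIntegral X]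

omit [X.Over (Spec (CommRingCat.of k))] [IsProper (X ↘ Spec (CommRingCat.of k))] in
/-- a closed point of an integral scheme of dimension one is not the generic point. -/
theorem ne_genericPoint_of_isClosed (hdim : topologicalKrullDim X = 1) (p : X)
    (hp : IsClosed ({p} : Set X)) : p ≠ genericPoint X := by
  intro h
  have h1 : (Set.univ : Set X) = {p} := by
    have h2 := (genericPoint_spec X).def
    rw [← h, hp.closure_eq] at h2
    exact h2.symm
  haveI : Subsingleton X := by
    constructor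
    intro a b
    have ha : a ∈ ({p} : Set X) := h1 ▸ Set.mem_univ a
    have hb : b ∈ ({p} : Set X) := h1 ▸ Set.mem_univ b
    rw [Set.mem_singleton_iff] at ha hb
    rw [ha, hb]
  have h3 := topologicalKrullDim_zero_of_discreteTopology X
  rw [hdim] at h3
  exact absurd h3 (by norm_num)

/-- a nonzero section of an invertible module of degree `≤ 0` is an isomorphism. -/
theorem isIso_of_deg_nonpos (hdim : topologicalKrullDim X ≤ 1) {N : X.Modules}
    (hN : PicF.IsInvertible N) (τ : unitMod X ⟶ N) (hτ : τ ≠ 0)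
    (hdeg : Curv2.deg k X N 1 ≤ 0) : IsIso τ := by
  apply Groth.Agent.H5.IntN.isIso_of_genLocus_eq_top τ
  intro y
  by_contra h
  have := Groth.Agent.H5.Curve2.deg_pos_of_section k X hdim hN τ hτ y h
  omega

/-- the ideal of a regular closed point of a curve is invertible of degree `-[κ(p) : k]`. -/
theorem point_ideal_facts (hdim : topologicalKrullDim X = 1) (p : X)
    (hp : IsClosed ({p} : Set X)) (hreg : IsRegularLocalRing (X.presheaf.stalk p)) :
    PicF.IsInvertible (ClSub.idealMod (Scheme.IdealSheafData.vanishingIdeal ⟨{p}, hp⟩)) ∧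
      Curv2.deg k X (ClSub.idealMod (Scheme.IdealSheafData.vanishingIdeal ⟨{p}, hp⟩)) 1 =
        - (Module.finrank k (Coh.HH X
          (ClSub.quotMod (Scheme.IdealSheafData.vanishingIdeal ⟨{p}, hp⟩)) 0) : ℤ) := by
  haveI : IsNoetherian X := Groth.Agent.H5.Curve2.isNoetherian_of_proper k X
  let J := Scheme.IdealSheafData.vanishingIdeal (⟨{p}, hp⟩ : Closeds X)
  have hpne := ne_genericPoint_of_isClosed X hdim p hp
  have hCart : BlowUp.IsEffCartierIdeal J :=
    isEffCartierIdeal_of_isRegularLocalRing hdim.le p hp hpne hreg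
  have hInv : PicF.IsInvertible (ClSub.idealMod J) := (isInvertible_idealMod_iff J).mpr hCart
  refine ⟨hInv, ?_⟩
  obtain ⟨A, hA, ⟨e⟩⟩ := Groth.Agent.H5.Glue.exists_inverse _ hInv
  haveI : A.IsQuasicoherent := qc_of_isInvertible A hA
  have h1 := deg_of_inverse_idealMod k hdim.le J hCart A hA ⟨tensorComm _ _ ≪≫ e⟩
  have h2 := Groth.Agent.H5.Curve2.deg_tensor k X hdim.le hInv hA
  rw [Curve.deg_iso k X e 1] at h2
  have hO : Curv2.deg k X (unitMod X) 1 = 0 := Curve.deg_structureModule k X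
  rw [hO] at h2
  change Curv2.deg k X (ClSub.idealMod J) 1 = _
  linarith

/-- on a curve of genus one with `h⁰(O) = 1`, an invertible module of degree one has
`h⁰ = 1`. -/
theorem finrank_H0_of_deg_one (hdim : topologicalKrullDim X = 1)
    (h0 : Module.finrank k (Coh.HH X (Coh.structureModule X) 0) = 1)
    (hg : Curv2.genus k X = 1) (M : X.Modules) (hM : PicF.IsInvertible M)
    (hdeg : Curv2.deg k X M 1 = 1) : Module.finrank k (Coh.HH X M 0) = 1 := by
  haveI : IsNoetherian X := Groth.Agent.H5.Curve2.isNoetherian_of_proper k X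
  haveI : M.IsQuasicoherent := qc_of_isInvertible _ hM
  haveI : (unitMod X).IsQuasicoherent := qc_of_isInvertible _ (isInvertible_unit X)
  have hMc : Coh.IsCoh M := Groth.Agent.H5.Curve2.isCoh_of_isInvertible hM
  have h3 := Curve.euler_eq_sub k X hdim.le (unitMod X)
  have hO : Module.finrank k (Coh.HH X (unitMod X) 0) = 1 := h0
  have hg' : Module.finrank k (Coh.HH X (unitMod X) 1) = 1 := hg
  rw [hO, hg'] at h3
  have h4 : Curv2.deg k X M 1 = Curv2.euler k X M - Curv2.euler k X (unitMod X) := by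
    unfold Curv2.deg
    push_cast
    ring_nf
  have h5 := Curve.euler_eq_sub k X hdim.le M
  by_cases hH1 : Nontrivial (Coh.HH X M 1)
  · have h6 := euler_le_of_H1_nontrivial k X hdim hMc hM (𝟙 M) hH1
    rw [hg] at h6
    push_cast at h6
    linarith
  · rw [not_nontrivial_iff_subsingleton] at hH1
    have z1 : Module.finrank k (Coh.HH X M 1) = 0 := Module.finrank_zero_of_subsingleton
    rw [z1] at h5
    push_cast at h5
    have : (Module.finrank k (Coh.HH X M 0) : ℤ) = 1 := by linarith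
    exact_mod_cast this

/-- cancelling an invertible module: `L ⊗ Y ≅ Z` gives `Y ≅ L' ⊗ Z` for an inverse `L'`. -/
noncomputable def cancelIso {L L' Y Z : X.Modules} [L.IsQuasicoherent] [L'.IsQuasicoherent]
    [Y.IsQuasicoherent] (eL : CohB1.tensorMod L L' ≅ unitMod X)
    (e : CohB1.tensorMod L Y ≅ Z) : Y ≅ CohB1.tensorMod L' Z :=
  (unitorL Y).symm ≪≫ tensorIso' (eL.symm ≪≫ tensorCommAll L L') (Iso.refl Y) ≪≫
    tensorAssoc L' L Y ≪≫ tensorIso' (Iso.refl L') e

attribute [local instance] Curv2.resAlgebra in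
/-- **S14341**. -/
theorem existsUnique_point_of_genus_one (hdim : topologicalKrullDim X = 1)
    (hg : Curv2.genus k X = 1) (hreg : ∀ x : X, IsRegularLocalRing (X.presheaf.stalk x))
    (O : X) (hOc : IsClosed ({O} : Set X)) (hO : Function.Bijective (Curv2.resMap k X O))
    (L : X.Modules) (hL : PicF.IsInvertible L) (hdeg : Curv2.deg k X L 1 = 0) :
    ∃! P : {x : X // IsClosed ({x} : Set X) ∧ Function.Bijective (Curv2.resMap k X x)},
      Nonempty (CohB1.tensorMod L (ClSub.idealMod
        (Scheme.IdealSheafData.vanishingIdeal ⟨{P.1}, P.2.1⟩)) ≅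
        ClSub.idealMod (Scheme.IdealSheafData.vanishingIdeal ⟨{O}, hOc⟩)) := by
  haveI : IsNoetherian X := Groth.Agent.H5.Curve2.isNoetherian_of_proper k X
  have h0 : Module.finrank k (Coh.HH X (Coh.structureModule X) 0) = 1 :=
    finrank_HH0_eq_one_of_rational_point k X O hO.2
  have hOdeg : Curv2.deg k X (unitMod X) 1 = 0 := Curve.deg_structureModule k X
  -- facts about rational points
  have hrat : ∀ (p : X) (hp : IsClosed ({p} : Set X)),
      Function.Surjective (Curv2.resMap k X p) →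
      ∀ (A : X.Modules), PicF.IsInvertible A →
        (CohB1.tensorMod (ClSub.idealMod (Scheme.IdealSheafData.vanishingIdeal ⟨{p}, hp⟩)) A ≅
          unitMod X) → Curv2.deg k X A 1 = 1 ∧ Module.finrank k (Coh.HH X A 0) = 1 := by
    intro p hp hr A hA e
    obtain ⟨hI, hd⟩ := point_ideal_facts k X hdim p hp (hreg p)
    rw [finrank_H0_quotMod_rational_point k X p hp hr] at hd
    have h2 := Groth.Agent.H5.Curve2.deg_tensor k X hdim.le hI hA
    rw [Curve.deg_iso k X e 1, hOdeg, hd] at h2
    have hdA : Curv2.deg k X A 1 = 1 := by push_cast at h2; linarith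
    exact ⟨hdA, finrank_H0_of_deg_one k X hdim h0 hg A hA hdA⟩
  -- existence
  haveI : L.IsQuasicoherent := qc_of_isInvertible _ hL
  obtain ⟨hIO, hdO⟩ := point_ideal_facts k X hdim O hOc (hreg O)
  obtain ⟨A, hA, ⟨eA⟩⟩ := Groth.Agent.H5.Glue.exists_inverse _ hIO
  haveI : A.IsQuasicoherent := qc_of_isInvertible _ hA
  obtain ⟨hdA, -⟩ := hrat O hOc hO.2 A hA eA
  let M := CohB1.tensorMod L A
  have hM : PicF.IsInvertible M := isInvertible_tensorMod hL hA
  have hdM : Curv2.deg k X M 1 = 1 := by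
    have := Groth.Agent.H5.Curve2.deg_tensor k X hdim.le hL hA
    rw [hdeg, hdA] at this
    simpa using this
  have hh0 := finrank_H0_of_deg_one k X hdim h0 hg M hM hdM
  obtain ⟨s, hs⟩ : ∃ s : unitMod X ⟶ M, s ≠ 0 := by
    by_contra hcon
    push Not at hcon
    haveI : Subsingleton (unitMod X ⟶ M) := ⟨fun a b => by rw [hcon a, hcon b]⟩
    have h1 := finrank_H0_eq_finrank_hom k M
    have h2 : Module.finrank k (unitMod X ⟶ M) = 0 := Module.finrank_zero_of_subsingleton
    rw [hh0, h2] at h1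
    exact one_ne_zero h1
  obtain ⟨P, hPc, hPs⟩ : ∃ P : X, IsClosed ({P} : Set X) ∧ P ∉ CohB1.genLocus M s := by
    by_contra hcon
    push Not at hcon
    have hall : ∀ y : X, y ∈ CohB1.genLocus M s := by
      intro y
      by_contra hy
      have hcl : IsClosed ((CohB1.genLocus M s : Set X)ᶜ) := (CohB1.genLocus M s).2.isClosed_compl
      obtain ⟨z, hz, hzc⟩ := hcl.exists_closed_singleton ⟨y, hy⟩
      exact hz (hcon z hzc)
    haveI := Groth.Agent.H5.IntN.isIso_of_genLocus_eq_top s hall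
    have h1 := Curve.deg_iso k X (asIso s) 1
    rw [hOdeg, hdM] at h1
    exact zero_ne_one h1
  haveI : M.IsQuasicoherent := qc_of_isInvertible _ hM
  obtain ⟨τ, hτ⟩ := exists_lift_of_notMem_genLocus M hM P hPc s hPs
  have hτ0 : τ ≠ 0 := by
    rintro rfl
    rw [zero_comp] at hτ
    exact hs hτ.symm
  obtain ⟨hIP, hdP⟩ := point_ideal_facts k X hdim P hPc (hreg P)
  let JP := Scheme.IdealSheafData.vanishingIdeal (⟨{P}, hPc⟩ : Closeds X)
  let JO := Scheme.IdealSheafData.vanishingIdeal (⟨{O}, hOc⟩ : Closeds X)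
  let N := CohB1.tensorMod (ClSub.idealMod JP) M
  have hN : PicF.IsInvertible N := isInvertible_tensorMod hIP hM
  have hdN : Curv2.deg k X N 1 =
      - (Module.finrank k (Coh.HH X (ClSub.quotMod JP) 0) : ℤ) + 1 := by
    have := Groth.Agent.H5.Curve2.deg_tensor k X hdim.le hIP hM
    rw [hdP, hdM] at this
    exact this
  have hpos := finrank_H0_quotMod_point_pos k X P hPc
  have hpos' : (1 : ℤ) ≤ (Module.finrank k (Coh.HH X (ClSub.quotMod JP) 0) : ℤ) := by
    exact_mod_cast hpos
  haveI : IsIso τ := isIso_of_deg_nonpos k X hdim.le hN τ hτ0 (by rw [hdN]; linarith)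
  have hdN0 : Curv2.deg k X N 1 = 0 := by
    have h1 := Curve.deg_iso k X (asIso τ) 1
    rw [hOdeg] at h1
    exact h1.symm
  have hdP1 : Module.finrank k (Coh.HH X (ClSub.quotMod JP) 0) = 1 := by
    rw [hdN0] at hdN
    have : (Module.finrank k (Coh.HH X (ClSub.quotMod JP) 0) : ℤ) = 1 := by linarith
    exact_mod_cast this
  have hPrat : Function.Bijective (Curv2.resMap k X P) := by
    have h1 := finrank_H0_quotMod_ker k X P hPc
    rw [ker_fromSpecResidueField] at h1
    have h2 : vI P = JP :=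
      congrArg Scheme.IdealSheafData.vanishingIdeal (Closeds.ext hPc.closure_eq)
    rw [h2, hdP1] at h1
    refine ⟨(Curv2.resMap k X P).injective, ?_⟩
    have h3 := Subalgebra.bot_eq_top_of_finrank_eq_one h1.symm
    intro a
    have ha : a ∈ (⊥ : Subalgebra k (X.residueField P)) := by rw [h3]; trivial
    obtain ⟨c, hc⟩ := Algebra.mem_bot.mp ha
    exact ⟨c, hc⟩
  -- the isomorphism `L ⊗ I_P ≅ I_O`
  have eiso : CohB1.tensorMod L (ClSub.idealMod JP) ≅ ClSub.idealMod JO :=
    tensorCommAll L (ClSub.idealMod JP) ≪≫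
      tensorIso' (Iso.refl _) ((SecTwist.unitorR L).symm ≪≫
        tensorIso' (Iso.refl L) (eA.symm ≪≫ tensorCommAll _ _) ≪≫
        (tensorAssoc L A (ClSub.idealMod JO)).symm) ≪≫
      (tensorAssoc (ClSub.idealMod JP) M (ClSub.idealMod JO)).symm ≪≫
      tensorIso' (asIso τ).symm (Iso.refl _) ≪≫ unitorL _
  refine ⟨⟨P, hPc, hPrat⟩, ⟨eiso⟩, ?_⟩
  -- uniqueness
  rintro ⟨Q, hQc, hQrat⟩ ⟨eQ⟩
  by_contra hne
  have hQP : Q ≠ P := fun h => hne (Subtype.ext h)
  obtain ⟨L', hL', ⟨eL⟩⟩ := Groth.Agent.H5.Glue.exists_inverse _ hL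
  let JQ := Scheme.IdealSheafData.vanishingIdeal (⟨{Q}, hQc⟩ : Closeds X)
  haveI : L'.IsQuasicoherent := qc_of_isInvertible _ hL'
  let φ : ClSub.idealMod JP ≅ ClSub.idealMod JQ :=
    cancelIso X eL eiso ≪≫ (cancelIso X eL eQ).symm
  obtain ⟨B, hB, ⟨eB⟩⟩ := Groth.Agent.H5.Glue.exists_inverse _ hIP
  haveI : B.IsQuasicoherent := qc_of_isInvertible _ hB
  haveI : L'.IsQuasicoherent := qc_of_isInvertible _ hL'
  obtain ⟨-, hB0⟩ := hrat P hPc hPrat.2 B hB eB
  let σ : unitMod X ⟶ B :=
    eB.inv ≫ KoszTw.tensorMap (φ.hom ≫ ClSub.idealModι JQ) (𝟙 B) ≫ (unitorL B).hom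
  have hPsupp : P ∉ JQ.support := by
    intro hmem
    have h1 : P ∈ (JQ.support : Set X) := hmem
    rw [Scheme.IdealSheafData.coe_support_vanishingIdeal] at h1
    have h2 : P ∈ ({Q} : Set X) := by
      have : closure ({Q} : Set X) = {Q} := hQc.closure_eq
      simpa [this] using h1
    exact hQP (Set.mem_singleton_iff.mp h2).symm
  have hmem : P ∈ CohB1.genLocus B σ := by
    apply mem_genLocus_of_locSurjAt hB
    exact (locSurjAt_of_epi eB.inv P).comp
      ((((locSurjAt_of_epi φ.hom P).comp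
        (locSurjAt_idealModι JQ P hPsupp)).tensorMap B hB).comp
        (locSurjAt_of_epi (unitorL B).hom P))
  have hlt := (exists_mem_genLocus_iff_finrank_lt k X B hB P hPc).mp ⟨σ, hmem⟩
  rw [hB0, Groth.Agent.H5.Curve2.finrank_HH_iso k _ eB 0] at hlt
  have : Module.finrank k (Coh.HH X (unitMod X) 0) = 1 := h0
  omega

end Groth.Agent.H5.SD
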