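import Mathlib
import Groth.Agent.Lib.Helper5.SD.Genus1Pic
import Groth.Agent.Lib.Helper5.Curve3.DegNonpos
import Groth.Agent.Lib.Helper5.Curve2.J
import Groth.Agent.Lib.Helper5.Curve2.F
import Groth.Agent.Lib.Helper5.Curve6.PtTw

/-!
# S11352: `h⁰(L) + h⁰(L') ≤ h⁰(L ⊗ L') + 1` on a regular curve over an algebraically closed field.
-/

set_option autoImplicit false
set_option linter.style.haveILetI false
universe u
open CategoryTheory CategoryTheory.Limits AlgebraicGeometry TopologicalSpace Opposite

namespace Groth.Agent.H5.SD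

open Groth.Agent.LD Groth.Agent.LD.QC Groth.Agent.H5.DegC Groth.Agent.LD.CL
  Groth.Agent.H5.Curve6 Groth.Agent.H5.Snap Groth.Agent.H5.Glue

section General
variable {X : Scheme.{u}}

/-- the product of two sections. -/
noncomputable def mulSec {L L' : X.Modules} [L.IsQuasicoherent] (s : unitMod X ⟶ L)
    (t : unitMod X ⟶ L') : unitMod X ⟶ CohB1.tensorMod L L' :=
  s ≫ (SecTwist.unitorR L).inv ≫ KoszTw.tensorMap (𝟙 L) t

theorem mem_genLocus_mulSec {L L' : X.Modules} [L.IsQuasicoherent] (hL : PicF.IsInvertible L)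
    (hL' : PicF.IsInvertible L') (s : unitMod X ⟶ L) (t : unitMod X ⟶ L') (x : X)
    (hs : x ∈ CohB1.genLocus L s) (ht : x ∈ CohB1.genLocus L' t) :
    x ∈ CohB1.genLocus (CohB1.tensorMod L L') (mulSec s t) := by
  apply mem_genLocus_of_locSurjAt (isInvertible_tensorMod hL hL')
  exact (Groth.Agent.H5.Curve2.locSurjAt_section s x hs).comp
    ((locSurjAt_of_epi (SecTwist.unitorR L).inv x).comp
      (Groth.Agent.H5.Curve2.locSurjAt_tensorMap_section L L' t x ht))

end General

variable (k : Type u) [Field k] (X : Scheme.{u}) [X.Over (Spec (CommRingCat.of k))]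
  [IsProper (X ↘ Spec (CommRingCat.of k))] [IsIntegral X]

omit [X.Over (Spec (CommRingCat.of k))] [IsProper (X ↘ Spec (CommRingCat.of k))] in
/-- a nonzero section of an invertible module on an integral scheme generates at the generic
point. -/
theorem genericPoint_mem_genLocus {L : X.Modules} (hL : PicF.IsInvertible L)
    (s : unitMod X ⟶ L) (hs : s ≠ 0) : genericPoint X ∈ CohB1.genLocus L s := by
  obtain ⟨x, hx⟩ := Groth.Agent.H5.Curve3.genLocus_nonempty_of_ne_zero hL s hs
  have hspec : genericPoint X ⤳ x := (genericPoint_spec X).specializes (by trivial)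
  exact hspec.mem_open (CohB1.genLocus L s).2 hx

omit [X.Over (Spec (CommRingCat.of k))] [IsProper (X ↘ Spec (CommRingCat.of k))] in
theorem mulSec_ne_zero {L L' : X.Modules} [L.IsQuasicoherent] (hL : PicF.IsInvertible L)
    (hL' : PicF.IsInvertible L') (s : unitMod X ⟶ L) (t : unitMod X ⟶ L') (hs : s ≠ 0)
    (ht : t ≠ 0) : mulSec s t ≠ 0 :=
  Groth.Agent.H5.Curve2.ne_zero_of_mem_genLocus X _ (genericPoint X)
    (mem_genLocus_mulSec hL hL' s t _ (genericPoint_mem_genLocus X hL s hs)
      (genericPoint_mem_genLocus X hL' t ht))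

/-- multiplication by a nonzero section is injective on `H⁰`. -/
theorem finrank_H0_le_tensor_of_section {L L' : X.Modules} (hL : PicF.IsInvertible L)
    (hL' : PicF.IsInvertible L') (t : unitMod X ⟶ L') (ht : t ≠ 0) :
    Module.finrank k (Coh.HH X L 0) ≤ Module.finrank k (Coh.HH X (CohB1.tensorMod L L') 0) := by
  haveI : IsNoetherian X := Groth.Agent.H5.Curve2.isNoetherian_of_proper k X
  haveI : L.IsQuasicoherent := qc_of_isInvertible _ hL
  have hLL := isInvertible_tensorMod hL hL'
  have hc : Coh.IsCoh (CohB1.tensorMod L L') := Groth.Agent.H5.Curve2.isCoh_of_isInvertible hLL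
  rw [finrank_H0_eq_finrank_hom k L, finrank_H0_eq_finrank_hom k (CohB1.tensorMod L L')]
  let c : (unitMod X ⟶ L) →ₗ[k] (unitMod X ⟶ CohB1.tensorMod L L') :=
    { toFun := fun φ => mulSec φ t
      map_add' := fun φ ψ => Preadditive.add_comp _ _ _ _ _ _
      map_smul' := fun a φ => Linear.smul_comp _ _ _ _ _ _ }
  have hinj : Function.Injective c := by
    rw [injective_iff_map_eq_zero]
    intro φ hφ
    by_contra hne
    exact mulSec_ne_zero X hL hL' φ t hne ht hφ
  haveI := Curve.finite_HH k X _ hc 0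
  letI := PF.moduleΓ k (CohB1.tensorMod L L')
  haveI : Module.Finite k (unitMod X ⟶ CohB1.tensorMod L L') :=
    Module.Finite.equiv ((PF.H0LinearEquivΓ k (CohB1.tensorMod L L')).trans
      (secEquiv k (CohB1.tensorMod L L')).symm)
  exact LinearMap.finrank_le_finrank_of_injective hinj

/-- existence of a nonzero section from `h⁰ > 0`. -/
theorem exists_section_ne_zero (L : X.Modules) (h : 0 < Module.finrank k (Coh.HH X L 0)) :
    ∃ s : unitMod X ⟶ L, s ≠ 0 := by
  by_contra hcon
  push Not at hcon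
  haveI : Subsingleton (unitMod X ⟶ L) := ⟨fun a b => by rw [hcon a, hcon b]⟩
  have h1 := finrank_H0_eq_finrank_hom k L
  have h2 : Module.finrank k (unitMod X ⟶ L) = 0 := Module.finrank_zero_of_subsingleton
  omega

/-- **S11352** (inductive form). -/
theorem h0_add_h0_le_aux [IsAlgClosed k] (hdim : topologicalKrullDim X = 1)
    (hreg : ∀ x : X, IsRegularLocalRing (X.presheaf.stalk x)) :
    ∀ (b : ℕ) (L L' : X.Modules), PicF.IsInvertible L → PicF.IsInvertible L' →
      0 < Module.finrank k (Coh.HH X L 0) → Module.finrank k (Coh.HH X L' 0) = b + 1 →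
      Module.finrank k (Coh.HH X L 0) + Module.finrank k (Coh.HH X L' 0) ≤
        Module.finrank k (Coh.HH X (CohB1.tensorMod L L') 0) + 1 := by
  haveI : IsNoetherian X := Groth.Agent.H5.Curve2.isNoetherian_of_proper k X
  intro b
  induction b with
  | zero =>
    intro L L' hL hL' h0 hb
    obtain ⟨t, ht⟩ := exists_section_ne_zero k X L' (by omega)
    have := finrank_H0_le_tensor_of_section k X hL hL' t ht
    omega
  | succ b ih =>
    intro L L' hL hL' h0 hb
    haveI : L.IsQuasicoherent := qc_of_isInvertible _ hL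
    haveI : L'.IsQuasicoherent := qc_of_isInvertible _ hL'
    obtain ⟨s, hs⟩ := exists_section_ne_zero k X L h0
    obtain ⟨t, ht⟩ := exists_section_ne_zero k X L' (by omega)
    -- a closed point where both sections generate
    haveI : JacobsonSpace X := LocallyOfFiniteType.jacobsonSpace (X ↘ Spec (CommRingCat.of k))
    let W : X.Opens := CohB1.genLocus L s ⊓ CohB1.genLocus L' t
    have hne : ((W : X.Opens) : Set X).Nonempty :=
      ⟨genericPoint X, genericPoint_mem_genLocus X hL s hs, genericPoint_mem_genLocus X hL' t ht⟩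
    obtain ⟨p, ⟨hps, hpt⟩, hpcl⟩ := nonempty_inter_closedPoints hne W.2.isLocallyClosed
    have hp : IsClosed ({p} : Set X) := hpcl
    let J := Scheme.IdealSheafData.vanishingIdeal (⟨{p}, hp⟩ : Closeds X)
    obtain ⟨hIP, -⟩ := point_ideal_facts k X hdim p hp (hreg p)
    have hsupp : topologicalKrullDim (J.support : Set X) ≤ 0 := by
      have h3 : (J.support : Set X) = {p} := by
        rw [Scheme.IdealSheafData.coe_support_vanishingIdeal]
        rfl
      rw [h3]
      exact topologicalKrullDim_zero_of_discreteTopology _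
    have hq : Module.finrank k (Coh.HH X (ClSub.quotMod J) 0) = 1 := by
      have h4 := Groth.Agent.H5.Curve6.finrank_H0_quotMod_vI k X p
      have hv : Groth.Agent.H5.Snap.vI p = J :=
        congrArg Scheme.IdealSheafData.vanishingIdeal (Closeds.ext hp.closure_eq)
      rw [hv] at h4
      exact h4
    -- `h⁰(I_p ⊗ L') = h⁰(L') - 1`
    let L'' := CohB1.tensorMod (ClSub.idealMod J) L'
    have hL'' : PicF.IsInvertible L'' := isInvertible_tensorMod hIP hL'
    have h1 : Module.finrank k (Coh.HH X L'' 0) < Module.finrank k (Coh.HH X L' 0) :=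
      (exists_mem_genLocus_iff_finrank_lt k X L' hL' p hp).mp ⟨t, hpt⟩
    have h2 := (Groth.Agent.H5.Curve6.h0_tensor_idealMod_bounds k X J hsupp L' hL').2
    rw [hq, Groth.Agent.H5.Curve2.finrank_HH_iso k _ (tensorCommAll L' (ClSub.idealMod J)) 0] at h2
    have h2' : Module.finrank k (Coh.HH X L' 0) ≤ Module.finrank k (Coh.HH X L'' 0) + 1 := h2
    have hb'' : Module.finrank k (Coh.HH X L'' 0) = b + 1 := by omega
    have h3 := ih L L'' hL hL'' h0 hb''
    -- `h⁰(L ⊗ I_p ⊗ L') < h⁰(L ⊗ L')`
    have hLL := isInvertible_tensorMod hL hL'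
    have h4 : Module.finrank k (Coh.HH X
        (CohB1.tensorMod (ClSub.idealMod J) (CohB1.tensorMod L L')) 0) <
        Module.finrank k (Coh.HH X (CohB1.tensorMod L L') 0) :=
      (exists_mem_genLocus_iff_finrank_lt k X _ hLL p hp).mp
        ⟨mulSec s t, mem_genLocus_mulSec hL hL' s t p hps hpt⟩
    let e : CohB1.tensorMod L L'' ≅ CohB1.tensorMod (ClSub.idealMod J) (CohB1.tensorMod L L') :=
      (tensorAssoc L (ClSub.idealMod J) L').symm ≪≫
        tensorIso' (tensorCommAll L (ClSub.idealMod J)) (Iso.refl L') ≪≫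
        tensorAssoc (ClSub.idealMod J) L L'
    rw [Groth.Agent.H5.Curve2.finrank_HH_iso k _ e 0] at h3
    omega

/-- **S11352**. -/
theorem h0_add_h0_le [IsAlgClosed k] (hdim : topologicalKrullDim X = 1)
    (hreg : ∀ x : X, IsRegularLocalRing (X.presheaf.stalk x))
    (L L' : X.Modules) (hL : PicF.IsInvertible L) (hL' : PicF.IsInvertible L')
    (hs : Nontrivial (Coh.HH X L 0)) (hs' : Nontrivial (Coh.HH X L' 0)) :
    Module.finrank k (Coh.HH X L 0) + Module.finrank k (Coh.HH X L' 0) ≤
      Module.finrank k (Coh.HH X (CohB1.tensorMod L L') 0) + 1 := by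
  haveI : IsNoetherian X := Groth.Agent.H5.Curve2.isNoetherian_of_proper k X
  haveI := Curve.finite_HH k X _ (Groth.Agent.H5.Curve2.isCoh_of_isInvertible hL) 0
  haveI := Curve.finite_HH k X _ (Groth.Agent.H5.Curve2.isCoh_of_isInvertible hL') 0
  have h1 : 0 < Module.finrank k (Coh.HH X L 0) := Module.finrank_pos
  have h2 : 0 < Module.finrank k (Coh.HH X L' 0) := Module.finrank_pos
  obtain ⟨b, hb⟩ : ∃ b, Module.finrank k (Coh.HH X L' 0) = b + 1 :=
    ⟨Module.finrank k (Coh.HH X L' 0) - 1, by omega⟩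
  exact h0_add_h0_le_aux k X hdim hreg b L L' hL hL' h1 hb

end Groth.Agent.H5.SD
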