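import Mathlib
import Groth.Agent.Lib.Helper5.SD.HopfLem
import Groth.Agent.Lib.Helper6.SepDense
import Groth.Agent.Lib.Helper9.Misc.GZC1
import Groth.Agent.Lib.Helper5.Curve6.Rat
import Groth.Agent.Lib.Helper5.Curve4.VB3
import Groth.Agent.Lib.Helper5.Gro.HypIff
import Groth.Agent.Lib.Lead.QC.TensorQC

/-!
# S19880: on a curve over a separably closed field, an invertible module of degree `r > 2g`
becomes of `h⁰ = 1` after twisting down by `r - g` suitable rational points.
-/

set_option autoImplicit false
set_option linter.style.haveILetI false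
universe u
open CategoryTheory CategoryTheory.Limits AlgebraicGeometry TopologicalSpace Opposite

namespace Groth.Agent.H5.SD

open Groth.Agent.LD Groth.Agent.LD.QC Groth.Agent.H5.DegC Groth.Agent.LD.CL
  Groth.Agent.H5.Curve6 Groth.Agent.H5.Snap Groth.Agent.H5.Glue

section General
variable {X : Scheme.{u}}

theorem qc_tensorList_ofFn : ∀ (n : ℕ) (J : Fin n → X.IdealSheafData),
    (FGA.tensorList (List.ofFn fun t => ClSub.idealMod (J t))).IsQuasicoherent := by
  intro n
  induction n with
  | zero =>
    intro J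
    rw [List.ofFn_zero]
    exact qc_of_isInvertible _ (isInvertible_unit X)
  | succ n ih =>
    intro J
    rw [List.ofFn_succ]
    haveI := ih (fun t => J t.succ)
    change (CohB1.tensorMod (ClSub.idealMod (J 0))
      (FGA.tensorList (List.ofFn fun t : Fin n => ClSub.idealMod (J t.succ)))).IsQuasicoherent
    infer_instance

end General

variable (k : Type u) [Field k] (X : Scheme.{u}) [X.Over (Spec (CommRingCat.of k))]
  [IsProper (X ↘ Spec (CommRingCat.of k))] [IsIntegral X]

attribute [local instance] Curv2.resAlgebra in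
omit [IsProper (X ↘ Spec (CommRingCat.of k))] [IsIntegral X] in
/-- rational points are dense in a smooth scheme over a separably closed field. -/
theorem exists_rational_point_mem [IsSepClosed k] [Smooth (X ↘ Spec (CommRingCat.of k))]
    (U : X.Opens) (hU : (U : Set X).Nonempty) :
    ∃ σ : Spec (CommRingCat.of k) ⟶ X, σ ≫ (X ↘ Spec (CommRingCat.of k)) = 𝟙 _ ∧
      σ default ∈ U := by
  have hd := Groth.Agent.H6.SepDense.s1550 k X
  obtain ⟨x, hxU, -, -, hsep⟩ := hd.inter_open_nonempty _ U.2 hU
  haveI := hsep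
  have hsurj : Function.Surjective (Curv2.resMap k X x) :=
    IsSepClosed.algebraMap_surjective k (X.residueField x)
  haveI := Groth.Agent.H9.GZC.isIso_of_resMap_surjective k X x hsurj
  refine ⟨inv (X.fromSpecResidueField x ≫ (X ↘ Spec (CommRingCat.of k))) ≫
    X.fromSpecResidueField x, by simp, ?_⟩
  have : (inv (X.fromSpecResidueField x ≫ (X ↘ Spec (CommRingCat.of k))) ≫
      X.fromSpecResidueField x) default = x := by
    rw [Scheme.Hom.comp_apply]
    exact Scheme.fromSpecResidueField_apply x _
  rw [this]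
  exact hxU

/-- `h⁰(M) = deg M + 1 - g` for `deg M > 2g - 2`. -/
theorem finrank_H0_of_deg_gt (hdim : topologicalKrullDim X = 1)
    (h0 : Module.finrank k (Coh.HH X (Coh.structureModule X) 0) = 1)
    (M : X.Modules) (hM : PicF.IsInvertible M)
    (hdeg : 2 * (Curv2.genus k X : ℤ) - 2 < Curv2.deg k X M 1) :
    (Module.finrank k (Coh.HH X M 0) : ℤ) = Curv2.deg k X M 1 + 1 - Curv2.genus k X := by
  haveI : IsNoetherian X := Groth.Agent.H5.Curve2.isNoetherian_of_proper k X
  haveI : M.IsQuasicoherent := qc_of_isInvertible _ hM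
  haveI : (unitMod X).IsQuasicoherent := qc_of_isInvertible _ (isInvertible_unit X)
  have hMc : Coh.IsCoh M := Groth.Agent.H5.Curve2.isCoh_of_isInvertible hM
  have h3 := Curve.euler_eq_sub k X hdim.le (unitMod X)
  have hO : Module.finrank k (Coh.HH X (unitMod X) 0) = 1 := h0
  have hg' : Module.finrank k (Coh.HH X (unitMod X) 1) = Curv2.genus k X := rfl
  rw [hO, hg'] at h3
  have h4 : Curv2.deg k X M 1 = Curv2.euler k X M - Curv2.euler k X (unitMod X) := by
    unfold Curv2.deg
    push_cast
    ring_nf
  have h5 := Curve.euler_eq_sub k X hdim.le M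
  by_cases hH1 : Nontrivial (Coh.HH X M 1)
  · have h6 := euler_le_of_H1_nontrivial k X hdim hMc hM (𝟙 M) hH1
    push_cast at h3
    linarith
  · rw [not_nontrivial_iff_subsingleton] at hH1
    have z1 : Module.finrank k (Coh.HH X M 1) = 0 := Module.finrank_zero_of_subsingleton
    rw [z1] at h5
    push_cast at h5 h3
    linarith

/-- twisting down by rational points until `h⁰ = 1`. -/
theorem exists_points_h0_eq_one [IsSepClosed k] [Smooth (X ↘ Spec (CommRingCat.of k))]
    (hdim : topologicalKrullDim X = 1)
    (hreg : ∀ x : X, IsRegularLocalRing (X.presheaf.stalk x)) :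
    ∀ (n : ℕ) (M : X.Modules), PicF.IsInvertible M →
      Module.finrank k (Coh.HH X M 0) = n + 1 →
      ∃ σ : Fin n → (Spec (CommRingCat.of k) ⟶ X),
        (∀ t, σ t ≫ (X ↘ Spec (CommRingCat.of k)) = 𝟙 _) ∧
        Module.finrank k (Coh.HH X (CohB1.tensorMod M (FGA.tensorList
          (List.ofFn fun t : Fin n => ClSub.idealMod (σ t).ker))) 0) = 1 := by
  haveI : IsNoetherian X := Groth.Agent.H5.Curve2.isNoetherian_of_proper k X
  intro n
  induction n with
  | zero =>
    intro M hM hn
    haveI : M.IsQuasicoherent := qc_of_isInvertible _ hM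
    refine ⟨fun t => t.elim0, fun t => t.elim0, ?_⟩
    rw [List.ofFn_zero]
    change Module.finrank k (Coh.HH X (CohB1.tensorMod M (unitMod X)) 0) = 1
    rw [Groth.Agent.H5.Curve2.finrank_HH_iso k _ (SecTwist.unitorR M) 0, hn]
  | succ n ih =>
    intro M hM hn
    haveI : M.IsQuasicoherent := qc_of_isInvertible _ hM
    obtain ⟨s, hs⟩ := exists_section_ne_zero k X M (by omega)
    obtain ⟨σ₀, hσ₀, hmem⟩ := exists_rational_point_mem k X (CohB1.genLocus M s)
      ⟨genericPoint X, genericPoint_mem_genLocus X hM s hs⟩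
    haveI : IsClosedImmersion σ₀ := isClosedImmersion_of_comp_eq_id _ σ₀ hσ₀
    have hr : Set.range σ₀ = {σ₀ default} := Set.range_unique
    have hp : IsClosed ({σ₀ default} : Set X) := hr ▸ σ₀.isClosedEmbedding.isClosed_range
    have hker : σ₀.ker = Scheme.IdealSheafData.vanishingIdeal ⟨{σ₀ default}, hp⟩ :=
      (ker_eq_vI_of_rational k X σ₀).trans
        (congrArg Scheme.IdealSheafData.vanishingIdeal (Closeds.ext hp.closure_eq))
    have hq : Module.finrank k (Coh.HH X (ClSub.quotMod σ₀.ker) 0) = 1 :=
      finrank_H0_quotMod_ker_of_rational k X σ₀ hσ₀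
    have hIP : PicF.IsInvertible (ClSub.idealMod σ₀.ker) := by
      rw [hker]
      exact (point_ideal_facts k X hdim _ hp (hreg _)).1
    have hsupp : topologicalKrullDim (σ₀.ker.support : Set X) ≤ 0 := by
      have h3 : (σ₀.ker.support : Set X) = {σ₀ default} := by
        rw [hker, Scheme.IdealSheafData.coe_support_vanishingIdeal]
        rfl
      rw [h3]
      exact topologicalKrullDim_zero_of_discreteTopology _
    let M' := CohB1.tensorMod M (ClSub.idealMod σ₀.ker)
    have hM' : PicF.IsInvertible M' := isInvertible_tensorMod hM hIP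
    have h1 : Module.finrank k (Coh.HH X M' 0) < Module.finrank k (Coh.HH X M 0) := by
      have := (exists_mem_genLocus_iff_finrank_lt k X M hM _ hp).mp ⟨s, hmem⟩
      rw [← hker, Groth.Agent.H5.Curve2.finrank_HH_iso k _
        (tensorCommAll (ClSub.idealMod σ₀.ker) M) 0] at this
      exact this
    have h2 : Module.finrank k (Coh.HH X M 0) ≤ Module.finrank k (Coh.HH X M' 0) + 1 := by
      have := (Groth.Agent.H5.Curve6.h0_tensor_idealMod_bounds k X σ₀.ker hsupp M hM).2
      rw [hq] at this
      exact this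
    have hn' : Module.finrank k (Coh.HH X M' 0) = n + 1 := by omega
    obtain ⟨σ', hσ', hfin⟩ := ih M' hM' hn'
    refine ⟨Fin.cons σ₀ σ', ?_, ?_⟩
    · intro t
      refine Fin.cases ?_ (fun i => ?_) t
      · simpa using hσ₀
      · simpa using hσ' i
    · rw [List.ofFn_succ]
      haveI := qc_tensorList_ofFn n (fun t => (σ' t).ker)
      change Module.finrank k (Coh.HH X (CohB1.tensorMod M (CohB1.tensorMod
        (ClSub.idealMod σ₀.ker)
        (FGA.tensorList (List.ofFn fun t : Fin n => ClSub.idealMod (σ' t).ker)))) 0) = 1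
      rw [Groth.Agent.H5.Curve2.finrank_HH_iso k _ (tensorAssoc M (ClSub.idealMod σ₀.ker)
        (FGA.tensorList (List.ofFn fun t : Fin n => ClSub.idealMod (σ' t).ker))).symm 0]
      exact hfin

end Groth.Agent.H5.SD
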