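import Mathlib
import Groth.Agent.Lib.Helper5.SD.SepPts
import Groth.Agent.Lib.Helper5.SD.CanReg

/-!
# S17807: the drop of `h¹` when twisting up by a rational point.
-/

set_option autoImplicit false
set_option linter.style.haveILetI false
universe u
open CategoryTheory CategoryTheory.Limits AlgebraicGeometry TopologicalSpace Opposite

namespace Groth.Agent.H5.SD

open Groth.Agent.LD Groth.Agent.LD.QC Groth.Agent.H5.DegC Groth.Agent.LD.CL
  Groth.Agent.H5.Curve6 Groth.Agent.H5.Snap Groth.Agent.H5.Glue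

variable (k : Type u) [Field k] (X : Scheme.{u}) [X.Over (Spec (CommRingCat.of k))]
  [IsProper (X ↘ Spec (CommRingCat.of k))] [IsIntegral X]

variable {k X} {ω : X.Modules} {t : Coh.HH X ω 1 →ₗ[k] k}

/-- Serre duality for an invertible module: `h¹(F) = h⁰(ω ⊗ F⁻¹)`. -/
theorem IsDualizing.finrank_H1_eq (hd : IsDualizing k X 1 ω t) {F F' : X.Modules}
    (hF : PicF.IsInvertible F) (e : CohB1.tensorMod F F' ≅ unitMod X) :
    Module.finrank k (Coh.HH X F 1) = Module.finrank k (Coh.HH X (CohB1.tensorMod ω F') 0) := by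
  haveI : IsNoetherian X := Groth.Agent.H5.Curve2.isNoetherian_of_proper k X
  have hFc : Coh.IsCoh F := Groth.Agent.H5.Curve2.isCoh_of_isInvertible hF
  have e1 := (twistHomEquiv k e ω).finrank_eq
  have e2 := finrank_H0_eq_finrank_hom k (CohB1.tensorMod ω F')
  haveI : Module.Finite k (Coh.HH X F 1) := Curve.finite_HH k X _ hFc 1
  have e4 := (hd.equiv F hFc).finrank_eq
  rw [Subspace.dual_finrank_eq] at e4
  rw [← e4, e1, ← e2]

variable (k X)

/-- **S17807**. -/
theorem exists_open_h1_drop (hdim : topologicalKrullDim X = 1)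
    (hreg : ∀ x : X, IsRegularLocalRing (X.presheaf.stalk x))
    (L : X.Modules) (hL : PicF.IsInvertible L) (hL1 : 0 < Module.finrank k (Coh.HH X L 1)) :
    ∃ U : X.Opens, (U : Set X).Nonempty ∧
      ∀ (σ : Spec (CommRingCat.of k) ⟶ X) (_ : σ ≫ (X ↘ Spec (CommRingCat.of k)) = 𝟙 _)
        (M : X.Modules) (_ : PicF.IsInvertible M)
        (_ : Nonempty (CohB1.tensorMod M (ClSub.idealMod σ.ker) ≅ L)),
        (σ default ∈ U → Module.finrank k (Coh.HH X M 1) = Module.finrank k (Coh.HH X L 1) - 1) ∧
        (σ default ∉ U → Module.finrank k (Coh.HH X M 1) = Module.finrank k (Coh.HH X L 1)) := by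
  haveI : IsNoetherian X := Groth.Agent.H5.Curve2.isNoetherian_of_proper k X
  obtain ⟨ω, t, hω, hd⟩ := exists_dualizing_curve k X hdim
  have hinv : PicF.IsInvertible ω := hd.isInvertible hω hdim hreg
  obtain ⟨L', hL', ⟨eL⟩⟩ := Groth.Agent.H5.Glue.exists_inverse L hL
  haveI : ω.IsQuasicoherent := qc_of_isInvertible _ hinv
  haveI : L.IsQuasicoherent := qc_of_isInvertible _ hL
  haveI : L'.IsQuasicoherent := qc_of_isInvertible _ hL'
  let N := CohB1.tensorMod ω L'
  have hN : PicF.IsInvertible N := isInvertible_tensorMod hinv hL'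
  have hLN : Module.finrank k (Coh.HH X L 1) = Module.finrank k (Coh.HH X N 0) :=
    hd.finrank_H1_eq hL eL
  let U : X.Opens := ⨆ s : unitMod X ⟶ N, CohB1.genLocus N s
  have hUmem : ∀ x : X, x ∈ U ↔ ∃ s : unitMod X ⟶ N, x ∈ CohB1.genLocus N s := fun x =>
    TopologicalSpace.Opens.mem_iSup
  refine ⟨U, ?_, ?_⟩
  · obtain ⟨s, hs⟩ := exists_section_ne_zero k X N (by omega)
    exact ⟨genericPoint X, (hUmem _).mpr ⟨s, genericPoint_mem_genLocus X hN s hs⟩⟩
  · intro σ hσ M hM ⟨eML⟩
    haveI : M.IsQuasicoherent := qc_of_isInvertible _ hM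
    haveI : IsClosedImmersion σ := isClosedImmersion_of_comp_eq_id _ σ hσ
    have hr : Set.range σ = {σ default} := Set.range_unique
    have hp : IsClosed ({σ default} : Set X) := hr ▸ σ.isClosedEmbedding.isClosed_range
    have hker : σ.ker = Scheme.IdealSheafData.vanishingIdeal ⟨{σ default}, hp⟩ :=
      (ker_eq_vI_of_rational k X σ).trans
        (congrArg Scheme.IdealSheafData.vanishingIdeal (Closeds.ext hp.closure_eq))
    have hq : Module.finrank k (Coh.HH X (ClSub.quotMod σ.ker) 0) = 1 :=
      finrank_H0_quotMod_ker_of_rational k X σ hσ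
    have hsupp : topologicalKrullDim (σ.ker.support : Set X) ≤ 0 := by
      have h3 : (σ.ker.support : Set X) = {σ default} := by
        rw [hker, Scheme.IdealSheafData.coe_support_vanishingIdeal]
        rfl
      rw [h3]
      exact topologicalKrullDim_zero_of_discreteTopology _
    let I := ClSub.idealMod σ.ker
    -- the inverse of `M`
    let eM : CohB1.tensorMod M (CohB1.tensorMod L' I) ≅ unitMod X :=
      tensorIso' (Iso.refl M) (tensorCommAll L' I) ≪≫ (tensorAssoc M I L').symm ≪≫
        tensorIso' eML (Iso.refl L') ≪≫ eL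
    have h1 : Module.finrank k (Coh.HH X M 1) =
        Module.finrank k (Coh.HH X (CohB1.tensorMod N I) 0) := by
      rw [hd.finrank_H1_eq hM eM]
      exact Groth.Agent.H5.Curve2.finrank_HH_iso k _ (tensorAssoc ω L' I).symm 0
    have hb := Groth.Agent.H5.Curve6.h0_tensor_idealMod_bounds k X σ.ker hsupp N hN
    rw [hq] at hb
    have hiff := exists_mem_genLocus_iff_finrank_lt k X N hN _ hp
    rw [← hker, Groth.Agent.H5.Curve2.finrank_HH_iso k _ (tensorCommAll I N) 0] at hiff
    have hb1 : Module.finrank k (Coh.HH X (CohB1.tensorMod N I) 0) ≤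
        Module.finrank k (Coh.HH X N 0) := hb.1
    have hb2 : Module.finrank k (Coh.HH X N 0) ≤
        Module.finrank k (Coh.HH X (CohB1.tensorMod N I) 0) + 1 := hb.2
    constructor
    · intro hU
      have := hiff.mp ((hUmem _).mp hU)
      omega
    · intro hU
      have : ¬ (Module.finrank k (Coh.HH X (CohB1.tensorMod N I) 0) <
          Module.finrank k (Coh.HH X N 0)) := fun h => hU ((hUmem _).mpr (hiff.mpr h))
      omega

end Groth.Agent.H5.SD
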