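import Mathlib
import Groth.Agent.Lib.Helper5.SD.HopfLem
import Groth.Agent.Lib.Helper5.SD.H1Drop
import Groth.Agent.Lib.Helper5.SD.CanReg
import Groth.Agent.Lib.Helper5.SD.CurveOmega
import Groth.Agent.Lib.Helper5.Curve4.VB3
import Groth.Agent.Lib.Helper5.Curve3.SmInt
import Groth.Agent.Lib.Helper5.Curve2.D
import Groth.Agent.Lib.Helper5.Eig.Genus1
import Groth.Agent.Lib.Lead.QC.TensorPow
import Groth.Agent.Lib.Lead.QC.FreeData
import Groth.Agent.Lib.Lead.Curve.InvMono

/-!
# Riemann–Roch bookkeeping for invertible modules on a smooth proper curve, and S16320.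
-/

set_option autoImplicit false
set_option linter.style.haveILetI false
universe u
open CategoryTheory CategoryTheory.Limits AlgebraicGeometry TopologicalSpace Opposite

namespace Groth.Agent.H5.SD

open Groth.Agent.LD Groth.Agent.LD.QC Groth.Agent.H5.Curve4

variable (k : Type u) [Field k] (X : Scheme.{u}) [X.Over (Spec (CommRingCat.of k))]
  [IsProper (X ↘ Spec (CommRingCat.of k))] [IsIntegral X]

/-- Riemann–Roch: `h⁰(L) - h¹(L) = deg L + h⁰(O) - g`. -/
theorem rr_invertible (hdim : topologicalKrullDim X = 1)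
    (h0 : Module.finrank k (Coh.HH X (Coh.structureModule X) 0) = 1)
    (L : X.Modules) (hL : PicF.IsInvertible L) :
    (Module.finrank k (Coh.HH X L 0) : ℤ) - Module.finrank k (Coh.HH X L 1) =
      Curv2.deg k X L 1 + 1 - Curv2.genus k X := by
  haveI : L.IsQuasicoherent := qc_of_isInvertible _ hL
  haveI : (unitMod X).IsQuasicoherent := qc_of_isInvertible _ (isInvertible_unit X)
  have h1 := Curve.euler_eq_sub k X hdim.le L
  have h3 := Curve.euler_eq_sub k X hdim.le (unitMod X)
  have hO : Module.finrank k (Coh.HH X (unitMod X) 0) = 1 := h0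
  have hg : Module.finrank k (Coh.HH X (unitMod X) 1) = Curv2.genus k X := rfl
  rw [hO, hg] at h3
  have h4 : Curv2.deg k X L 1 = Curv2.euler k X L - Curv2.euler k X (unitMod X) := by
    unfold Curv2.deg
    push_cast
    ring_nf
  rw [h4, ← h1, h3]
  push_cast
  ring

/-- the degree of an inverse. -/
theorem deg_of_inverse (hdim : topologicalKrullDim X = 1)
    {L L' : X.Modules} (hL : PicF.IsInvertible L) (hL' : PicF.IsInvertible L')
    (e : CohB1.tensorMod L L' ≅ unitMod X) :
    Curv2.deg k X L' 1 = - Curv2.deg k X L 1 := by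
  have h1 := Groth.Agent.H5.Curve2.deg_tensor k X hdim.le hL hL'
  rw [Curve.deg_iso k X e 1] at h1
  have h2 : Curv2.deg k X (unitMod X) 1 = 0 := Curve.deg_structureModule k X
  linarith

/-- **S16320** (general form). -/
theorem h0_g15_genus9 [IsAlgClosed k] [Smooth (X ↘ Spec (CommRingCat.of k))]
    (hdim : topologicalKrullDim X = 1) (hg : Curv2.genus k X = 9)
    (hmin : ∀ M : X.Modules, PicF.IsInvertible M → 2 ≤ Module.finrank k (Coh.HH X M 0) →
      2 ≤ Module.finrank k (Coh.HH X M 1) →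
      2 * (Module.finrank k (Coh.HH X M 0) : ℤ) + 1 ≤ Curv2.deg k X M 1)
    (D : X.Modules) (hD : PicF.IsInvertible D)
    (hdD : Curv2.deg k X D 1 = 5) (h0D : Module.finrank k (Coh.HH X D 0) = 2) :
    (Module.finrank k (Coh.HH X (CohB1.tensorPow D 2) 0) = 3 ∨
        Module.finrank k (Coh.HH X (CohB1.tensorPow D 2) 0) = 4) ∧
      (Module.finrank k (Coh.HH X (CohB1.tensorPow D 3) 0) = 7 ∨
        Module.finrank k (Coh.HH X (CohB1.tensorPow D 3) 0) = 8) ∧
      (Module.finrank k (Coh.HH X (CohB1.tensorPow D 2) 0) = 3 →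
        Module.finrank k (Coh.HH X (CohB1.tensorPow D 3) 0) = 7) := by
  have h0 := Groth.Agent.H5.Curve3.finrank_HH0_eq_one_of_isAlgClosed k X
  have hreg := regular_stalks k X
  obtain ⟨ω, t, hω, hd⟩ := exists_dualizing_curve k X hdim
  have hinv : PicF.IsInvertible ω := hd.isInvertible hω hdim hreg
  have hdegω := hd.deg_eq hinv hdim h0
  rw [hg] at hdegω
  push_cast at hdegω
  have hD2 : PicF.IsInvertible (CohB1.tensorPow D 2) := isInvertible_tensorPow hD 2
  have hD3 : PicF.IsInvertible (CohB1.tensorPow D 3) := isInvertible_tensorPow hD 3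
  haveI : ω.IsQuasicoherent := qc_of_isInvertible _ hinv
  haveI : D.IsQuasicoherent := qc_of_isInvertible _ hD
  haveI : (CohB1.tensorPow D 2).IsQuasicoherent := qc_of_isInvertible _ hD2
  haveI : (CohB1.tensorPow D 3).IsQuasicoherent := qc_of_isInvertible _ hD3
  have hd2 := Groth.Agent.H5.Curve2.deg_tensorPow k X hdim.le hD 2
  have hd3 := Groth.Agent.H5.Curve2.deg_tensorPow k X hdim.le hD 3
  rw [hdD] at hd2 hd3
  have rr2 := rr_invertible k X hdim h0 _ hD2
  have rr3 := rr_invertible k X hdim h0 _ hD3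
  rw [hd2, hg] at rr2
  rw [hd3, hg] at rr3
  push_cast at hd2 hd3 rr2 rr3
  -- Hopf for `D ⊗ D`
  have hntD : Nontrivial (Coh.HH X D 0) := Module.nontrivial_of_finrank_pos (R := k) (by omega)
  have hopf1 := h0_add_h0_le k X hdim hreg D D hD hD hntD hntD
  have eDD : CohB1.tensorPow D 2 ≅ CohB1.tensorMod D D :=
    tensorIso' (unitorL' D) (Iso.refl D)
  rw [← Groth.Agent.H5.Curve2.finrank_HH_iso k _ eDD 0, h0D] at hopf1
  -- Clifford bound for `D²`
  have hup : Module.finrank k (Coh.HH X (CohB1.tensorPow D 2) 0) ≤ 4 := by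
    by_contra hcon
    have h1 : 2 ≤ Module.finrank k (Coh.HH X (CohB1.tensorPow D 2) 1) := by
      have : (5 : ℤ) ≤ Module.finrank k (Coh.HH X (CohB1.tensorPow D 2) 0) := by
        exact_mod_cast Nat.lt_of_not_le hcon
      have h2 : (2 : ℤ) ≤ Module.finrank k (Coh.HH X (CohB1.tensorPow D 2) 1) := by linarith
      exact_mod_cast h2
    have := hmin _ hD2 (by omega) h1
    rw [hd2] at this
    have h5 : (5 : ℤ) ≤ Module.finrank k (Coh.HH X (CohB1.tensorPow D 2) 0) := by
      exact_mod_cast Nat.lt_of_not_le hcon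
    linarith
  -- the inverse of `D³`
  obtain ⟨D3', hD3', ⟨e3⟩⟩ := Groth.Agent.H5.Glue.exists_inverse _ hD3
  haveI : D3'.IsQuasicoherent := qc_of_isInvertible _ hD3'
  have hdeg3' := deg_of_inverse k X hdim hD3 hD3' e3
  rw [hd3] at hdeg3'
  have hN : PicF.IsInvertible (CohB1.tensorMod ω D3') := isInvertible_tensorMod hinv hD3'
  have hdegN := Groth.Agent.H5.Curve2.deg_tensor k X hdim.le hinv hD3'
  rw [hdegω, hdeg3'] at hdegN
  have hle := Groth.Agent.H5.Eig.finrank_H0_le_deg_of_genus_pos k X hdim.le h0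
    (by rw [hg]; norm_num) hN (by rw [hdegN]; norm_num)
  rw [hdegN] at hle
  have hs3 := hd.finrank_H1_eq hD3 e3
  rw [hs3] at rr3
  refine ⟨by omega, by omega, ?_⟩
  intro h23
  by_contra hne
  have h38 : Module.finrank k (Coh.HH X (CohB1.tensorPow D 3) 0) = 8 := by omega
  have hN1 : Module.finrank k (Coh.HH X (CohB1.tensorMod ω D3') 0) = 1 := by omega
  -- inverse of `D²`
  let e2 : CohB1.tensorMod (CohB1.tensorPow D 2) (CohB1.tensorMod D3' D) ≅ unitMod X :=
    tensorIso' (Iso.refl _) (tensorCommAll D3' D) ≪≫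
      (tensorAssoc (CohB1.tensorPow D 2) D D3').symm ≪≫ e3
  have hs2 := hd.finrank_H1_eq hD2 e2
  rw [hs2, h23] at rr2
  push_cast at rr2
  have hntN : Nontrivial (Coh.HH X (CohB1.tensorMod ω D3') 0) :=
    Module.nontrivial_of_finrank_pos (R := k) (by omega)
  have hopf2 := h0_add_h0_le k X hdim hreg _ D hN hD hntN hntD
  rw [Groth.Agent.H5.Curve2.finrank_HH_iso k _ (tensorAssoc ω D3' D) 0, hN1, h0D] at hopf2
  omega

end Groth.Agent.H5.SD
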