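import Mathlib
import Groth.Agent.Lib.Helper5.SD.PencilA
import Groth.Agent.Lib.Helper5.SD.Cliff
import Groth.Agent.Lib.Helper5.Curve4.Sat3
import Groth.Agent.Lib.Helper3.SPerf
import Groth.Agent.Lib.Lead.Curve.RankAdd
import Groth.Agent.Lib.Lead.Curve.InvMono

/-!
# The base-point-free pencil trick on a smooth proper curve.
-/

set_option autoImplicit false
set_option linter.style.haveILetI false
universe u
open CategoryTheory CategoryTheory.Limits AlgebraicGeometry TopologicalSpace Opposite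

namespace Groth.Agent.H5.SD

open Groth.Agent.LD Groth.Agent.LD.QC Groth.Agent.LD.CL Groth.Agent.H5.Curve4

section General
variable {X : Scheme.{u}}

/-- ranks add in biproducts. -/
theorem isFinLocFreeOfRank_biprod (M N : X.Modules) (n m : ℕ)
    (hM : FlatMod.IsFinLocFreeOfRank n M) (hN : FlatMod.IsFinLocFreeOfRank m N) :
    FlatMod.IsFinLocFreeOfRank (n + m) (M ⊞ N) := by
  intro x
  obtain ⟨U, hxU, ⟨e⟩⟩ := hM x
  obtain ⟨V, hxV, ⟨e'⟩⟩ := hN x
  obtain ⟨e1⟩ := freeMod_of_range_subset M U.ι (U ⊓ V).ι (by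
    rw [Scheme.Opens.range_ι, Scheme.Opens.range_ι]; exact inf_le_left) n e
  obtain ⟨e2⟩ := freeMod_of_range_subset N V.ι (U ⊓ V).ι (by
    rw [Scheme.Opens.range_ι, Scheme.Opens.range_ι]; exact inf_le_right) m e'
  refine ⟨U ⊓ V, ⟨hxU, hxV⟩, ⟨?_⟩⟩
  haveI : PreservesBinaryBiproducts (Scheme.Modules.restrictFunctor (U ⊓ V).ι) :=
    preservesBinaryBiproducts_of_preservesBiproducts _
  exact (Scheme.Modules.restrictFunctor (U ⊓ V).ι).mapBiprod M N ≪≫ biprod.mapIso e1 e2 ≪≫
    Groth.Agent.H3.SPerf.copowerBiprodIso _ n m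

end General

variable (k : Type u) [Field k] (X : Scheme.{u}) [X.Over (Spec (CommRingCat.of k))]
  [IsProper (X ↘ Spec (CommRingCat.of k))]

/-- degrees add in biproducts. -/
theorem deg_biprod (M N : X.Modules) (n m : ℕ)
    (hM : FlatMod.IsFinLocFreeOfRank n M) (hN : FlatMod.IsFinLocFreeOfRank m N) :
    Curv2.deg k X (M ⊞ N) (n + m) = Curv2.deg k X M n + Curv2.deg k X N m := by
  let S : ShortComplex X.Modules := ShortComplex.mk (biprod.inl : M ⟶ M ⊞ N) biprod.snd
    biprod.inl_snd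
  have hS : S.ShortExact :=
    { exact := (ShortComplex.Splitting.ofHasBinaryBiproduct M N).exact
      mono_f := inferInstanceAs (Mono (biprod.inl : M ⟶ M ⊞ N))
      epi_g := inferInstanceAs (Epi (biprod.snd : M ⊞ N ⟶ N)) }
  exact Curve.deg_add_of_shortExact k X S hS n (n + m) m hM
    (isFinLocFreeOfRank_biprod M N n m hM hN) hN

/-- `Hom(O, F)` is finite-dimensional for coherent `F`. -/
theorem finite_hom_unit (F : X.Modules) (hF : Coh.IsCoh F) :
    Module.Finite k (unitMod X ⟶ F) := by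
  haveI : IsNoetherian X := Groth.Agent.H5.Curve2.isNoetherian_of_proper k X
  haveI := Curve.finite_HH k X _ hF 0
  letI := PF.moduleΓ k F
  exact Module.Finite.equiv ((PF.H0LinearEquivΓ k F).trans (secEquiv k F).symm)

/-- `Hom(A ⊞ B, M) ≃ Hom(A, M) × Hom(B, M)`. -/
noncomputable def biprodHomEquiv (A B M : X.Modules) :
    (A ⊞ B ⟶ M) ≃ₗ[k] (A ⟶ M) × (B ⟶ M) where
  toFun f := (biprod.inl ≫ f, biprod.inr ≫ f)
  invFun ab := biprod.desc ab.1 ab.2
  map_add' f g := Prod.ext (Preadditive.comp_add _ _ _ _ _ _) (Preadditive.comp_add _ _ _ _ _ _)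
  map_smul' a f := Prod.ext (Linear.comp_smul _ _ _ _ _ _) (Linear.comp_smul _ _ _ _ _ _)
  left_inv f := by
    apply biprod.hom_ext' <;> simp
  right_inv ab := Prod.ext (biprod.inl_desc _ _) (biprod.inr_desc _ _)

variable [Smooth (X ↘ Spec (CommRingCat.of k))] [IsIntegral X]

/-- **the base-point-free pencil trick**: if `s₁, s₂` generate the invertible module `L`, then
`2 h⁰(M) ≤ dim Hom(L, M) + h⁰(M ⊗ L)` for every invertible `M`. -/
theorem pencil_le (hdim : topologicalKrullDim X = 1) {L M : X.Modules}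
    (hL : PicF.IsInvertible L) (hM : PicF.IsInvertible M) (s₁ s₂ : unitMod X ⟶ L)
    (hp : Epi (biprod.desc s₁ s₂)) :
    2 * Module.finrank k (Coh.HH X M 0) ≤
      Module.finrank k (L ⟶ M) + Module.finrank k (Coh.HH X (CohB1.tensorMod M L) 0) := by
  haveI : IsNoetherian X := Groth.Agent.H5.Curve2.isNoetherian_of_proper k X
  haveI : L.IsQuasicoherent := qc_of_isInvertible _ hL
  haveI : M.IsQuasicoherent := qc_of_isInvertible _ hM
  obtain ⟨L', hL', ⟨e⟩⟩ := Groth.Agent.H5.Glue.exists_inverse L hL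
  haveI : L'.IsQuasicoherent := qc_of_isInvertible _ hL'
  let e' : CohB1.tensorMod L' L ≅ unitMod X := tensorCommAll L' L ≪≫ e
  let p : unitMod X ⊞ unitMod X ⟶ L := biprod.desc s₁ s₂
  haveI : Epi p := hp
  have hO1 : FlatMod.IsFinLocFreeOfRank 1 (unitMod X) :=
    (isInvertible_iff _).mp (isInvertible_unit X)
  have hL1 : FlatMod.IsFinLocFreeOfRank 1 L := (isInvertible_iff _).mp hL
  have hV : FlatMod.IsFinLocFreeOfRank (1 + 1) (unitMod X ⊞ unitMod X) :=
    isFinLocFreeOfRank_biprod _ _ 1 1 hO1 hO1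
  have hdV : Curv2.deg k X (unitMod X ⊞ unitMod X) (1 + 1) = 0 := by
    rw [deg_biprod k X _ _ 1 1 hO1 hO1]
    have : Curv2.deg k X (unitMod X) 1 = 0 := Curve.deg_structureModule k X
    rw [this]
    ring
  obtain ⟨a, ha, hK, hdeg⟩ := kernel_facts_of_epi k X hdim.le (1 + 1) 1 hV hL1 p
  have ha1 : a = 1 := by omega
  subst ha1
  have hE : PicF.IsInvertible (kernel p) := (isInvertible_iff _).mpr hK
  -- the Koszul map
  let c₁ := contr k e' s₁
  let c₂ := contr k e' s₂
  let j : L' ⟶ unitMod X ⊞ unitMod X := biprod.lift c₂ (-c₁)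
  have hjp : j ≫ p = 0 := by
    change biprod.lift c₂ (-c₁) ≫ biprod.desc s₁ s₂ = 0
    rw [biprod.lift_desc, Preadditive.neg_comp, contr_comm k hL e' s₁ s₂]
    exact add_neg_cancel _
  have hj : j ≠ 0 := by
    intro h0
    have h1 : c₂ = 0 := by
      have : j ≫ biprod.fst = c₂ := biprod.lift_fst _ _
      rw [← this, h0, zero_comp]
    have h2 : c₁ = 0 := by
      have : j ≫ biprod.snd = -c₁ := biprod.lift_snd _ _
      rw [h0, zero_comp] at this
      exact neg_eq_zero.mp this.symm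
    have hs1 : s₁ = 0 := contr_eq_zero k e' s₁ h2
    have hs2 : s₂ = 0 := contr_eq_zero k e' s₂ h1
    have hp0 : p = 0 := by
      change biprod.desc s₁ s₂ = 0
      rw [hs1, hs2]
      apply biprod.hom_ext' <;> simp
    exact Groth.Agent.H5.Curve2.not_isZero_of_isInvertible hL (IsZero.of_epi_eq_zero p hp0)
  let j' : L' ⟶ kernel p := kernel.lift p j hjp
  have hj' : j' ≠ 0 := by
    intro h0
    apply hj
    have : j' ≫ kernel.ι p = j := kernel.lift_ι _ _ _
    rw [← this, h0, zero_comp]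
  have hdegL' := deg_of_inverse k X hdim hL hL' e
  haveI hiso : IsIso j' :=
    (Curve.deg_le_of_ne_zero k X hdim.le hL' hE j' hj').2 (by rw [hdV] at hdeg; linarith)
  -- coherence / finiteness
  have hMc : Coh.IsCoh M := Groth.Agent.H5.Curve2.isCoh_of_isInvertible hM
  have hMLc : Coh.IsCoh (CohB1.tensorMod M L) :=
    Groth.Agent.H5.Curve2.isCoh_of_isInvertible (isInvertible_tensorMod hM hL)
  have hML'c : Coh.IsCoh (CohB1.tensorMod M L') :=
    Groth.Agent.H5.Curve2.isCoh_of_isInvertible (isInvertible_tensorMod hM hL')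
  haveI := finite_hom_unit k X M hMc
  haveI := finite_hom_unit k X _ hMLc
  haveI := finite_hom_unit k X _ hML'c
  haveI : Module.Finite k (L ⟶ M) := Module.Finite.equiv (twistHomEquiv k e M).symm
  haveI : Module.Finite k (L' ⟶ M) := Module.Finite.equiv (twistHomEquiv k e' M).symm
  let eK : (kernel p ⟶ M) ≃ₗ[k] (L' ⟶ M) := Linear.homCongr k (asIso j').symm (Iso.refl M)
  haveI : Module.Finite k (kernel p ⟶ M) := Module.Finite.equiv eK.symm
  haveI : Module.Finite k (unitMod X ⊞ unitMod X ⟶ M) :=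
    Module.Finite.equiv (biprodHomEquiv k X (unitMod X) (unitMod X) M).symm
  -- the two linear maps
  let Φ : (unitMod X ⊞ unitMod X ⟶ M) →ₗ[k] (kernel p ⟶ M) := Linear.leftComp k M (kernel.ι p)
  let Ψ : (L ⟶ M) →ₗ[k] (unitMod X ⊞ unitMod X ⟶ M) := Linear.leftComp k M p
  have hker : LinearMap.ker Φ ≤ LinearMap.range Ψ := by
    intro f hf
    have hf0 : kernel.ι p ≫ f = 0 := hf
    let S : ShortComplex X.Modules := ShortComplex.mk (kernel.ι p) p (kernel.condition p)
    have hS : S.Exact := ShortComplex.exact_kernel p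
    haveI : Epi S.g := hp
    exact ⟨hS.desc f hf0, hS.g_desc f hf0⟩
  have h1 := LinearMap.finrank_range_add_finrank_ker Φ
  have h2 : Module.finrank k (LinearMap.ker Φ) ≤ Module.finrank k (L ⟶ M) :=
    (Submodule.finrank_mono hker).trans (LinearMap.finrank_range_le Ψ)
  have h3 : Module.finrank k (LinearMap.range Φ) ≤ Module.finrank k (kernel p ⟶ M) :=
    Submodule.finrank_le _
  have h4 : Module.finrank k (kernel p ⟶ M) =
      Module.finrank k (Coh.HH X (CohB1.tensorMod M L) 0) := by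
    rw [finrank_H0_eq_finrank_hom k (CohB1.tensorMod M L)]
    exact (eK.trans (twistHomEquiv k e' M)).finrank_eq
  have h5 : Module.finrank k (unitMod X ⊞ unitMod X ⟶ M) =
      2 * Module.finrank k (Coh.HH X M 0) := by
    rw [(biprodHomEquiv k X (unitMod X) (unitMod X) M).finrank_eq, Module.finrank_prod,
      finrank_H0_eq_finrank_hom k M]
    ring
  omega

end Groth.Agent.H5.SD
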