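import Mathlib
import Groth.Agent.Lib.Helper5.SD.KoszB
import Groth.Agent.Lib.Helper5.SD.PencilB
import Groth.Agent.Lib.Helper5.SD.TwLin
import Groth.Agent.Lib.Helper5.DegC.Nef
import Groth.Agent.Lib.Helper5.GG.H1
import Groth.Agent.Lib.Helper5.Glue.F
import Groth.Agent.Lib.Lead.QC.AmpleGG
import Groth.Agent.Lib.Lead.Curve.Proper
import Groth.Agent.Lib.Lead.Curve.DegMono

/-!
# Nef invertible modules on one-dimensional proper schemes with `H¹(O) = 0` are globally generated
and have no `H¹`.
-/

set_option autoImplicit false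
set_option linter.style.haveILetI false
universe u
open CategoryTheory CategoryTheory.Limits AlgebraicGeometry TopologicalSpace Opposite

namespace Groth.Agent.H5.SD

open Groth.Agent.LD Groth.Agent.LD.QC Groth.Agent.LD.CL Groth.Agent.H5.Glue Groth.Agent.H5.GG
  Groth.Agent.H5.DegC Groth.Agent.H5.Curve4

variable (k : Type u) [Field k] (X : Scheme.{u}) [X.Over (Spec (CommRingCat.of k))]
  [IsProper (X ↘ Spec (CommRingCat.of k))]

/-- a coherent quotient of `O_X` with no global sections is zero (dimension `≤ 1`, `H¹(O) = 0`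
is not needed here): in fact any epi `O ⟶ F` with `Hom(O, F) = 0` has `F = 0`. -/
theorem isZero_of_epi_unit_of_hom_eq_zero {F : X.Modules} (ρ : unitMod X ⟶ F) [Epi ρ]
    (h : ∀ t : unitMod X ⟶ F, t = 0) : IsZero F := by
  rw [IsZero.iff_id_eq_zero, ← cancel_epi ρ, Category.comp_id, comp_zero]
  exact h ρ

set_option maxHeartbeats 2000000 in
include k in
/-- a coherent quotient `Q` of a nef invertible module with `Hom(O, Q) = 0` vanishes, when
`H¹(O_X) = 0` in dimension `≤ 1`. -/
theorem isZero_of_epi_of_nef [Nonempty X] (hdim : topologicalKrullDim X ≤ 1)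
    (h1 : Subsingleton (Coh.HH X (Coh.structureModule X) 1))
    (L : X.Modules) (hL : PicF.IsInvertible L)
    (hnef : ∀ C : X.IdealSheafData, IsIntegral C.subscheme →
      topologicalKrullDim (C.support : Set X) = 1 →
        0 ≤ Curv2.euler k X (CohB1.tensorMod (ClSub.quotMod C) L) -
          Curv2.euler k X (ClSub.quotMod C))
    {Q : X.Modules} (π : L ⟶ Q) [Epi π] (hQc : Coh.IsCoh Q)
    (hQ0 : ∀ τ : unitMod X ⟶ Q, τ = 0) : IsZero Q := by
  haveI : CompactSpace X := Curve.compactSpace k X
  haveI : IsNoetherian X := Groth.Agent.H5.Curve2.isNoetherian_of_proper k X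
  haveI : L.IsQuasicoherent := qc_of_isInvertible _ hL
  haveI hqQ : Q.IsQuasicoherent := hQc.1
  -- `h⁰(Q) = 0`
  have hh0Q : Module.finrank k (Coh.HH X Q 0) = 0 := by
    rw [finrank_H0_eq_finrank_hom]
    haveI : Subsingleton (unitMod X ⟶ Q) := ⟨fun a b => by rw [hQ0 a, hQ0 b]⟩
    exact Module.finrank_zero_of_subsingleton
  -- the inverse of `L`
  obtain ⟨M, hM, ⟨e⟩⟩ := exists_inverse L hL
  haveI : M.IsQuasicoherent := qc_of_isInvertible _ hM
  have hMc : Coh.IsCoh M := Groth.Agent.H5.Curve2.isCoh_of_isInvertible hM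
  have hFc : Coh.IsCoh (CohB1.tensorMod M Q) := isCoh_tensorMod' hMc hQc
  haveI hqF : (CohB1.tensorMod M Q).IsQuasicoherent := hFc.1
  haveI : (QC.LT M).PreservesEpimorphisms := preservesEpimorphisms_of_preservesColimitsOfShape _
  have hπM : Epi ((QC.LT M).map π) := (QC.LT M).map_epi π
  obtain ⟨ρ, hρ⟩ : ∃ ρ : unitMod X ⟶ CohB1.tensorMod M Q, Epi ρ :=
    ⟨(tensorCommAll M L ≪≫ e).inv ≫ (QC.LT M).map π, @epi_comp _ _ _ _ _ _ inferInstance _ hπM⟩
  haveI := hρ
  -- `H¹(F) = 0`
  haveI hqU : (unitMod X).IsQuasicoherent := (PF.isCoh_unitMod X).1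
  have hKρc : Coh.IsCoh (kernel ρ) := isCoh_kernel ρ (PF.isCoh_unitMod X) hFc
  haveI : (kernel ρ).IsQuasicoherent := hKρc.1
  let S' : ShortComplex X.Modules := ShortComplex.mk (kernel.ι ρ) ρ (kernel.condition ρ)
  have hS' : S'.ShortExact :=
    { exact := ShortComplex.exact_of_f_is_kernel _ (kernelIsKernel ρ)
      mono_f := inferInstanceAs (Mono (kernel.ι ρ))
      epi_g := inferInstanceAs (Epi ρ) }
  have hF1 : Subsingleton (Coh.HH X (CohB1.tensorMod M Q) 1) :=
    CL.subsingleton_right hS' 1 h1 (Curve.subsingleton_HH_of_two_le k X hdim (kernel ρ) 2 le_rfl)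
  -- `L ⊗ F ≅ Q`
  have eQ : CohB1.tensorMod L (CohB1.tensorMod M Q) ≅ Q :=
    (tensorAssoc (M := L) (N := M) (P := Q)).symm ≪≫
      tensorCommAll (CohB1.tensorMod L M) Q ≪≫
      (QC.LT Q).mapIso e ≪≫ SecTwist.unitorR Q
  -- Euler characteristics
  have hdel := del_nonneg_of_nef k hdim L hL hnef (CohB1.tensorMod M Q) hFc
  unfold del at hdel
  rw [Curve.euler_iso k X eQ, Curve.euler_eq_sub k X hdim Q,
    Curve.euler_eq_sub k X hdim (CohB1.tensorMod M Q), hh0Q] at hdel
  haveI := hF1
  have hF1' : Module.finrank k (Coh.HH X (CohB1.tensorMod M Q) 1) = 0 :=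
    Module.finrank_zero_of_subsingleton
  rw [hF1'] at hdel
  have hh0F : Module.finrank k (Coh.HH X (CohB1.tensorMod M Q) 0) = 0 := by
    push_cast at hdel
    omega
  -- hence `F = 0`
  haveI := finite_hom_unit k X _ hFc
  have hF0 : ∀ t : unitMod X ⟶ CohB1.tensorMod M Q, t = 0 := by
    rw [finrank_H0_eq_finrank_hom] at hh0F
    haveI : Subsingleton (unitMod X ⟶ CohB1.tensorMod M Q) :=
      Module.finrank_zero_iff.mp hh0F
    intro t
    exact Subsingleton.elim _ _
  have hFz : IsZero (CohB1.tensorMod M Q) := isZero_of_epi_unit_of_hom_eq_zero X ρ hF0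
  exact ((QC.LT L).map_isZero hFz).of_iso eQ.symm

include k in
/-- **nef ⇒ globally generated** when `H¹(O_X) = 0` in dimension `≤ 1`. -/
theorem isGloballyGenerated_of_nef_of_H1 [Nonempty X] (hdim : topologicalKrullDim X ≤ 1)
    (h1 : Subsingleton (Coh.HH X (Coh.structureModule X) 1))
    (L : X.Modules) (hL : PicF.IsInvertible L)
    (hnef : ∀ C : X.IdealSheafData, IsIntegral C.subscheme →
      topologicalKrullDim (C.support : Set X) = 1 →
        0 ≤ Curv2.euler k X (CohB1.tensorMod (ClSub.quotMod C) L) -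
          Curv2.euler k X (ClSub.quotMod C)) :
    Curv2.IsGloballyGenerated L := by
  classical
  haveI : CompactSpace X := Curve.compactSpace k X
  haveI : IsNoetherian X := Groth.Agent.H5.Curve2.isNoetherian_of_proper k X
  haveI : L.IsQuasicoherent := qc_of_isInvertible _ hL
  have hLc : Coh.IsCoh L := Groth.Agent.H5.Curve2.isCoh_of_isInvertible hL
  haveI := finite_hom_unit k X L hLc
  let r := Module.finrank k (unitMod X ⟶ L)
  let b := Module.finBasis k (unitMod X ⟶ L)
  let σ : FlatMod.freeMod X r ⟶ L := Sigma.desc (fun i => b i)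
  let π := cokernel.π σ
  have hfc : Coh.IsCoh (FlatMod.freeMod X r) :=
    Curve.isCoh_of_isFinLocFree (isFinLocFree_freeMod X r)
  have hQc : Coh.IsCoh (cokernel σ) := isCoh_cokernel σ hfc hLc
  -- sections of `L` die in the cokernel
  have hsec : ∀ t : unitMod X ⟶ L, t ≫ π = 0 := by
    intro t
    have ht : t = ∑ i, (b.repr t i) • b i := (b.sum_repr t).symm
    rw [ht, Preadditive.sum_comp]
    apply Finset.sum_eq_zero
    intro i _
    rw [Linear.smul_comp]
    have hb : b i ≫ π = 0 := by
      have : b i = Sigma.ι (fun _ : Fin r => unitMod X) i ≫ σ := (Sigma.ι_desc _ _).symm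
      rw [this, Category.assoc, cokernel.condition, comp_zero]
    rw [hb, smul_zero]
  -- the kernel of `π` is globally generated, hence has no `H¹`
  haveI hqQ : (cokernel σ).IsQuasicoherent := hQc.1
  have hKc : Coh.IsCoh (kernel π) := isCoh_kernel π hLc hQc
  haveI hqK : (kernel π).IsQuasicoherent := hKc.1
  have hKgg : Curv2.IsGloballyGenerated (kernel π) :=
    isGloballyGenerated_of_epi_freeMod (Abelian.factorThruImage σ) inferInstance
  have hK1 : Subsingleton (Coh.HH X (kernel π) 1) :=
    subsingleton_H1_of_isGloballyGenerated X k hdim h1 (kernel π) hKc.2 hKgg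
  let S : ShortComplex X.Modules := ShortComplex.mk (kernel.ι π) π (kernel.condition π)
  have hS : S.ShortExact :=
    { exact := ShortComplex.exact_of_f_is_kernel _ (kernelIsKernel π)
      mono_f := inferInstanceAs (Mono (kernel.ι π))
      epi_g := inferInstanceAs (Epi (cokernel.π σ)) }
  have hQ0 : ∀ τ : unitMod X ⟶ cokernel σ, τ = 0 := by
    intro τ
    obtain ⟨t, ht⟩ := Groth.Agent.H5.Split.exists_lift_of_H1 k hS hK1 τ
    rw [← ht]
    exact hsec t
  have hQz : IsZero (cokernel σ) :=
    isZero_of_epi_of_nef k X hdim h1 L hL hnef (cokernel.π σ) hQc hQ0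
  haveI : Epi σ := Preadditive.epi_of_isZero_cokernel σ hQz
  exact isGloballyGenerated_of_epi_freeMod σ inferInstance

include k in
/-- **S16295**. -/
theorem gg_and_H1_of_nef (hdim : topologicalKrullDim X = 1)
    (h1 : Subsingleton (Coh.HH X (Coh.structureModule X) 1))
    (L : X.Modules) (hL : PicF.IsInvertible L)
    (hnef : ∀ J : X.IdealSheafData, IsIntegral J.subscheme → topologicalKrullDim J.subscheme = 1 →
      0 ≤ @Curv2.deg k _ J.subscheme ⟨J.subschemeι ≫ (X ↘ (Spec (CommRingCat.of k)))⟩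
        ((Scheme.Modules.pullback J.subschemeι).obj L) 1) :
    Subsingleton (Coh.HH X L 1) ∧ Curv2.IsGloballyGenerated L := by
  haveI : Nonempty X := Groth.Agent.H5.Curve4.nonempty_of_dim_eq_one X hdim
  haveI : L.IsQuasicoherent := qc_of_isInvertible _ hL
  have hLc : Coh.IsCoh L := Groth.Agent.H5.Curve2.isCoh_of_isInvertible hL
  have hL1 : FlatMod.IsFinLocFreeOfRank 1 L := (isInvertible_iff L).mp hL
  have hnef' : ∀ C : X.IdealSheafData, IsIntegral C.subscheme →
      topologicalKrullDim (C.support : Set X) = 1 →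
        0 ≤ Curv2.euler k X (CohB1.tensorMod (ClSub.quotMod C) L) -
          Curv2.euler k X (ClSub.quotMod C) := by
    intro C hC hd
    have h := hnef C hC (by rw [dim_subscheme_eq]; exact hd)
    have h2 := deg_restrict_eq k C 1 L (Curve.isFinLocFree_of_rank hL1)
    rw [h2] at h
    push_cast at h
    linarith
  have hgg := isGloballyGenerated_of_nef_of_H1 k X hdim.le h1 L hL hnef'
  exact ⟨subsingleton_H1_of_isGloballyGenerated X k hdim.le h1 L hLc.2 hgg, hgg⟩

include k in
/-- **S16296**. -/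
theorem h0_of_nef (hdim : topologicalKrullDim X = 1)
    (h1 : Subsingleton (Coh.HH X (Coh.structureModule X) 1))
    (L : X.Modules) (hL : PicF.IsInvertible L)
    (hnef : ∀ J : X.IdealSheafData, IsIntegral J.subscheme → topologicalKrullDim J.subscheme = 1 →
      0 ≤ @Curv2.deg k _ J.subscheme ⟨J.subschemeι ≫ (X ↘ (Spec (CommRingCat.of k)))⟩
        ((Scheme.Modules.pullback J.subschemeι).obj L) 1) :
    (Module.finrank k (Coh.HH X L 0) : ℤ) =
      Module.finrank k (Coh.HH X (Coh.structureModule X) 0) + Curv2.deg k X L 1 := by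
  haveI : L.IsQuasicoherent := qc_of_isInvertible _ hL
  haveI hqU : (Coh.structureModule X).IsQuasicoherent := (PF.isCoh_unitMod X).1
  haveI := (gg_and_H1_of_nef k X hdim h1 L hL hnef).1
  haveI := h1
  have e1 := Curve.euler_eq_sub k X hdim.le L
  have e2 := Curve.euler_eq_sub k X hdim.le (Coh.structureModule X)
  have z1 : Module.finrank k (Coh.HH X L 1) = 0 := Module.finrank_zero_of_subsingleton
  have z2 : Module.finrank k (Coh.HH X (Coh.structureModule X) 1) = 0 :=
    Module.finrank_zero_of_subsingleton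
  unfold Curv2.deg
  rw [e1, e2, z1, z2]
  push_cast
  ring

end Groth.Agent.H5.SD
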