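import Mathlib
import Groth.Agent.Lib.Helper5.SD.NefGen
import Groth.Agent.Lib.Helper5.Curve2.E
import Groth.Agent.Lib.Lead.PN.AmpleDev
import Groth.Agent.Lib.Lead.QC.TensorComm
import Groth.Agent.Lib.Lead.QC.InvBasis

/-!
# S16309: the section ring of an ample module on a one-dimensional proper scheme with
`H¹(O) = 0` is generated in degree one.
-/

set_option autoImplicit false
set_option linter.style.haveILetI false
universe u
open CategoryTheory CategoryTheory.Limits AlgebraicGeometry TopologicalSpace Opposite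

namespace Groth.Agent.H5.SD

open Groth.Agent.LD Groth.Agent.LD.QC Groth.Agent.LD.CL Groth.Agent.H5.Glue Groth.Agent.H5.GG
  Groth.Agent.H5.DegC Groth.Agent.H5.Curve4

variable (k : Type u) [Field k] (X : Scheme.{u}) [X.Over (Spec (CommRingCat.of k))]
  [IsProper (X ↘ Spec (CommRingCat.of k))]

/-- an ample module has nonnegative (indeed positive) degree on integral one-dimensional closed
subschemes. -/
theorem nef_of_isAmple (L : X.Modules) (hA : CohB1.IsAmple L) :
    ∀ J : X.IdealSheafData, IsIntegral J.subscheme → topologicalKrullDim J.subscheme = 1 →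
      0 ≤ @Curv2.deg k _ J.subscheme ⟨J.subschemeι ≫ (X ↘ (Spec (CommRingCat.of k)))⟩
        ((Scheme.Modules.pullback J.subschemeι).obj L) 1 := by
  intro J hJ hd
  haveI := hJ
  letI : J.subscheme.Over (Spec (CommRingCat.of k)) := ⟨J.subschemeι ≫ (X ↘ Spec (CommRingCat.of k))⟩
  haveI : IsProper (J.subscheme ↘ Spec (CommRingCat.of k)) :=
    inferInstanceAs (IsProper (J.subschemeι ≫ (X ↘ Spec (CommRingCat.of k))))
  have hA' : CohB1.IsAmple ((Scheme.Modules.pullback J.subschemeι).obj L) :=
    Groth.Agent.LD.PN.AmD.isAmple_pullback_of_isAffineHom J.subschemeι L hA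
  exact (Groth.Agent.H5.Curve2.deg_pos_of_isAmple k J.subscheme hd hA').le

include k in
/-- **S16309**. -/
theorem span_tmul_eq_top_of_isAmple (hdim : topologicalKrullDim X = 1)
    (h1 : Subsingleton (Coh.HH X (Coh.structureModule X) 1))
    (L : X.Modules) (hA : CohB1.IsAmple L) (n : ℕ) :
    Submodule.span (X.ringCatSheaf.obj.obj (Opposite.op ⊤))
        (Set.range (fun p : (CohB1.tensorPow L n).val.obj (Opposite.op ⊤) ×
            L.val.obj (Opposite.op ⊤) =>
          SecTwist.tmul (CohB1.tensorPow L n) L ⊤ p.1 p.2)) = ⊤ := by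
  have hL : PicF.IsInvertible L := hA.1
  haveI : L.IsQuasicoherent := qc_of_isInvertible _ hL
  have hgg := (gg_and_H1_of_nef k X hdim h1 L hL (nef_of_isAmple k X L hA)).2
  rcases Nat.eq_zero_or_pos n with rfl | hn
  · rw [eq_top_iff]
    intro y _
    apply Submodule.subset_span
    let one : (CohB1.tensorPow L 0).val.obj (Opposite.op ⊤) := (1 : Γ(X, ⊤))
    refine ⟨(one, (unitorL L).hom.app ⊤ y), ?_⟩
    have hinj : Function.Injective ((unitorL L).hom.app ⊤) :=
      (app_bijective_of_isIso (unitorL L).hom ⊤).1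
    apply hinj
    change (unitorL L).hom.app ⊤ (SecTwist.tmul (unitMod X) L ⊤ (1 : Γ(X, ⊤)) _) = _
    rw [unitorL_hom_app_tmul, one_smul]
  · exact span_tmul_eq_top_of_gg k X hdim L hL hgg 0 h1 n hn

end Groth.Agent.H5.SD
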