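import Mathlib
import Groth.Agent.Lib.Helper5.VAmple.H
import Groth.Agent.Lib.Helper5.Curve5.AffGen
import Groth.Agent.Lib.Lead.QC.TensorPow
import Groth.Agent.Lib.Lead.QC.AmpleBasis

/-!
# The ratios `s_l / s_k` generate `Γ(X_{s_k}, O)` when the section ring is generated in degree one.
-/

set_option autoImplicit false
set_option linter.style.haveILetI false
universe u
open CategoryTheory CategoryTheory.Limits AlgebraicGeometry TopologicalSpace Opposite

namespace Groth.Agent.H5.SD

open Groth.Agent.LD Groth.Agent.LD.QC Groth.Agent.H5.VAmple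

variable {X : Scheme.{u}} (L : X.Modules) {n : ℕ} (s : Fin (n + 1) → ProjUP.Γm L)
  (k : Fin (n + 1))

/-- restriction of global functions to `X_{s_k}`. -/
noncomputable abbrev resU : Γ(X, ⊤) →+* Γ(X, Xs L s k) :=
  (X.presheaf.map (homOfLE (le_top : Xs L s k ≤ ⊤)).op).hom

/-- the subring of `Γ(X, X_{s_k})` generated by the restrictions of `B` and the ratios. -/
noncomputable def ratioRing (B : Set Γ(X, ⊤)) : Subring Γ(X, Xs L s k) :=
  Subring.closure (resU L s k '' B ∪ Set.range (cc L s k))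

/-- the section `s_k` restricted to `X_{s_k}`. -/
noncomputable abbrev eK : Γ(L, Xs L s k) :=
  L.presheaf.map (homOfLE (le_top : Xs L s k ≤ ⊤)).op (s k)

lemma isBasisOver_eK : IsBasisOver L (Xs L s k) (eK L s k) :=
  isBasisOver_Xs L s k le_rfl

variable (B : Set Γ(X, ⊤))

/-- restrictions of `B`-linear combinations of the `s_l`. -/
lemma res_comb (c : Fin (n + 1) → Γ(X, ⊤)) (hc : ∀ l, c l ∈ B) :
    ∃ β ∈ ratioRing L s k B,
      L.presheaf.map (homOfLE (le_top : Xs L s k ≤ ⊤)).op (∑ l, c l • s l) = β • eK L s k := by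
  refine ⟨∑ l, resU L s k (c l) * cc L s k l, ?_, ?_⟩
  · apply Subring.sum_mem
    intro l _
    apply Subring.mul_mem
    · exact Subring.subset_closure (Or.inl ⟨c l, hc l, rfl⟩)
    · exact Subring.subset_closure (Or.inr ⟨l, rfl⟩)
  · rw [map_sum, Finset.sum_smul]
    apply Finset.sum_congr rfl
    intro l _
    rw [smul_res, cc_spec, smul_smul]

variable (H1 : ∀ t : ProjUP.Γm L, ∃ c : Fin (n + 1) → Γ(X, ⊤), (∀ l, c l ∈ B) ∧ t = ∑ l, c l • s l)

include H1 in
/-- restrictions of sections of `L` are `ratioRing`-multiples of `s_k`. -/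
lemma res_section (t : ProjUP.Γm L) :
    ∃ β ∈ ratioRing L s k B,
      L.presheaf.map (homOfLE (le_top : Xs L s k ≤ ⊤)).op t = β • eK L s k := by
  obtain ⟨c, hc, rfl⟩ := H1 t
  exact res_comb L s k B c hc

include H1 in
/-- restrictions of global functions lie in the ratio ring. -/
lemma res_mem_ratioRing (r : Γ(X, ⊤)) : resU L s k r ∈ ratioRing L s k B := by
  obtain ⟨β, hβ, h⟩ := res_section L s k B H1 (r • s k)
  rw [smul_res] at h
  have : resU L s k r = β := (isBasisOver_eK L s k).coord_injective h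
  rw [this]
  exact hβ

variable (H2 : ∀ N : ℕ, Submodule.span Γ(X, ⊤)
    (Set.range (fun p : Γ(CohB1.tensorPow L N, ⊤) × Γ(L, ⊤) =>
      SecTwist.tmul (CohB1.tensorPow L N) L ⊤ p.1 p.2)) = ⊤)

include H1 H2 in
/-- every global section of `L^N` restricts to a `ratioRing`-multiple of `s_k^N`. -/
lemma res_pow_section : ∀ (N : ℕ) (t : Γ(CohB1.tensorPow L N, ⊤)),
    ∃ a ∈ ratioRing L s k B,
      (CohB1.tensorPow L N).presheaf.map (homOfLE (le_top : Xs L s k ≤ ⊤)).op t =
        a • secPow (eK L s k) N := by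
  intro N
  induction N with
  | zero =>
    intro t
    refine ⟨resU L s k t, res_mem_ratioRing L s k B H1 t, ?_⟩
    rw [secPow_zero]
    exact (mul_one (resU L s k t)).symm
  | succ N ih =>
    intro t
    have ht : t ∈ Submodule.span Γ(X, ⊤)
        (Set.range (fun p : Γ(CohB1.tensorPow L N, ⊤) × Γ(L, ⊤) =>
          SecTwist.tmul (CohB1.tensorPow L N) L ⊤ p.1 p.2)) := by
      rw [H2 N]; trivial
    induction ht using Submodule.span_induction with
    | mem x hx =>
      obtain ⟨⟨a, b⟩, rfl⟩ := hx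
      obtain ⟨α, hα, ha⟩ := ih a
      obtain ⟨β, hβ, hb⟩ := res_section L s k B H1 b
      refine ⟨α * β, Subring.mul_mem _ hα hβ, ?_⟩
      change (CohB1.tensorMod (CohB1.tensorPow L N) L).presheaf.map _ _ = _
      rw [tmul_res, ha, hb, tmul_smul_left, tmul_smul_right, smul_smul]
      rfl
    | zero =>
      refine ⟨0, Subring.zero_mem _, ?_⟩
      rw [map_zero, zero_smul]
    | add x y _ _ hx hy =>
      obtain ⟨a, ha, hxa⟩ := hx
      obtain ⟨b, hb, hyb⟩ := hy
      refine ⟨a + b, Subring.add_mem _ ha hb, ?_⟩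
      rw [map_add, hxa, hyb, add_smul]
    | smul r x _ hx =>
      obtain ⟨a, ha, hxa⟩ := hx
      refine ⟨resU L s k r * a, Subring.mul_mem _ (res_mem_ratioRing L s k B H1 r) ha, ?_⟩
      have h1 := smul_res (CohB1.tensorMod (CohB1.tensorPow L N) L) (le_top : Xs L s k ≤ ⊤) r x
      refine h1.trans ?_
      rw [← smul_smul]
      exact congrArg (fun z => resU L s k r • z) hxa

include H1 H2 in
/-- **the ratios generate `Γ(X_{s_k}, O)`** over `B`. -/
theorem ratioRing_eq_top [CompactSpace X] [QuasiSeparatedSpace X] (hL : PicF.IsInvertible L) :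
    ratioRing L s k B = ⊤ := by
  rw [eq_top_iff]
  intro f _
  have hle : Xs L s k ≤ CohB1.genLocus L (homOfSection L (s k)) := (Xs_eq L s k).le
  have hge : CohB1.genLocus L (homOfSection L (s k)) ≤ Xs L s k := (Xs_eq L s k).ge
  obtain ⟨n₀, hn₀⟩ := exists_section_eq_smul_pow L hL (homOfSection L (s k))
    (X.presheaf.map (homOfLE hge).op f)
  obtain ⟨t, ht⟩ := hn₀ n₀ le_rfl
  obtain ⟨a, ha, hta⟩ := res_pow_section L s k B H1 H2 n₀ t
  have h2 := congrArg ((CohB1.tensorPow L n₀).presheaf.map (homOfLE hle).op) ht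
  rw [res_res] at h2
  have h2' := h2.trans (smul_res (CohB1.tensorPow L n₀) hle (X.presheaf.map (homOfLE hge).op f)
    (SecTwist.val (SecTwist.powHom (homOfSection L (s k)) n₀)
      (CohB1.genLocus L (homOfSection L (s k)))))
  have h3 : X.presheaf.map (homOfLE hle).op (X.presheaf.map (homOfLE hge).op f) = f := by
    have := res_res (unitMod X) hge hle f
    exact this.trans (res_self (unitMod X) _ f)
  have h5 : (CohB1.tensorPow L n₀).presheaf.map (homOfLE hle).op
      (SecTwist.val (SecTwist.powHom (homOfSection L (s k)) n₀)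
        (CohB1.genLocus L (homOfSection L (s k)))) = secPow (eK L s k) n₀ := by
    rw [SecTwist.val_powHom, pow_eq_secPow, secPow_res, val_homOfSection, res_res]
  rw [h3, h5] at h2'
  have h4 : f • secPow (eK L s k) n₀ = a • secPow (eK L s k) n₀ := h2'.symm.trans hta
  have : f = a := ((isBasisOver_eK L s k).secPow n₀).coord_injective h4
  rw [this]
  exact ha

end Groth.Agent.H5.SD

namespace Groth.Agent.H5.SD

open Groth.Agent.LD Groth.Agent.LD.QC Groth.Agent.H5.VAmple

variable {X S : Scheme.{u}} [IsAffine S] (q : X ⟶ S) [IsProper q] (L : X.Modules)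
  (hA : CohB1.IsAmple L) {n : ℕ} (s : Fin (n + 1) → ProjUP.Γm L) (hs : ProjUP.GeneratedBy L s)

/-- **very ampleness from degree-one generation**: the morphism to `P^n_S` given by sections
`s_l` spanning `Γ(L)` over the base is an immersion as soon as the section ring is generated in
degree one. -/
theorem isImmersion_toPn_of_generated
    (H1 : ∀ t : ProjUP.Γm L, ∃ c : Fin (n + 1) → Γ(X, ⊤),
      (∀ l, c l ∈ Set.range q.appTop.hom) ∧ t = ∑ l, c l • s l)
    (H2 : ∀ N : ℕ, Submodule.span Γ(X, ⊤)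
      (Set.range (fun p : Γ(CohB1.tensorPow L N, ⊤) × Γ(L, ⊤) =>
        SecTwist.tmul (CohB1.tensorPow L N) L ⊤ p.1 p.2)) = ⊤) :
    IsImmersion (toPn q L hA.1 s hs) := by
  have hL := hA.1
  haveI : CompactSpace X := hA.2.1
  haveI : QuasiSeparatedSpace X := by
    haveI : QuasiSeparatedSpace S := inferInstance
    exact quasiSeparatedSpace_of_quasiSeparated q
  apply isImmersion_toPn q L hL s hs
  intro x
  obtain ⟨k, hk⟩ := exists_mem_Xs L hL s hs x
  have haff : IsAffineOpen (Xs L s k) := by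
    rw [Xs_eq]
    exact Groth.Agent.H5.Curve5.isAffineOpen_genLocus_of_isAmple_of_isProper q L hA _
  refine ⟨k, ⊤, Xs L s k, le_rfl, le_top, isAffineOpen_top S, haff, hk, inf_le_left, ?_⟩
  rw [eq_top_iff, ← ratioRing_eq_top L s k (Set.range q.appTop.hom) H1 H2 hL]
  apply Subring.closure_mono
  rintro b (⟨a, ⟨a', rfl⟩, rfl⟩ | ⟨l, rfl⟩)
  · left
    exact ⟨a', rfl⟩
  · right
    exact ⟨l, res_self (unitMod X) _ _⟩

end Groth.Agent.H5.SD
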