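import Mathlib
import Groth.Agent.Lib.Helper5.SD.VAmp1
import Groth.Agent.Lib.Helper5.SD.PencilB
import Groth.Agent.Lib.Helper5.SD.DualB
import Groth.Agent.Lib.Helper5.GG.FinGen
import Groth.Agent.Lib.Helper5.VAmple.I
import Groth.Agent.Lib.Lead.PN.AmpleSerre
import Groth.Agent.Lib.Lead.PN.OverBridge
import Groth.Agent.Lib.Helper5.AG.ProjProper

/-!
# Very ampleness over a field from degree-one generation of the section ring.
-/

set_option autoImplicit false
set_option linter.style.haveILetI false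
universe u
open CategoryTheory CategoryTheory.Limits AlgebraicGeometry TopologicalSpace Opposite

namespace Groth.Agent.H5.SD

open Groth.Agent.LD Groth.Agent.LD.QC Groth.Agent.H5.VAmple Groth.Agent.H5.GG

variable (k : Type u) [Field k] (X : Scheme.{u}) [X.Over (Spec (CommRingCat.of k))]
  [IsProper (X ↘ Spec (CommRingCat.of k))]

/-- for a globally generated coherent module, a `k`-basis of its global sections generates. -/
theorem epi_desc_basis [CompactSpace X] (L : X.Modules) [L.IsQuasicoherent] (hLf : L.IsFiniteType)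
    (hgg : Curv2.IsGloballyGenerated L) {m : ℕ}
    (b : Module.Basis (Fin m) k (unitMod X ⟶ L)) :
    Epi (Sigma.desc (fun l => b l) : FlatMod.freeMod X m ⟶ L) := by
  obtain ⟨r, p, hp⟩ := exists_epi_freeMod_of_isGloballyGenerated L hLf hgg
  let τ : Fin r → (unitMod X ⟶ L) := fun j => Sigma.ι (fun _ : Fin r => unitMod X) j ≫ p
  let φ : FlatMod.freeMod X r ⟶ FlatMod.freeMod X m :=
    Sigma.desc (fun j => ∑ l, (b.repr (τ j) l) • Sigma.ι (fun _ : Fin m => unitMod X) l)
  have hfac : φ ≫ (Sigma.desc (fun l => b l) : FlatMod.freeMod X m ⟶ L) = p := by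
    apply Sigma.hom_ext
    intro j
    rw [← Category.assoc, Sigma.ι_desc, Preadditive.sum_comp]
    have h1 : ∀ l, ((b.repr (τ j) l) • Sigma.ι (fun _ : Fin m => unitMod X) l) ≫
        (Sigma.desc (fun l => b l) : FlatMod.freeMod X m ⟶ L) = (b.repr (τ j) l) • b l := by
      intro l
      rw [Linear.smul_comp, Sigma.ι_desc]
    rw [Finset.sum_congr rfl (fun l _ => h1 l)]
    exact b.sum_repr (τ j)
  haveI := hp
  exact epi_of_epi_fac hfac

include k in
/-- **very ample**: an ample, globally generated invertible module on a proper `k`-scheme whose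
section ring is generated in degree one embeds `X` into `P(H⁰(L))`. -/
theorem exists_closedImmersion_of_generated (L : X.Modules) (hA : CohB1.IsAmple L)
    (hgg : Curv2.IsGloballyGenerated L)
    (H2 : ∀ N : ℕ, Submodule.span Γ(X, ⊤)
      (Set.range (fun p : Γ(CohB1.tensorPow L N, ⊤) × Γ(L, ⊤) =>
        SecTwist.tmul (CohB1.tensorPow L N) L ⊤ p.1 p.2)) = ⊤)
    (n : ℕ) (hn : Module.finrank k (unitMod X ⟶ L) = n + 1) :
    ∃ i : X ⟶ CohB1.ProjSpace n k, IsClosedImmersion i ∧
      i ≫ CohB1.ProjSpace.toSpec n k = X ↘ Spec (CommRingCat.of k) ∧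
      Nonempty ((Scheme.Modules.pullback i).obj (Twist.twistProjSpace n k 1) ≅ L) := by
  classical
  have hL := hA.1
  haveI : CompactSpace X := hA.2.1
  haveI : L.IsQuasicoherent := qc_of_isInvertible _ hL
  have hLc : Coh.IsCoh L := Groth.Agent.H5.Curve2.isCoh_of_isInvertible hL
  haveI := finite_hom_unit k X L hLc
  let b : Module.Basis (Fin (n + 1)) k (unitMod X ⟶ L) :=
    (Module.finBasis k (unitMod X ⟶ L)).reindex (finCongr hn)
  let s : Fin (n + 1) → ProjUP.Γm L := fun l => sectionOfHom (b l)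
  have hepi := epi_desc_basis k X L hLc.2 hgg b
  have hs : ProjUP.GeneratedBy L s := by
    apply generatedBy_of_forall_mem_genLocus
    intro x
    obtain ⟨l, hl⟩ := exists_mem_genLocus_of_epi L hL _ hepi x
    refine ⟨l, ?_⟩
    rw [Sigma.ι_desc] at hl
    change x ∈ CohB1.genLocus L (homOfSection L (sectionOfHom (b l)))
    rw [homOfSection_sectionOfHom]
    exact hl
  have H1 : ∀ t : ProjUP.Γm L, ∃ c : Fin (n + 1) → Γ(X, ⊤),
      (∀ l, c l ∈ Set.range (X ↘ Spec (CommRingCat.of k)).appTop.hom) ∧ t = ∑ l, c l • s l := by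
    intro t
    letI := PF.moduleΓ k L
    refine ⟨fun l => Coh.toGlobal (X ↘ Spec (CommRingCat.of k)) (b.repr (homOfSection L t) l),
      fun l => ⟨_, rfl⟩, ?_⟩
    have h1 := congrArg (secEquiv k L) (b.sum_repr (homOfSection L t)).symm
    rw [map_sum] at h1
    have h2 : secEquiv k L (homOfSection L t) = t := sectionOfHom_homOfSection L t
    rw [h2] at h1
    refine h1.trans ?_
    apply Finset.sum_congr rfl
    intro l _
    rw [map_smul]
    rfl
  -- the immersion
  have himm := isImmersion_toPn_of_generated (X ↘ Spec (CommRingCat.of k)) L hA s hs H1 H2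
  let j := toPn (X ↘ Spec (CommRingCat.of k)) L hL s hs
  let i : X ⟶ CohB1.ProjSpace n k := j ≫ (PN.OB.bridge n k).inv
  have hi : i ≫ CohB1.ProjSpace.toSpec n k = X ↘ Spec (CommRingCat.of k) := by
    change (j ≫ (PN.OB.bridge n k).inv) ≫ _ = _
    rw [Category.assoc, PN.OB.bridge_inv_toSpec]
    exact toPn_toBase (X ↘ Spec (CommRingCat.of k)) L hL s hs
  haveI : IsImmersion j := himm
  haveI : IsImmersion i := inferInstanceAs (IsImmersion (j ≫ (PN.OB.bridge n k).inv))
  haveI : IsProper (i ≫ CohB1.ProjSpace.toSpec n k) := by rw [hi]; infer_instance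
  haveI : IsProper (CohB1.ProjSpace.toSpec n k) := Groth.Agent.H5.AG.isProper_toSpec n k
  haveI : IsClosedImmersion i :=
    PN.AmS.isClosedImmersion_of_comp_proper i (CohB1.ProjSpace.toSpec n k)
  refine ⟨i, inferInstance, hi, ?_⟩
  obtain ⟨e⟩ := nonempty_iso_toPn (X ↘ Spec (CommRingCat.of k)) L hL s hs
  refine ⟨?_ ≪≫ e.symm⟩
  exact ((Scheme.Modules.pullbackComp j (PN.OB.bridge n k).inv).app
      (Twist.twistProjSpace n k 1)).symm ≪≫
    (Scheme.Modules.pullback j).mapIso (PN.AmS.bridgeTwistIsoInv n k 1)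

end Groth.Agent.H5.SD
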