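import Mathlib
import Groth.Agent.Lib.Helper5.SD.VAmp2
import Groth.Agent.Lib.Helper5.SD.NefGen2
import Groth.Agent.Lib.Helper5.Curve4.VB1
import Groth.Agent.Lib.Helper5.Curve2.G

/-!
# S16297, S1636: very ampleness on one-dimensional proper schemes with `H¹(O) = 0`.
-/

set_option autoImplicit false
set_option linter.style.haveILetI false
universe u
open CategoryTheory CategoryTheory.Limits AlgebraicGeometry TopologicalSpace Opposite

namespace Groth.Agent.H5.SD

open Groth.Agent.LD Groth.Agent.LD.QC Groth.Agent.H5.VAmple Groth.Agent.H5.GG Groth.Agent.H5.DegC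
  Groth.Agent.H5.Curve4

variable (k : Type u) [Field k] (X : Scheme.{u}) [X.Over (Spec (CommRingCat.of k))]
  [IsProper (X ↘ Spec (CommRingCat.of k))]

/-- conversion between the two forms of nefness. -/
theorem nef_quot_of_nef (L : X.Modules) (hL : PicF.IsInvertible L)
    (hnef : ∀ J : X.IdealSheafData, IsIntegral J.subscheme → topologicalKrullDim J.subscheme = 1 →
      0 ≤ @Curv2.deg k _ J.subscheme ⟨J.subschemeι ≫ (X ↘ (Spec (CommRingCat.of k)))⟩
        ((Scheme.Modules.pullback J.subschemeι).obj L) 1) :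
    ∀ C : X.IdealSheafData, IsIntegral C.subscheme →
      topologicalKrullDim (C.support : Set X) = 1 →
        0 ≤ Curv2.euler k X (CohB1.tensorMod (ClSub.quotMod C) L) -
          Curv2.euler k X (ClSub.quotMod C) := by
  have hL1 : FlatMod.IsFinLocFreeOfRank 1 L := (isInvertible_iff L).mp hL
  intro C hC hd
  have h := hnef C hC (by rw [dim_subscheme_eq]; exact hd)
  have h2 := deg_restrict_eq k C 1 L (Curve.isFinLocFree_of_rank hL1)
  rw [h2] at h
  push_cast at h
  linarith

include k in
/-- nef with `H¹(O) = 0` has a nonzero section (dimension one). -/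
theorem exists_finrank_hom_eq_succ (hdim : topologicalKrullDim X = 1)
    (h1 : Subsingleton (Coh.HH X (Coh.structureModule X) 1))
    (L : X.Modules) (hL : PicF.IsInvertible L)
    (hnef : ∀ J : X.IdealSheafData, IsIntegral J.subscheme → topologicalKrullDim J.subscheme = 1 →
      0 ≤ @Curv2.deg k _ J.subscheme ⟨J.subschemeι ≫ (X ↘ (Spec (CommRingCat.of k)))⟩
        ((Scheme.Modules.pullback J.subschemeι).obj L) 1) :
    ∃ n : ℕ, Module.finrank k (unitMod X ⟶ L) = n + 1 := by
  haveI : Nonempty X := nonempty_of_dim_eq_one X hdim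
  have h0 := h0_of_nef k X hdim h1 L hL hnef
  have hd := deg_nonneg_of_nef k hdim.le L hL (nef_quot_of_nef k X L hL hnef)
  have hO := one_le_finrank_HH0 k X
  rw [finrank_H0_eq_finrank_hom] at h0
  refine ⟨Module.finrank k (unitMod X ⟶ L) - 1, ?_⟩
  omega

include k in
/-- **S16297**. -/
theorem veryAmple_of_isAmple_of_H1 (hdim : topologicalKrullDim X = 1)
    (h1 : Subsingleton (Coh.HH X (Coh.structureModule X) 1))
    (L : X.Modules) (hA : CohB1.IsAmple L) :
    ∃ (n : ℕ) (i : X ⟶ CohB1.ProjSpace n k), IsClosedImmersion i ∧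
      i ≫ CohB1.ProjSpace.toSpec n k = X ↘ (Spec (CommRingCat.of k)) ∧
      Nonempty ((Scheme.Modules.pullback i).obj (Twist.twistProjSpace n k 1) ≅ L) := by
  have hL := hA.1
  have hnef := nef_of_isAmple k X L hA
  obtain ⟨-, hgg⟩ := gg_and_H1_of_nef k X hdim h1 L hL hnef
  obtain ⟨n, hn⟩ := exists_finrank_hom_eq_succ k X hdim h1 L hL hnef
  obtain ⟨i, hi⟩ := exists_closedImmersion_of_generated k X L hA hgg
    (fun N => span_tmul_eq_top_of_isAmple k X hdim h1 L hA N) n hn
  exact ⟨n, i, hi⟩

include k in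
/-- **S1636**. -/
theorem closedImmersion_of_genus_zero [IsIntegral X] (hdim : topologicalKrullDim X = 1)
    (h0 : Module.finrank k (Coh.HH X (Coh.structureModule X) 0) = 1)
    (hg : Curv2.genus k X = 0)
    (L : X.Modules) (hL : PicF.IsInvertible L) (d : ℕ) (hd : 0 < d)
    (hdeg : Curv2.deg k X L 1 = d) :
    ∃ i : X ⟶ CohB1.ProjSpace d k, IsClosedImmersion i ∧
      i ≫ CohB1.ProjSpace.toSpec d k = X ↘ (Spec (CommRingCat.of k)) ∧
      Nonempty ((Scheme.Modules.pullback i).obj (Twist.twistProjSpace d k 1) ≅ L) := by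
  haveI : Module.Finite k (Coh.HH X (Coh.structureModule X) 1) :=
    Curve.finite_HH k X _ (PF.isCoh_unitMod X) 1
  have h1 : Subsingleton (Coh.HH X (Coh.structureModule X) 1) := by
    have : Module.finrank k (Coh.HH X (Coh.structureModule X) 1) = 0 := hg
    exact Module.finrank_zero_iff.mp this
  have hA : CohB1.IsAmple L :=
    Groth.Agent.H5.Curve2.isAmple_of_deg_pos k X hdim.le hL (by rw [hdeg]; exact_mod_cast hd)
  have hnef := nef_of_isAmple k X L hA
  obtain ⟨-, hgg⟩ := gg_and_H1_of_nef k X hdim h1 L hL hnef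
  have hh0 := h0_of_nef k X hdim h1 L hL hnef
  rw [finrank_H0_eq_finrank_hom, h0, hdeg] at hh0
  have hn : Module.finrank k (unitMod X ⟶ L) = d + 1 := by
    have : (Module.finrank k (unitMod X ⟶ L) : ℤ) = ((d + 1 : ℕ) : ℤ) := by
      rw [hh0]; push_cast; ring
    exact_mod_cast this
  exact exists_closedImmersion_of_generated k X L hA hgg
    (fun N => span_tmul_eq_top_of_isAmple k X hdim h1 L hA N) d hn

end Groth.Agent.H5.SD
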