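import Mathlib
import Groth.Agent.Lib.Helper5.SD.VAmp3
import Groth.Agent.Lib.Helper5.SD.PowGen
import Groth.Agent.Lib.Helper5.SD.KoszB
import Groth.Agent.Lib.Helper5.IntN.Nak8
import Groth.Agent.Lib.Helper5.GG.Tensor

/-!
# S6537: the square of a globally generated ample module with `H¹ = 0` is very ample.
-/

set_option autoImplicit false
set_option linter.style.haveILetI false
universe u
open CategoryTheory CategoryTheory.Limits AlgebraicGeometry TopologicalSpace Opposite

namespace Groth.Agent.H5.SD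

open Groth.Agent.LD Groth.Agent.LD.QC Groth.Agent.H5.VAmple Groth.Agent.H5.GG Groth.Agent.H5.DegC
  Groth.Agent.H5.Curve4

variable (k : Type u) [Field k] (X : Scheme.{u}) [X.Over (Spec (CommRingCat.of k))]
  [IsProper (X ↘ Spec (CommRingCat.of k))]

omit [X.Over (Spec (CommRingCat.of k))] [IsProper (X ↘ Spec (CommRingCat.of k))] in
/-- the structure sheaf is globally generated. -/
theorem isGloballyGenerated_unit : Curv2.IsGloballyGenerated (unitMod X) := by
  let p : FlatMod.freeMod X 1 ⟶ unitMod X := Sigma.desc (fun _ => 𝟙 _)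
  have h : Sigma.ι (fun _ : Fin 1 => unitMod X) 0 ≫ p = 𝟙 _ := Sigma.ι_desc _ _
  haveI : Epi (Sigma.ι (fun _ : Fin 1 => unitMod X) 0 ≫ p) := by rw [h]; infer_instance
  exact isGloballyGenerated_of_epi_freeMod p (epi_of_epi (Sigma.ι (fun _ : Fin 1 => unitMod X) 0) p)

omit [X.Over (Spec (CommRingCat.of k))] [IsProper (X ↘ Spec (CommRingCat.of k))] in
/-- powers of a globally generated coherent module are globally generated. -/
theorem isGloballyGenerated_tensorPow [CompactSpace X] (L : X.Modules) [L.IsQuasicoherent]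
    (hLf : L.IsFiniteType) (hgg : Curv2.IsGloballyGenerated L) :
    ∀ j : ℕ, Curv2.IsGloballyGenerated (CohB1.tensorPow L j) := by
  obtain ⟨a, p, hp⟩ := exists_epi_freeMod_of_isGloballyGenerated L hLf hgg
  intro j
  induction j with
  | zero => exact isGloballyGenerated_unit X
  | succ j ih => exact isGloballyGenerated_tensorMod_of_epi_freeMod _ L ih a p hp

include k in
/-- a globally generated invertible module on a nonempty proper scheme has a section. -/
theorem exists_finrank_hom_eq_succ_of_gg [Nonempty X] (L : X.Modules) (hL : PicF.IsInvertible L)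
    (hgg : Curv2.IsGloballyGenerated L) :
    ∃ n : ℕ, Module.finrank k (unitMod X ⟶ L) = n + 1 := by
  haveI : CompactSpace X := Curve.compactSpace k X
  haveI : L.IsQuasicoherent := qc_of_isInvertible _ hL
  have hLc : Coh.IsCoh L := Groth.Agent.H5.Curve2.isCoh_of_isInvertible hL
  haveI := finite_hom_unit k X L hLc
  rcases Nat.eq_zero_or_pos (Module.finrank k (unitMod X ⟶ L)) with h0 | hpos
  · exfalso
    let b : Module.Basis (Fin 0) k (unitMod X ⟶ L) :=
      (Module.finBasis k (unitMod X ⟶ L)).reindex (finCongr h0)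
    have hepi := epi_desc_basis k X L hLc.2 hgg b
    obtain ⟨l, -⟩ := exists_mem_genLocus_of_epi L hL _ hepi (Classical.arbitrary X)
    exact l.elim0
  · exact ⟨_, (Nat.succ_pred_eq_of_pos hpos).symm⟩

include k in
/-- **powers `L^d`, `d ≥ m + 1`, are very ample** for `L` ample, globally generated with
`H¹(L^m) = 0`, in dimension one. -/
theorem veryAmple_tensorPow_of_gg (hdim : topologicalKrullDim X = 1)
    (L : X.Modules) (hA : CohB1.IsAmple L) (hgg : Curv2.IsGloballyGenerated L)
    (m : ℕ) (hm : Subsingleton (Coh.HH X (CohB1.tensorPow L m) 1)) (d : ℕ) (hd : m + 1 ≤ d) :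
    ∃ (n : ℕ) (i : X ⟶ CohB1.ProjSpace n k), IsClosedImmersion i ∧
      i ≫ CohB1.ProjSpace.toSpec n k = X ↘ (Spec (CommRingCat.of k)) ∧
      Nonempty ((Scheme.Modules.pullback i).obj (Twist.twistProjSpace n k 1) ≅
        CohB1.tensorPow L d) := by
  have hL := hA.1
  haveI : Nonempty X := nonempty_of_dim_eq_one X hdim
  haveI : CompactSpace X := Curve.compactSpace k X
  haveI : L.IsQuasicoherent := qc_of_isInvertible _ hL
  have hLc : Coh.IsCoh L := Groth.Agent.H5.Curve2.isCoh_of_isInvertible hL
  have hAd : CohB1.IsAmple (CohB1.tensorPow L d) :=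
    Groth.Agent.H5.IntN.isAmple_tensorPow hA d (by omega)
  haveI : (CohB1.tensorPow L d).IsQuasicoherent := qc_of_isInvertible _ hAd.1
  have hggd := isGloballyGenerated_tensorPow X L hLc.2 hgg d
  have hspan : ∀ j, m + 1 ≤ j → SpanAt (CohB1.tensorPow L j) L :=
    fun j hj => span_tmul_eq_top_of_gg k X hdim L hL hgg m hm j hj
  have H2 := spanAt_pow L (m + 1) hspan d hd (by omega)
  obtain ⟨n, hn⟩ := exists_finrank_hom_eq_succ_of_gg k X (CohB1.tensorPow L d) hAd.1 hggd
  obtain ⟨i, hi⟩ := exists_closedImmersion_of_generated k X (CohB1.tensorPow L d) hAd hggd H2 n hn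
  exact ⟨n, i, hi⟩

include k in
/-- **S6537**. -/
theorem veryAmple_sq_of_gg (hdim : topologicalKrullDim X = 1)
    (L : X.Modules) (hL : PicF.IsInvertible L) (hgg : Curv2.IsGloballyGenerated L)
    (h1 : Subsingleton (Coh.HH X L 1)) (hample : CohB1.IsAmple L) :
    ∃ (n : ℕ) (i : X ⟶ CohB1.ProjSpace n k), IsClosedImmersion i ∧
      i ≫ CohB1.ProjSpace.toSpec n k = X ↘ (Spec (CommRingCat.of k)) ∧
      Nonempty ((Scheme.Modules.pullback i).obj (Twist.twistProjSpace n k 1) ≅
        CohB1.tensorPow L 2) := by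
  haveI : L.IsQuasicoherent := qc_of_isInvertible _ hL
  have hm : Subsingleton (Coh.HH X (CohB1.tensorPow L 1) 1) :=
    subsingleton_HH_of_iso (unitorL L) 1 h1
  exact veryAmple_tensorPow_of_gg k X hdim L hample hgg 1 hm 2 le_rfl

end Groth.Agent.H5.SD
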