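import Mathlib
import Groth.Agent.Lib.Helper5.GG.Ext
import Groth.Agent.Lib.Helper5.Deg.Deg3b
import Groth.Agent.Lib.Helper5.Curve3.H1Surj
import Groth.Agent.Lib.Helper5.SD.Genus1Pic
import Groth.Agent.Lib.Helper5.SD.GG2
import Groth.Agent.Lib.Helper5.DegC.TensorDeg
import Groth.Agent.Lib.Lead.Curve.Torsion
import Groth.Agent.Lib.Lead.QC.Closure
import Groth.Agent.Lib.Lead.QC.Support
import Groth.Agent.H4.PCS6

/-!
# Global generation of coherent modules on curves from vanishing of `H¹` of point twists.
-/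

set_option autoImplicit false
set_option linter.style.haveILetI false
universe u
open CategoryTheory CategoryTheory.Limits AlgebraicGeometry TopologicalSpace Opposite

namespace Groth.Agent.H5.SD

open Groth.Agent.LD Groth.Agent.LD.QC Groth.Agent.LD.FF Groth.Agent.H5.Glue Groth.Agent.H5.Curve4
  Groth.Agent.H5.Deg Groth.Agent.H5.GG

variable (k : Type u) [Field k] (X : Scheme.{u}) [X.Over (Spec (CommRingCat.of k))]
  [IsProper (X ↘ Spec (CommRingCat.of k))] [IsIntegral X]

omit [IsIntegral X] [IsProper (X ↘ Spec (CommRingCat.of k))] [X.Over (Spec (CommRingCat.of k))] in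
/-- the free module on a type is quasi-coherent. -/
theorem qc_freeOn (ι : Type u) : (freeOn X ι).IsQuasicoherent :=
  qc_colimit (Discrete.functor fun _ : ι => unitMod X)
    (fun _ => qc_of_isInvertible _ (isInvertible_unit X))

omit [IsIntegral X] [IsProper (X ↘ Spec (CommRingCat.of k))] [X.Over (Spec (CommRingCat.of k))] in
/-- global sections die in the cokernel of `allSections`. -/
theorem cokernel_allSections_app_top (F : X.Modules) (s : Γ(F, ⊤)) :
    (cokernel.π (allSections F)).app ⊤ s = 0 := by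
  obtain ⟨e, he⟩ := exists_allSections F s
  rw [← he]
  change (allSections F ≫ cokernel.π (allSections F)).app ⊤ e = 0
  rw [cokernel.condition]
  rfl

include k in
/-- **key step**: if `H¹(M) = 0` and `σ` is a section of the invertible module `L` vanishing
exactly at the closed point `x`, then `M → M ⊗ L ≅ F → coker(allSections F)` is an epimorphism. -/
theorem epi_twist_cokernel_allSections (hdim : topologicalKrullDim X = 1)
    (M : X.Modules) (hM : Coh.IsCoh M) (hH1 : Subsingleton (Coh.HH X M 1))
    (L : X.Modules) (hL : PicF.IsInvertible L) (σ : unitMod X ⟶ L)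
    (x : X) (hx : IsClosed ({x} : Set X))
    (hσ : ∀ y : X, y ≠ x → y ∈ CohB1.genLocus L σ)
    (F : X.Modules) (hF : Coh.IsCoh F) (e : CohB1.tensorMod M L ≅ F) :
    Epi (twistBy M σ ≫ e.hom ≫ cokernel.π (allSections F)) := by
  haveI : IsNoetherian X := Groth.Agent.H5.Curve2.isNoetherian_of_proper k X
  haveI := hM.1
  haveI := hF.1
  haveI : L.IsQuasicoherent := qc_of_isInvertible L hL
  have hfree : (freeOn X (Γ(F, ⊤) : Type u)).IsQuasicoherent := qc_freeOn X _
  set c := cokernel.π (allSections F) with hc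
  have hQc : Coh.IsCoh (cokernel (allSections F)) :=
    ⟨qc_cokernel (allSections F) hfree hF.1,
      Groth.Agent.H4.PCS6.isFiniteType_of_epi' c hF.2⟩
  set ψ : M ⟶ cokernel (allSections F) := twistBy M σ ≫ e.hom ≫ c with hψ
  have hRc : Coh.IsCoh (cokernel ψ) := isCoh_cokernel ψ hM hQc
  -- local surjectivity of `tw` away from `x`
  have hloc : ∀ y : X, y ≠ x → LocSurjAt (twistBy M σ) y := by
    intro y hy U t hyU
    have hsub := subsingleton_stalk_cokernel_twistBy M σ y (hσ y hy)
    obtain ⟨W, hW, hyW, q, hq⟩ :=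
      exists_germ_preimage_of_subsingleton_cokernel (twistBy M σ) y hsub U hyU t
    exact ⟨W, hW, hyW, q, hq⟩
  have hlocψ : ∀ y : X, y ≠ x → LocSurjAt ψ y := fun y hy =>
    (hloc y hy).comp ((locSurjAt_of_epi e.hom y).comp (locSurjAt_of_epi c y))
  -- the cokernel of ψ is zero
  have hR0 : IsZero (cokernel ψ) := by
    apply Curve.isZero_of_support_closed_points_of_sections _ hRc.2
    · intro y hy
      have hyx : y = x := by
        by_contra hne
        exact hy (Groth.Agent.H5.Curve2.subsingleton_stalk_cokernel_of_locSurjAt ψ y (hlocψ y hne))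
      rw [hyx]
      exact hx
    · intro s
      -- lift `s` to a global section of `F`
      set π := cokernel.π ψ with hπ
      let g : F ⟶ cokernel ψ := c ≫ π
      haveI : Epi g := epi_comp _ _
      let S : ShortComplex X.Modules := ShortComplex.mk (kernel.ι g) g (kernel.condition g)
      have hS : S.ShortExact :=
        { exact := ShortComplex.exact_of_f_is_kernel _ (kernelIsKernel g)
          mono_f := inferInstanceAs (Mono (kernel.ι g))
          epi_g := inferInstanceAs (Epi g) }
      have hKc : Coh.IsCoh (kernel g) := isCoh_kernel g hF hRc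
      -- `H¹(kernel g) = 0`
      have hfac : (twistBy M σ ≫ e.hom) ≫ g = 0 := by
        change (twistBy M σ ≫ e.hom) ≫ c ≫ π = 0
        rw [← Category.assoc]
        have : (twistBy M σ ≫ e.hom) ≫ c = ψ := by rw [hψ, Category.assoc]
        rw [this, hπ, cokernel.condition]
      let tw' : M ⟶ kernel g := kernel.lift g (twistBy M σ ≫ e.hom) hfac
      have htw' : tw' ≫ kernel.ι g = twistBy M σ ≫ e.hom := kernel.lift_ι _ _ _
      have hloc' : ∀ y : X, ¬ IsClosed ({y} : Set X) → LocSurjAt tw' y := by
        intro y hy U t hyU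
        have hyx : y ≠ x := fun h => hy (h ▸ hx)
        obtain ⟨W, hW, hyW, q, hq⟩ :=
          ((hloc y hyx).comp (locSurjAt_of_epi e.hom y)) U ((kernel.ι g).app U t) hyU
        refine ⟨W, hW, hyW, q, ?_⟩
        apply mono_app (kernel.ι g) W
        rw [app_res (kernel.ι g) hW t, ← hq]
        change (tw' ≫ kernel.ι g).app W q = _
        rw [htw']
      have hsurj := Groth.Agent.H5.Curve3.surjective_H1_of_locSurjAt k X hdim.le hM hKc tw' hloc'
      have hK1 : Subsingleton (Coh.HH X (kernel g) 1) :=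
        ⟨fun a b => by
          obtain ⟨a', rfl⟩ := hsurj a
          obtain ⟨b', rfl⟩ := hsurj b
          rw [Subsingleton.elim a' b']⟩
      have hsurj0 : Function.Surjective (S.g.app ⊤) :=
        CL.surjective_app_top_of_injective hS (fun a b _ => hK1.elim a b)
      obtain ⟨s', hs'⟩ := hsurj0 s
      rw [← hs']
      change π.app ⊤ (c.app ⊤ s') = 0
      rw [hc, cokernel_allSections_app_top, map_zero]
  exact Preadditive.epi_of_isZero_cokernel ψ hR0

include k in
/-- **Nakayama step**: under the hypotheses of `epi_twist_cokernel_allSections`, if moreover `σ`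
vanishes at `x`, the cokernel of `allSections F` has zero stalk at `x`. -/
theorem subsingleton_stalk_cokernel_allSections (hdim : topologicalKrullDim X = 1)
    (M : X.Modules) (hM : Coh.IsCoh M) (hH1 : Subsingleton (Coh.HH X M 1))
    (L : X.Modules) (hL : PicF.IsInvertible L) (σ : unitMod X ⟶ L)
    (x : X) (hx : IsClosed ({x} : Set X))
    (hσ : ∀ y : X, y ≠ x → y ∈ CohB1.genLocus L σ) (hσx : x ∉ CohB1.genLocus L σ)
    (F : X.Modules) (hF : Coh.IsCoh F) (e : CohB1.tensorMod M L ≅ F) :
    Subsingleton ((cokernel (allSections F)).presheaf.stalk x) := by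
  haveI := hM.1
  haveI := hF.1
  haveI : L.IsQuasicoherent := qc_of_isInvertible L hL
  have hfree : (freeOn X (Γ(F, ⊤) : Type u)).IsQuasicoherent := qc_freeOn X _
  set Q := cokernel (allSections F) with hQdef
  set c := cokernel.π (allSections F) with hc
  have hQc : Coh.IsCoh Q :=
    ⟨qc_cokernel (allSections F) hfree hF.1,
      Groth.Agent.H4.PCS6.isFiniteType_of_epi' c hF.2⟩
  haveI := hQc.1
  have hepi := epi_twist_cokernel_allSections k X hdim M hM hH1 L hL σ x hx hσ F hF e
  set ψ : M ⟶ Q := twistBy M σ ≫ e.hom ≫ c with hψ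
  have hlocx : LocSurjAt ψ x := @locSurjAt_of_epi _ _ _ ψ hepi x
  obtain ⟨U, e₀, hxU, he⟩ := (isInvertible_iff_exists_isBasisOver L).mp hL x
  obtain ⟨h, hh⟩ := (he U le_rfl).2 (SecTwist.val σ U)
  have hh' : h • e₀ = SecTwist.val σ U := by
    have := hh
    simp only [QC.res_self] at this
    exact this
  have hnu : ¬ IsUnit (X.presheaf.germ U x hxU h) := by
    intro hu
    apply hσx
    have hyb : x ∈ X.basicOpen h := (X.mem_basicOpen h x hxU).mpr hu
    have hble : X.basicOpen h ≤ U := X.basicOpen_le h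
    have hunit : IsUnit (X.presheaf.map (homOfLE hble).op h) :=
      RingedSpace.isUnit_res_basicOpen X.toRingedSpace h
    have hb : IsBasisOver L (X.basicOpen h) (SecTwist.val σ (X.basicOpen h)) := by
      have h1 := IsBasisOver.smul_unit (he.mono hble) _ hunit
      have h2 : X.presheaf.map (homOfLE hble).op h • L.presheaf.map (homOfLE hble).op e₀ =
          SecTwist.val σ (X.basicOpen h) := by
        rw [← smul_res, hh']
        exact SecTwist.map_val σ (homOfLE hble)
      rwa [h2] at h1
    exact ((le_genLocus_iff_isBasisOver L σ _).mpr hb) hyb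
  have key : ∀ a : Q.presheaf.stalk x, ∃ b : Q.presheaf.stalk x,
      a = X.presheaf.germ U x hxU h • b := by
    intro a
    obtain ⟨V₀, hxV₀, q₀, rfl⟩ := TopCat.Presheaf.exists_germ_eq Q.presheaf a
    set V : X.Opens := V₀ ⊓ U
    have hxV : x ∈ V := ⟨hxV₀, hxU⟩
    have hVU : V ≤ U := inf_le_right
    obtain ⟨q, hqdef⟩ : ∃ q : Γ(Q, V), q = Q.presheaf.map (homOfLE (inf_le_left : V ≤ V₀)).op q₀ :=
      ⟨_, rfl⟩
    have hq : Q.presheaf.germ V x hxV q = Q.presheaf.germ V₀ x hxV₀ q₀ := by
      rw [hqdef]; exact germ_res Q x inf_le_left hxV q₀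
    rw [← hq]
    obtain ⟨W, hWV, hxW, m, hm⟩ := hlocx V q hxV
    have hWU : W ≤ U := hWV.trans hVU
    have h2 : L.presheaf.map (homOfLE hWU).op (SecTwist.val σ U) = SecTwist.val σ W :=
      SecTwist.map_val σ (homOfLE hWU)
    have h1 : ψ.app W m = X.presheaf.map (homOfLE hWU).op h •
        c.app W (e.hom.app W (SecTwist.tmul M L W m (L.presheaf.map (homOfLE hWU).op e₀))) := by
      change c.app W (e.hom.app W ((twistBy M σ).app W m)) = _
      rw [twistBy_app, ← h2, ← hh', smul_res, tmul_smul_right]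
      have e1 := Scheme.Modules.Hom.app_smul e.hom (X.presheaf.map (homOfLE hWU).op h)
        (SecTwist.tmul M L W m (L.presheaf.map (homOfLE hWU).op e₀))
      have e2 := Scheme.Modules.Hom.app_smul c (X.presheaf.map (homOfLE hWU).op h)
        (e.hom.app W (SecTwist.tmul M L W m (L.presheaf.map (homOfLE hWU).op e₀)))
      exact (congrArg (c.app W) e1).trans e2
    refine ⟨Q.presheaf.germ W x hxW
      (c.app W (e.hom.app W (SecTwist.tmul M L W m (L.presheaf.map (homOfLE hWU).op e₀)))), ?_⟩
    rw [← germ_res Q x hWV hxW q, ← hm, h1, germ_smul, sgerm_res]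
    rfl
  haveI : @Module.Finite (X.presheaf.stalk x) (Q.presheaf.stalk x) _ _ (QC.stalkModule Q x) :=
    Groth.Agent.H1.CohLen.finite_stalk Q hQc.2 x
  letI : Module (X.presheaf.stalk x) (Q.presheaf.stalk x) := QC.stalkModule Q x
  have hle : (⊤ : Submodule (X.presheaf.stalk x) (Q.presheaf.stalk x)) ≤
      IsLocalRing.maximalIdeal (X.presheaf.stalk x) • ⊤ := by
    intro a _
    obtain ⟨b, rfl⟩ := key a
    exact Submodule.smul_mem_smul ((IsLocalRing.mem_maximalIdeal _).mpr hnu) Submodule.mem_top
  have hbot := Submodule.eq_bot_of_le_smul_of_le_jacobson_bot _ _ Module.Finite.fg_top hle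
    (IsLocalRing.maximalIdeal_le_jacobson _)
  exact ⟨fun a b => by
    have ha : a ∈ (⊤ : Submodule (X.presheaf.stalk x) (Q.presheaf.stalk x)) := Submodule.mem_top
    have hb : b ∈ (⊤ : Submodule (X.presheaf.stalk x) (Q.presheaf.stalk x)) := Submodule.mem_top
    rw [hbot] at ha hb
    rw [(Submodule.mem_bot _).mp ha, (Submodule.mem_bot _).mp hb]⟩

include k in
/-- **global generation from point twists**: if for every closed point `x` the module `F` is a twist
`M ⊗ L` with `H¹(M) = 0` and `L` invertible with a section vanishing exactly at `x`, then `F` is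
globally generated. -/
theorem isGloballyGenerated_of_point_twists (hdim : topologicalKrullDim X = 1)
    (F : X.Modules) (hF : Coh.IsCoh F)
    (h : ∀ x : X, IsClosed ({x} : Set X) → ∃ (M L : X.Modules) (σ : unitMod X ⟶ L),
      Coh.IsCoh M ∧ Subsingleton (Coh.HH X M 1) ∧ PicF.IsInvertible L ∧
      (∀ y : X, y ≠ x → y ∈ CohB1.genLocus L σ) ∧ x ∉ CohB1.genLocus L σ ∧
      Nonempty (CohB1.tensorMod M L ≅ F)) :
    Curv2.IsGloballyGenerated F := by
  haveI : IsNoetherian X := Groth.Agent.H5.Curve2.isNoetherian_of_proper k X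
  rw [isGloballyGenerated_iff_allSections]
  apply Preadditive.epi_of_isZero_cokernel
  apply isZero_of_subsingleton_stalks
  intro y
  by_contra hy
  have hft : (cokernel (allSections F)).IsFiniteType :=
    Groth.Agent.H4.PCS6.isFiniteType_of_epi' (cokernel.π (allSections F)) hF.2
  have hcl := isClosed_support_of_isFiniteType (cokernel (allSections F)) hft
  obtain ⟨x, hxy, hx⟩ := (isClosed_closure (s := ({y} : Set X))).exists_closed_singleton
    ⟨y, subset_closure rfl⟩
  have hxS : x ∈ {z : X | ¬ Subsingleton ((cokernel (allSections F)).presheaf.stalk z)} :=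
    (hcl.closure_subset_iff.mpr (Set.singleton_subset_iff.mpr hy)) hxy
  obtain ⟨M, L, σ, hM, hH1, hL, hσ, hσx, ⟨e⟩⟩ := h x hx
  exact hxS (subsingleton_stalk_cokernel_allSections k X hdim M hM hH1 L hL σ x hx hσ hσx F hF e)

/-- **the module `O(x)` of a regular closed point**: an invertible module `L` with inverse `P`
(the ideal of `x`), a section of `L` vanishing exactly at `x`, and `deg P = -[κ(x) : k]`. -/
theorem exists_point_twist_data (hdim : topologicalKrullDim X = 1) (x : X)
    (hx : IsClosed ({x} : Set X)) (hreg : IsRegularLocalRing (X.presheaf.stalk x)) :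
    ∃ (L P : X.Modules) (σ : unitMod X ⟶ L), PicF.IsInvertible L ∧ PicF.IsInvertible P ∧
      Nonempty (CohB1.tensorMod P L ≅ unitMod X) ∧
      (∀ y : X, y ≠ x → y ∈ CohB1.genLocus L σ) ∧ x ∉ CohB1.genLocus L σ ∧
      Curv2.deg k X P 1 = - (Module.finrank k (Coh.HH X
          (ClSub.quotMod (Scheme.IdealSheafData.vanishingIdeal ⟨{x}, hx⟩)) 0) : ℤ) ∧
      Curv2.deg k X L 1 = (Module.finrank k (Coh.HH X
          (ClSub.quotMod (Scheme.IdealSheafData.vanishingIdeal ⟨{x}, hx⟩)) 0) : ℤ) := by
  haveI : IsNoetherian X := Groth.Agent.H5.Curve2.isNoetherian_of_proper k X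
  let J := Scheme.IdealSheafData.vanishingIdeal (⟨{x}, hx⟩ : Closeds X)
  obtain ⟨hP, hdegP⟩ := point_ideal_facts k X hdim x hx hreg
  obtain ⟨L, hL, ⟨eL⟩⟩ := Groth.Agent.H5.Glue.exists_inverse _ hP
  haveI : L.IsQuasicoherent := qc_of_isInvertible _ hL
  let σ : unitMod X ⟶ L :=
    eL.inv ≫ KoszTw.tensorMap (ClSub.idealModι J) (𝟙 L) ≫ (unitorL L).hom
  have hdegL : Curv2.deg k X L 1 = (Module.finrank k (Coh.HH X (ClSub.quotMod J) 0) : ℤ) := by
    have h1 := Groth.Agent.H5.Curve2.deg_tensor k X hdim.le hP hL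
    rw [Curve.deg_iso k X eL 1, Curve.deg_structureModule k X] at h1
    have h2 : Curv2.deg k X (ClSub.idealMod J) 1 =
        - (Module.finrank k (Coh.HH X (ClSub.quotMod J) 0) : ℤ) := hdegP
    linarith
  have hσ : ∀ y : X, y ≠ x → y ∈ CohB1.genLocus L σ := by
    intro y hy
    have hysupp : y ∉ J.support := by
      intro hmem
      have h1 : y ∈ (J.support : Set X) := hmem
      rw [Scheme.IdealSheafData.coe_support_vanishingIdeal] at h1
      have h2 : y ∈ ({x} : Set X) := by
        have : closure ({x} : Set X) = {x} := hx.closure_eq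
        simpa [this] using h1
      exact hy (Set.mem_singleton_iff.mp h2)
    apply Groth.Agent.H5.Curve6.mem_genLocus_of_locSurjAt hL
    exact (locSurjAt_of_epi eL.inv y).comp
      ((((Groth.Agent.H5.Curve6.locSurjAt_idealModι J y hysupp)).tensorMap L hL).comp
        (locSurjAt_of_epi (unitorL L).hom y))
  refine ⟨L, ClSub.idealMod J, σ, hL, hP, ⟨eL⟩, hσ, ?_, hdegP, hdegL⟩
  intro hxmem
  have hall : ∀ y : X, y ∈ CohB1.genLocus L σ := by
    intro y
    by_cases hy : y = x
    · rw [hy]; exact hxmem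
    · exact hσ y hy
  haveI := Groth.Agent.H5.IntN.isIso_of_genLocus_eq_top σ hall
  have h3 := Curve.deg_iso k X (asIso σ) 1
  rw [Curve.deg_structureModule k X] at h3
  have hpos := finrank_H0_quotMod_point_pos k X x hx
  have : (0 : ℤ) < (Module.finrank k (Coh.HH X (ClSub.quotMod J) 0) : ℤ) := by exact_mod_cast hpos
  change (0 : ℤ) = Curv2.deg k X L 1 at h3
  linarith

/-- **global generation on a regular curve**: if `H¹(F ⊗ P) = 0` for every invertible `P` of
degree `-[κ(x) : k]`, `x` a closed point, then `F` is globally generated. -/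
theorem isGloballyGenerated_of_H1_twists (hdim : topologicalKrullDim X = 1)
    (hreg : ∀ x : X, IsRegularLocalRing (X.presheaf.stalk x))
    (F : X.Modules) (hF : Coh.IsCoh F)
    (h : ∀ (x : X) (hx : IsClosed ({x} : Set X)) (P : X.Modules), PicF.IsInvertible P →
      Curv2.deg k X P 1 = - (Module.finrank k (Coh.HH X
          (ClSub.quotMod (Scheme.IdealSheafData.vanishingIdeal ⟨{x}, hx⟩)) 0) : ℤ) →
      Subsingleton (Coh.HH X (CohB1.tensorMod F P) 1)) :
    Curv2.IsGloballyGenerated F := by
  haveI : IsNoetherian X := Groth.Agent.H5.Curve2.isNoetherian_of_proper k X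
  haveI := hF.1
  apply isGloballyGenerated_of_point_twists k X hdim F hF
  intro x hx
  obtain ⟨L, P, σ, hL, hP, ⟨eL⟩, hσ, hσx, hdegP, -⟩ :=
    exists_point_twist_data k X hdim x hx (hreg x)
  haveI : L.IsQuasicoherent := qc_of_isInvertible _ hL
  haveI : P.IsQuasicoherent := qc_of_isInvertible _ hP
  have hPc : Coh.IsCoh P := Curve.isCoh_of_rank ((isInvertible_iff P).mp hP)
  refine ⟨CohB1.tensorMod F P, L, σ, Groth.Agent.H5.DegC.isCoh_tensorMod' hF hPc, h x hx P hP hdegP, hL, hσ, hσx,
    ⟨tensorAssoc F P L ≪≫ tensorIso' (Iso.refl F) eL ≪≫ SecTwist.unitorR F⟩⟩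

end Groth.Agent.H5.SD
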