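import Mathlib
import Groth.Agent.Lib.Helper5.SD.GeoConn
import Groth.Agent.H4.Cok2
import Groth.Agent.Lib.Helper9.Misc.SHP3
import Groth.Agent.Lib.Lead.CohLES.H0

/-!
# S18926: a finite flat cover `X → Y` with `H⁰(coker(O_Y → ρ_* O_X)) = 0` is geometrically
connected when `Y` is.
-/

set_option autoImplicit false
set_option linter.style.haveILetI false
universe u
open CategoryTheory CategoryTheory.Limits AlgebraicGeometry TopologicalSpace Opposite

namespace Groth.Agent.H5.SD

open Groth.Agent.LD Groth.Agent.LD.QC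

theorem geometricallyConnected_of_subsingleton_h0_cokernel
    (k : Type u) [Field k] (X Y : Scheme.{u}) (g : Y ⟶ Spec (CommRingCat.of k)) (ρ : X ⟶ Y)
    [IsProper g] [GeometricallyConnected g] [GeometricallyReduced g]
    [IsFinite ρ] [Flat ρ] [Surjective ρ]
    (h0 : Subsingleton (Coh.HH Y (cokernel (ClSub.unitToPush ρ)) 0)) :
    GeometricallyConnected (ρ ≫ g) := by
  letI : Y.Over (Spec (CommRingCat.of k)) := ⟨g⟩
  letI : X.Over (Spec (CommRingCat.of k)) := ⟨ρ ≫ g⟩
  haveI : IsProper (Y ↘ Spec (CommRingCat.of k)) := ‹IsProper g›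
  haveI : GeometricallyConnected (Y ↘ Spec (CommRingCat.of k)) := ‹GeometricallyConnected g›
  haveI : GeometricallyReduced (Y ↘ Spec (CommRingCat.of k)) := ‹GeometricallyReduced g›
  haveI : IsProper (X ↘ Spec (CommRingCat.of k)) :=
    inferInstanceAs (IsProper (ρ ≫ g))
  have hY := FF.finrank_HH0_eq_one k Y
  -- `O_Y → ρ_* O_X` is a monomorphism
  haveI : Mono (ClSub.unitToPush ρ) := by
    apply mono_of_injective_app
    intro W
    exact Groth.Agent.H9.SHP.app_injective_of_flat_of_surjective ρ W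
  -- global sections of the cokernel vanish
  haveI : Subsingleton Γ(cokernel (ClSub.unitToPush ρ), ⊤) :=
    (CL.HH0Equiv (cokernel (ClSub.unitToPush ρ))).symm.subsingleton
  have hex := Groth.Agent.H4.Cok.exact_app ρ ⊤
  have hsurj : Function.Surjective (ρ.app ⊤).hom := by
    intro t
    obtain ⟨s, hs⟩ := (hex t).mp (Subsingleton.elim _ _)
    exact ⟨s, hs⟩
  have hinj : Function.Injective (ρ.app ⊤).hom :=
    Groth.Agent.H9.SHP.app_injective_of_flat_of_surjective ρ ⊤
  -- transfer the dimension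
  letI algY : Algebra k Γ(Y, ⊤) := (Coh.toGlobal (Y ↘ Spec (CommRingCat.of k))).toAlgebra
  letI algX : Algebra k Γ(X, ⊤) := (Coh.toGlobal (X ↘ Spec (CommRingCat.of k))).toAlgebra
  have hYΓ : Module.finrank k Γ(Y, ⊤) = 1 := by
    rw [← hY]; exact (FF.finrank_HH0_eq k Y).symm
  let e : Γ(Y, ⊤) ≃+* Γ(X, ⊤) := RingEquiv.ofBijective (ρ.app ⊤).hom ⟨hinj, hsurj⟩
  have hcomm : ∀ c : k, e (algebraMap k Γ(Y, ⊤) c) = algebraMap k Γ(X, ⊤) c := by
    intro c
    exact (KLin.toGlobal_comp ρ g c).symm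
  let eL : Γ(Y, ⊤) ≃ₗ[k] Γ(X, ⊤) :=
    { e with
      map_smul' := fun c y => by
        change e (c • y) = c • e y
        rw [Algebra.smul_def, Algebra.smul_def, map_mul, hcomm] }
  have hX : Module.finrank k (Coh.HH X (Coh.structureModule X) 0) = 1 := by
    rw [FF.finrank_HH0_eq k X, ← eL.finrank_eq, hYΓ]
  exact geometricallyConnected_of_finrank_HH0_eq_one k X hX

end Groth.Agent.H5.SD
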