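import Mathlib
import Groth.Agent.Lib.Helper5.SD.GGvb
import Groth.Agent.Lib.Helper5.SD.VAmp4
import Groth.Agent.Lib.Helper5.GF.GF6
import Groth.Agent.Lib.Lead.QC.Mon
import Groth.Agent.Lib.Helper5.Curve6.Ell1

/-!
# Global generation of `L ⊗ L` for an invertible module with a regular section and `H¹(L) = 0`
on a proper scheme of dimension one (Stacks 0E3B).
-/

set_option autoImplicit false
set_option linter.style.haveILetI false
universe u
open CategoryTheory CategoryTheory.Limits AlgebraicGeometry TopologicalSpace Opposite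

namespace Groth.Agent.H5.SD

open Groth.Agent.LD Groth.Agent.LD.QC Groth.Agent.LD.FF Groth.Agent.H5.Glue Groth.Agent.H5.Curve4
  Groth.Agent.H5.Deg Groth.Agent.H5.GG

section reg

variable {X : Scheme.{u}}

/-- the zeros of a regular section of an invertible module have proper generalizations. -/
theorem exists_generalization_of_notMem_genLocus {L : X.Modules} (hL : PicF.IsInvertible L)
    (s : unitMod X ⟶ L) [Mono s] (z : X) (hz : z ∉ CohB1.genLocus L s) :
    ∃ y : X, y ⤳ z ∧ y ≠ z := by
  by_contra hcon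
  push Not at hcon
  obtain ⟨U₀, e₀, hzU₀, he₀⟩ := (isInvertible_iff_exists_isBasisOver L).mp hL z
  obtain ⟨U, hU, hzU, hUU₀⟩ := exists_isAffineOpen_mem_and_subset (x := z) (U := U₀) hzU₀
  have he : IsBasisOver L U (L.presheaf.map (homOfLE hUU₀).op e₀) := he₀.mono hUU₀
  set e := L.presheaf.map (homOfLE hUU₀).op e₀ with hedef
  obtain ⟨h, hh⟩ := (he U le_rfl).2 (SecTwist.val s U)
  have hh' : h • e = SecTwist.val s U := by
    have := hh
    simp only [QC.res_self] at this
    exact this
  have hmin := Groth.Agent.H5.GF.primeIdealOf_mem_minimalPrimes_of_isMinPt hU z hzU hcon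
  -- `h` is a nonzerodivisor
  have hnzd : h ∈ nonZeroDivisors Γ(X, U) := by
    rw [mem_nonZeroDivisors_iff_right]
    intro a ha
    have h1 : s.app U a = a • SecTwist.val s U :=
      Groth.Agent.H5.Curve6.app_eq_smul_val s U a
    have h2 : s.app U a = 0 := by
      have e1 : a • SecTwist.val s U = 0 := by
        have e2 : (a * h) • e = 0 := by rw [ha, zero_smul]
        have e3 : a • (h • e) = (a * h) • e := (mul_smul a h e).symm
        exact (congrArg (fun t => a • t) hh'.symm).trans (e3.trans e2)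
      exact h1.trans e1
    have h3 : s.app U a = s.app U 0 := by rw [h2, map_zero]
    exact mono_app s U h3
  have hfp : h ∈ (hU.primeIdealOf ⟨z, hzU⟩).asIdeal := by
    by_contra hn
    have h1 := (Groth.Agent.H5.Curve3.mem_basicOpen_iff_notMem_primeIdealOf hU h z hzU).mpr hn
    apply hz
    have hble : X.basicOpen h ≤ U := X.basicOpen_le h
    have hunit : IsUnit (X.presheaf.map (homOfLE hble).op h) :=
      RingedSpace.isUnit_res_basicOpen X.toRingedSpace h
    have hb : IsBasisOver L (X.basicOpen h) (SecTwist.val s (X.basicOpen h)) := by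
      have h1 := IsBasisOver.smul_unit (he.mono hble) _ hunit
      have h2 : X.presheaf.map (homOfLE hble).op h • L.presheaf.map (homOfLE hble).op e =
          SecTwist.val s (X.basicOpen h) := by
        rw [← smul_res, hh']
        exact SecTwist.map_val s (homOfLE hble)
      rwa [h2] at h1
    exact ((le_genLocus_iff_isBasisOver L s _).mpr hb) h1
  exact Set.disjoint_left.mp (Ideal.disjoint_nonZeroDivisors_of_mem_minimalPrimes hmin) hfp hnzd

/-- in dimension `≤ 1`, the zeros of a regular section are closed points. -/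
theorem mem_genLocus_of_not_isClosed (hdim : topologicalKrullDim X ≤ 1) {L : X.Modules}
    (hL : PicF.IsInvertible L) (s : unitMod X ⟶ L) [Mono s] (y : X)
    (hy : ¬ IsClosed ({y} : Set X)) : y ∈ CohB1.genLocus L s := by
  by_contra hn
  obtain ⟨y', hy', hne⟩ := exists_generalization_of_notMem_genLocus hL s y hn
  exact hy (Groth.Agent.H5.Curve3.isClosed_singleton_of_generalization hdim hy' hne)

end reg

section main

variable (k : Type u) [Field k] (X : Scheme.{u}) [X.Over (Spec (CommRingCat.of k))]
  [IsProper (X ↘ Spec (CommRingCat.of k))]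

include k in
/-- **key step** (no integrality, zero locus of `σ` made of closed points): if `H¹(M) = 0`, then
`M → M ⊗ L ≅ F → coker(allSections F)` is an epimorphism. -/
theorem epi_twist_cokernel_allSections' (hdim : topologicalKrullDim X ≤ 1)
    (M : X.Modules) (hM : Coh.IsCoh M) (hH1 : Subsingleton (Coh.HH X M 1))
    (L : X.Modules) (hL : PicF.IsInvertible L) (σ : unitMod X ⟶ L)
    (hσ : ∀ y : X, ¬ IsClosed ({y} : Set X) → y ∈ CohB1.genLocus L σ)
    (F : X.Modules) (hF : Coh.IsCoh F) (e : CohB1.tensorMod M L ≅ F) :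
    Epi (twistBy M σ ≫ e.hom ≫ cokernel.π (allSections F)) := by
  haveI : IsNoetherian X := Groth.Agent.H5.Curve2.isNoetherian_of_proper k X
  haveI := hM.1
  haveI := hF.1
  haveI : L.IsQuasicoherent := qc_of_isInvertible L hL
  have hfree : (freeOn X (Γ(F, ⊤) : Type u)).IsQuasicoherent := qc_freeOn X _
  set c := cokernel.π (allSections F) with hc
  have hQc : Coh.IsCoh (cokernel (allSections F)) :=
    ⟨qc_cokernel (allSections F) hfree hF.1,
      Groth.Agent.H4.PCS6.isFiniteType_of_epi' c hF.2⟩
  set ψ : M ⟶ cokernel (allSections F) := twistBy M σ ≫ e.hom ≫ c with hψ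
  have hRc : Coh.IsCoh (cokernel ψ) := isCoh_cokernel ψ hM hQc
  -- local surjectivity of `tw` at non-closed points
  have hloc : ∀ y : X, ¬ IsClosed ({y} : Set X) → LocSurjAt (twistBy M σ) y := by
    intro y hy U t hyU
    have hsub := subsingleton_stalk_cokernel_twistBy M σ y (hσ y hy)
    obtain ⟨W, hW, hyW, q, hq⟩ :=
      exists_germ_preimage_of_subsingleton_cokernel (twistBy M σ) y hsub U hyU t
    exact ⟨W, hW, hyW, q, hq⟩
  have hlocψ : ∀ y : X, ¬ IsClosed ({y} : Set X) → LocSurjAt ψ y := fun y hy =>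
    (hloc y hy).comp ((locSurjAt_of_epi e.hom y).comp (locSurjAt_of_epi c y))
  -- the cokernel of ψ is zero
  have hR0 : IsZero (cokernel ψ) := by
    apply Curve.isZero_of_support_closed_points_of_sections _ hRc.2
    · intro y hy
      by_contra hne
      exact hy (Groth.Agent.H5.Curve2.subsingleton_stalk_cokernel_of_locSurjAt ψ y (hlocψ y hne))
    · intro s
      -- lift `s` to a global section of `F`
      set π := cokernel.π ψ with hπ
      let g : F ⟶ cokernel ψ := c ≫ π
      haveI : Epi g := epi_comp _ _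
      let S : ShortComplex X.Modules := ShortComplex.mk (kernel.ι g) g (kernel.condition g)
      have hS : S.ShortExact :=
        { exact := ShortComplex.exact_of_f_is_kernel _ (kernelIsKernel g)
          mono_f := inferInstanceAs (Mono (kernel.ι g))
          epi_g := inferInstanceAs (Epi g) }
      have hKc : Coh.IsCoh (kernel g) := isCoh_kernel g hF hRc
      -- `H¹(kernel g) = 0`
      have hfac : (twistBy M σ ≫ e.hom) ≫ g = 0 := by
        change (twistBy M σ ≫ e.hom) ≫ c ≫ π = 0
        rw [← Category.assoc]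
        have : (twistBy M σ ≫ e.hom) ≫ c = ψ := by rw [hψ, Category.assoc]
        rw [this, hπ, cokernel.condition]
      let tw' : M ⟶ kernel g := kernel.lift g (twistBy M σ ≫ e.hom) hfac
      have htw' : tw' ≫ kernel.ι g = twistBy M σ ≫ e.hom := kernel.lift_ι _ _ _
      have hloc' : ∀ y : X, ¬ IsClosed ({y} : Set X) → LocSurjAt tw' y := by
        intro y hy U t hyU
        obtain ⟨W, hW, hyW, q, hq⟩ :=
          ((hloc y hy).comp (locSurjAt_of_epi e.hom y)) U ((kernel.ι g).app U t) hyU
        refine ⟨W, hW, hyW, q, ?_⟩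
        apply mono_app (kernel.ι g) W
        rw [app_res (kernel.ι g) hW t, ← hq]
        change (tw' ≫ kernel.ι g).app W q = _
        rw [htw']
      have hsurj := Groth.Agent.H5.Curve3.surjective_H1_of_locSurjAt k X hdim hM hKc tw' hloc'
      have hK1 : Subsingleton (Coh.HH X (kernel g) 1) :=
        ⟨fun a b => by
          obtain ⟨a', rfl⟩ := hsurj a
          obtain ⟨b', rfl⟩ := hsurj b
          rw [Subsingleton.elim a' b']⟩
      have hsurj0 : Function.Surjective (S.g.app ⊤) :=
        CL.surjective_app_top_of_injective hS (fun a b _ => hK1.elim a b)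
      obtain ⟨s', hs'⟩ := hsurj0 s
      rw [← hs']
      change π.app ⊤ (c.app ⊤ s') = 0
      rw [hc, cokernel_allSections_app_top, map_zero]
  exact Preadditive.epi_of_isZero_cokernel ψ hR0

include k in
/-- **Nakayama step**: under the hypotheses of `epi_twist_cokernel_allSections'`, the cokernel of
`allSections F` has zero stalk at every zero `x` of `σ`. -/
theorem subsingleton_stalk_cokernel_allSections' (hdim : topologicalKrullDim X ≤ 1)
    (M : X.Modules) (hM : Coh.IsCoh M) (hH1 : Subsingleton (Coh.HH X M 1))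
    (L : X.Modules) (hL : PicF.IsInvertible L) (σ : unitMod X ⟶ L)
    (hσ : ∀ y : X, ¬ IsClosed ({y} : Set X) → y ∈ CohB1.genLocus L σ)
    (x : X) (hσx : x ∉ CohB1.genLocus L σ)
    (F : X.Modules) (hF : Coh.IsCoh F) (e : CohB1.tensorMod M L ≅ F) :
    Subsingleton ((cokernel (allSections F)).presheaf.stalk x) := by
  haveI := hM.1
  haveI := hF.1
  haveI : L.IsQuasicoherent := qc_of_isInvertible L hL
  have hfree : (freeOn X (Γ(F, ⊤) : Type u)).IsQuasicoherent := qc_freeOn X _
  set Q := cokernel (allSections F) with hQdef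
  set c := cokernel.π (allSections F) with hc
  have hQc : Coh.IsCoh Q :=
    ⟨qc_cokernel (allSections F) hfree hF.1,
      Groth.Agent.H4.PCS6.isFiniteType_of_epi' c hF.2⟩
  haveI := hQc.1
  have hepi := epi_twist_cokernel_allSections' k X hdim M hM hH1 L hL σ hσ F hF e
  set ψ : M ⟶ Q := twistBy M σ ≫ e.hom ≫ c with hψ
  have hlocx : LocSurjAt ψ x := @locSurjAt_of_epi _ _ _ ψ hepi x
  obtain ⟨U, e₀, hxU, he⟩ := (isInvertible_iff_exists_isBasisOver L).mp hL x
  obtain ⟨h, hh⟩ := (he U le_rfl).2 (SecTwist.val σ U)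
  have hh' : h • e₀ = SecTwist.val σ U := by
    have := hh
    simp only [QC.res_self] at this
    exact this
  have hnu : ¬ IsUnit (X.presheaf.germ U x hxU h) := by
    intro hu
    apply hσx
    have hyb : x ∈ X.basicOpen h := (X.mem_basicOpen h x hxU).mpr hu
    have hble : X.basicOpen h ≤ U := X.basicOpen_le h
    have hunit : IsUnit (X.presheaf.map (homOfLE hble).op h) :=
      RingedSpace.isUnit_res_basicOpen X.toRingedSpace h
    have hb : IsBasisOver L (X.basicOpen h) (SecTwist.val σ (X.basicOpen h)) := by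
      have h1 := IsBasisOver.smul_unit (he.mono hble) _ hunit
      have h2 : X.presheaf.map (homOfLE hble).op h • L.presheaf.map (homOfLE hble).op e₀ =
          SecTwist.val σ (X.basicOpen h) := by
        rw [← smul_res, hh']
        exact SecTwist.map_val σ (homOfLE hble)
      rwa [h2] at h1
    exact ((le_genLocus_iff_isBasisOver L σ _).mpr hb) hyb
  have key : ∀ a : Q.presheaf.stalk x, ∃ b : Q.presheaf.stalk x,
      a = X.presheaf.germ U x hxU h • b := by
    intro a
    obtain ⟨V₀, hxV₀, q₀, rfl⟩ := TopCat.Presheaf.exists_germ_eq Q.presheaf a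
    set V : X.Opens := V₀ ⊓ U
    have hxV : x ∈ V := ⟨hxV₀, hxU⟩
    have hVU : V ≤ U := inf_le_right
    obtain ⟨q, hqdef⟩ : ∃ q : Γ(Q, V), q = Q.presheaf.map (homOfLE (inf_le_left : V ≤ V₀)).op q₀ :=
      ⟨_, rfl⟩
    have hq : Q.presheaf.germ V x hxV q = Q.presheaf.germ V₀ x hxV₀ q₀ := by
      rw [hqdef]; exact germ_res Q x inf_le_left hxV q₀
    rw [← hq]
    obtain ⟨W, hWV, hxW, m, hm⟩ := hlocx V q hxV
    have hWU : W ≤ U := hWV.trans hVU
    have h2 : L.presheaf.map (homOfLE hWU).op (SecTwist.val σ U) = SecTwist.val σ W :=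
      SecTwist.map_val σ (homOfLE hWU)
    have h1 : ψ.app W m = X.presheaf.map (homOfLE hWU).op h •
        c.app W (e.hom.app W (SecTwist.tmul M L W m (L.presheaf.map (homOfLE hWU).op e₀))) := by
      change c.app W (e.hom.app W ((twistBy M σ).app W m)) = _
      rw [twistBy_app, ← h2, ← hh', smul_res, tmul_smul_right]
      have e1 := Scheme.Modules.Hom.app_smul e.hom (X.presheaf.map (homOfLE hWU).op h)
        (SecTwist.tmul M L W m (L.presheaf.map (homOfLE hWU).op e₀))
      have e2 := Scheme.Modules.Hom.app_smul c (X.presheaf.map (homOfLE hWU).op h)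
        (e.hom.app W (SecTwist.tmul M L W m (L.presheaf.map (homOfLE hWU).op e₀)))
      exact (congrArg (c.app W) e1).trans e2
    refine ⟨Q.presheaf.germ W x hxW
      (c.app W (e.hom.app W (SecTwist.tmul M L W m (L.presheaf.map (homOfLE hWU).op e₀)))), ?_⟩
    rw [← germ_res Q x hWV hxW q, ← hm, h1, germ_smul, sgerm_res]
    rfl
  haveI : @Module.Finite (X.presheaf.stalk x) (Q.presheaf.stalk x) _ _ (QC.stalkModule Q x) :=
    Groth.Agent.H1.CohLen.finite_stalk Q hQc.2 x
  letI : Module (X.presheaf.stalk x) (Q.presheaf.stalk x) := QC.stalkModule Q x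
  have hle : (⊤ : Submodule (X.presheaf.stalk x) (Q.presheaf.stalk x)) ≤
      IsLocalRing.maximalIdeal (X.presheaf.stalk x) • ⊤ := by
    intro a _
    obtain ⟨b, rfl⟩ := key a
    exact Submodule.smul_mem_smul ((IsLocalRing.mem_maximalIdeal _).mpr hnu) Submodule.mem_top
  have hbot := Submodule.eq_bot_of_le_smul_of_le_jacobson_bot _ _ Module.Finite.fg_top hle
    (IsLocalRing.maximalIdeal_le_jacobson _)
  exact ⟨fun a b => by
    have ha : a ∈ (⊤ : Submodule (X.presheaf.stalk x) (Q.presheaf.stalk x)) := Submodule.mem_top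
    have hb : b ∈ (⊤ : Submodule (X.presheaf.stalk x) (Q.presheaf.stalk x)) := Submodule.mem_top
    rw [hbot] at ha hb
    rw [(Submodule.mem_bot _).mp ha, (Submodule.mem_bot _).mp hb]⟩

omit [IsProper (X ↘ Spec (CommRingCat.of k))] [X.Over (Spec (CommRingCat.of k))] in
/-- where some global section generates, the cokernel of `allSections` vanishes. -/
theorem subsingleton_stalk_cokernel_allSections_of_mem_genLocus (F : X.Modules)
    (τ : unitMod X ⟶ F) (x : X) (hx : x ∈ CohB1.genLocus F τ) :
    Subsingleton ((cokernel (allSections F)).presheaf.stalk x) := by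
  apply Groth.Agent.H5.Curve2.subsingleton_stalk_cokernel_of_locSurjAt
  have h1 : LocSurjAt τ x := Groth.Agent.H5.Curve2.locSurjAt_section τ x hx
  have h2 : LocSurjAt (homOfSection F (sectionOfHom τ)) x := by
    rw [homOfSection_sectionOfHom]; exact h1
  rw [← ιOn_allSections] at h2
  exact LocSurjAt.of_comp _ h2

include k in
/-- **Stacks 0E3B, global generation**: `M ⊗ L` is globally generated when `H¹(M) = 0`, `L` has a
regular section `σ` and `M` has a section generating it on the non-vanishing locus of `σ`. -/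
theorem isGloballyGenerated_tensorMod_of_regular_section (hdim : topologicalKrullDim X ≤ 1)
    (M : X.Modules) (hM : PicF.IsInvertible M) (hH1 : Subsingleton (Coh.HH X M 1))
    (L : X.Modules) (hL : PicF.IsInvertible L) (σ : unitMod X ⟶ L) [Mono σ]
    (μ : unitMod X ⟶ M) (hμ : CohB1.genLocus L σ ≤ CohB1.genLocus M μ) :
    Curv2.IsGloballyGenerated (CohB1.tensorMod M L) := by
  have hMc : Coh.IsCoh M := Groth.Agent.H5.Curve2.isCoh_of_isInvertible hM
  have hFinv : PicF.IsInvertible (CohB1.tensorMod M L) := isInvertible_tensorMod hM hL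
  have hFc : Coh.IsCoh (CohB1.tensorMod M L) := Groth.Agent.H5.Curve2.isCoh_of_isInvertible hFinv
  have hσ : ∀ y : X, ¬ IsClosed ({y} : Set X) → y ∈ CohB1.genLocus L σ :=
    fun y hy => mem_genLocus_of_not_isClosed hdim hL σ y hy
  rw [isGloballyGenerated_iff_allSections]
  apply Preadditive.epi_of_isZero_cokernel
  apply isZero_of_subsingleton_stalks
  intro x
  by_cases hx : x ∈ CohB1.genLocus L σ
  · apply subsingleton_stalk_cokernel_allSections_of_mem_genLocus X _ (SecTwist.tmulHom μ σ) x
    rw [genLocus_tmulHom hM hL]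
    exact ⟨hμ hx, hx⟩
  · exact subsingleton_stalk_cokernel_allSections' k X hdim M hMc hH1 L hL σ hσ x hx _ hFc
      (Iso.refl _)

include k in
/-- `H¹(M ⊗ L) = 0` when `H¹(M) = 0` and `L` has a regular section. -/
theorem subsingleton_H1_tensorMod_of_regular_section (hdim : topologicalKrullDim X ≤ 1)
    (M : X.Modules) (hM : PicF.IsInvertible M) (hH1 : Subsingleton (Coh.HH X M 1))
    (L : X.Modules) (hL : PicF.IsInvertible L) (σ : unitMod X ⟶ L) [Mono σ] :
    Subsingleton (Coh.HH X (CohB1.tensorMod M L) 1) := by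
  have hMc : Coh.IsCoh M := Groth.Agent.H5.Curve2.isCoh_of_isInvertible hM
  have hFinv : PicF.IsInvertible (CohB1.tensorMod M L) := isInvertible_tensorMod hM hL
  have hFc : Coh.IsCoh (CohB1.tensorMod M L) := Groth.Agent.H5.Curve2.isCoh_of_isInvertible hFinv
  have hloc : ∀ y : X, ¬ IsClosed ({y} : Set X) → LocSurjAt (twistBy M σ) y := by
    intro y hy U t hyU
    have hsub := subsingleton_stalk_cokernel_twistBy M σ y
      (mem_genLocus_of_not_isClosed hdim hL σ y hy)
    obtain ⟨W, hW, hyW, q, hq⟩ :=
      exists_germ_preimage_of_subsingleton_cokernel (twistBy M σ) y hsub U hyU t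
    exact ⟨W, hW, hyW, q, hq⟩
  have hsurj := Groth.Agent.H5.Curve3.surjective_H1_of_locSurjAt k X hdim hMc hFc (twistBy M σ) hloc
  exact ⟨fun a b => by
    obtain ⟨a', rfl⟩ := hsurj a
    obtain ⟨b', rfl⟩ := hsurj b
    rw [Subsingleton.elim a' b']⟩

include k in
/-- **Stacks 0E3B**: `L^{⊗2}` is globally generated with vanishing `H¹` when `L` has a regular
section and `H¹(L) = 0`. -/
theorem gg_and_H1_sq_of_regular_section (hdim : topologicalKrullDim X ≤ 1)
    (L : X.Modules) (hL : PicF.IsInvertible L) (σ : unitMod X ⟶ L) [Mono σ]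
    (h1 : Subsingleton (Coh.HH X L 1)) :
    Curv2.IsGloballyGenerated (CohB1.tensorPow L 2) ∧
      Subsingleton (Coh.HH X (CohB1.tensorPow L 2) 1) := by
  haveI : L.IsQuasicoherent := qc_of_isInvertible L hL
  have hM : PicF.IsInvertible (CohB1.tensorPow L 1) :=
    isInvertible_tensorMod (isInvertible_unit X) hL
  have hH1 : Subsingleton (Coh.HH X (CohB1.tensorPow L 1) 1) :=
    subsingleton_HH_of_iso (unitorL L) 1 h1
  exact ⟨isGloballyGenerated_tensorMod_of_regular_section k X hdim _ hM hH1 L hL σ
      (SecTwist.powHom σ 1) (le_genLocus_powHom hL σ 1),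
    subsingleton_H1_tensorMod_of_regular_section k X hdim _ hM hH1 L hL σ⟩

include k in
/-- **Stacks 0E3B**: `L^{⊗6}` is very ample when `L` is ample with a regular section and
`H¹(L) = 0`, on a proper scheme of dimension one over a field. -/
theorem veryAmple_six_of_regular_section (hdim : topologicalKrullDim X = 1)
    (L : X.Modules) (hL : PicF.IsInvertible L) (σ : unitMod X ⟶ L) [Mono σ]
    (h1 : Subsingleton (Coh.HH X L 1)) (hample : CohB1.IsAmple L) :
    ∃ (n : ℕ) (i : X ⟶ CohB1.ProjSpace n k), IsClosedImmersion i ∧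
      i ≫ CohB1.ProjSpace.toSpec n k = X ↘ (Spec (CommRingCat.of k)) ∧
      Nonempty ((Scheme.Modules.pullback i).obj (Twist.twistProjSpace n k 1) ≅
        CohB1.tensorPow L 6) := by
  obtain ⟨hgg, hH⟩ := gg_and_H1_sq_of_regular_section k X hdim.le L hL σ h1
  haveI : L.IsQuasicoherent := qc_of_isInvertible L hL
  have hA2 : CohB1.IsAmple (CohB1.tensorPow L 2) :=
    Groth.Agent.H5.IntN.isAmple_tensorPow hample 2 (by norm_num)
  haveI : (CohB1.tensorPow L 2).IsQuasicoherent := qc_of_isInvertible _ hA2.1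
  have hm : Subsingleton (Coh.HH X (CohB1.tensorPow (CohB1.tensorPow L 2) 1) 1) :=
    subsingleton_HH_of_iso (unitorL (CohB1.tensorPow L 2)) 1 hH
  obtain ⟨n, i, hi, hc, ⟨e⟩⟩ :=
    veryAmple_tensorPow_of_gg k X hdim (CohB1.tensorPow L 2) hA2 hgg 1 hm 3 (by norm_num)
  exact ⟨n, i, hi, hc, ⟨e ≪≫ powPowIso L 2 3⟩⟩

end main

end Groth.Agent.H5.SD
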