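import Mathlib
import Groth.Agent.Lib.Helper5.SD.CanReg
import Groth.Agent.Lib.Helper5.SD.CurveOmega
import Groth.Agent.Lib.Helper5.Gro.HypIff
import Groth.Agent.Lib.Helper5.Gro.Pi1D
import Groth.Agent.Lib.Helper5.Curve4.VB3
import Groth.Agent.Lib.Helper1.EtNhd

/-!
# S7812: curves of genus two are hyperelliptic.
-/

set_option autoImplicit false
set_option linter.style.haveILetI false
universe u
open CategoryTheory CategoryTheory.Limits AlgebraicGeometry TopologicalSpace Opposite

namespace Groth.Agent.H5.SD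

open Groth.Agent.LD Groth.Agent.LD.QC Groth.Agent.H5.Gro.P1C
open Groth.Agent.H5.Gro.HypDom Groth.Agent.H5.Gro.HypFF Groth.Agent.H5.Gro

variable (k : Type u) [Field k]

/-- a finite morphism from an integral curve to the line which is generically separable of
degree `d > 0` is flat of constant rank and étale on a nonempty open. -/
theorem flat_finrank_etale_of_cover (X : Scheme.{u}) [IsIntegral X]
    (hdX : topologicalKrullDim X = 1) (f₀ : X ⟶ CohB1.ProjSpace 1 k) (hfin : IsFinite f₀)
    (d : ℕ) (hd : 0 < d) (hdeg : f₀.residueDegree (genericPoint X) = d)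
    (hsep : letI := (f₀.residueFieldMap (genericPoint X)).hom.toAlgebra
      Algebra.IsSeparable ((CohB1.ProjSpace 1 k).residueField (f₀ (genericPoint X)))
        (X.residueField (genericPoint X))) :
    Flat f₀ ∧ (∀ y : ↥(CohB1.ProjSpace 1 k), Scheme.Hom.finrank f₀ y = d) ∧
      ∃ V : X.Opens, (V : Set X).Nonempty ∧ Etale (V.ι ≫ f₀) := by
  let f : X ⟶ PP k := f₀
  haveI : IsFinite f := hfin
  have hdeg' : f.residueDegree (genericPoint X) = d := hdeg
  haveI : IsIntegral (PP k) := inferInstanceAs (IsIntegral (P1 k))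
  have hgen : f (genericPoint X) = genericPoint (PP k) := by
    refine map_genericPoint_eq_of_isFinite f (by rw [hdX]) ?_
    have := Groth.Agent.H5.IntN.dim_projSpace k 1
    exact this.le
  haveI hflat : Flat f := flat_of_dedekind_charts f hgen (exists_dedekind_chart k)
  have hrk : ∀ y, f.finrank y = d := fun y => by
    obtain ⟨V, hV, hy, hP⟩ := exists_pid_chart k y
    rw [finrank_eq_residueDegree f hgen V hV hP y hy, hdeg']
  refine ⟨hflat, hrk, ?_⟩
  haveI : IsNoetherian (P1 k) := Groth.Agent.H5.Curve2.isNoetherian_of_proper k (P1 k)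
  haveI : IsLocallyNoetherian (PP k) := inferInstanceAs (IsLocallyNoetherian (P1 k))
  have hKf : IsField ((PP k).presheaf.stalk (f (genericPoint X))) :=
    isField_stalk_of_eq_genericPoint (f (genericPoint X)) hgen
  have hLf : IsField (X.presheaf.stalk (genericPoint X)) := Field.toIsField X.functionField
  have hmain := (Groth.Agent.H1.EtNhd.main f (genericPoint X)).mpr
    ⟨Flat.stalkMap f (genericPoint X), by
      rw [IsLocalRing.isField_iff_maximalIdeal_eq.mp hKf,
        IsLocalRing.isField_iff_maximalIdeal_eq.mp hLf, Ideal.map_bot], by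
      letI := (f.residueFieldMap (genericPoint X)).hom.toAlgebra
      refine ⟨?_, hsep⟩
      apply Module.finite_of_finrank_pos
      have : Module.finrank ((PP k).residueField (f (genericPoint X)))
          (X.residueField (genericPoint X)) = d := hdeg'
      rw [this]
      exact hd⟩
  obtain ⟨U, hxU, hU⟩ := hmain
  exact ⟨U, ⟨_, hxU⟩, hU⟩

/-- **S7812**: a smooth proper geometrically connected curve of genus two is a generically étale
double cover of the projective line. -/
theorem exists_double_cover_of_genus_two {C : Scheme.{u}}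
    (p : C ⟶ Spec (CommRingCat.of k)) [IsProper p] [Smooth p] [GeometricallyConnected p]
    (hC : topologicalKrullDim C = 1) (hg : @Curv2.genus k _ C ⟨p⟩ = 2) :
    ∃ f : C ⟶ CohB1.ProjSpace 1 k, f ≫ CohB1.ProjSpace.toSpec 1 k = p ∧ IsFinite f ∧ Flat f ∧
      (∀ y : ↥(CohB1.ProjSpace 1 k), Scheme.Hom.finrank f y = 2) ∧
      ∃ V : C.Opens, (V : Set C).Nonempty ∧ Etale (V.ι ≫ f) := by
  letI : C.Over (Spec (CommRingCat.of k)) := ⟨p⟩
  haveI : IsProper (C ↘ Spec (CommRingCat.of k)) := inferInstanceAs (IsProper p)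
  haveI : Smooth (C ↘ Spec (CommRingCat.of k)) := inferInstanceAs (Smooth p)
  haveI : GeometricallyConnected (C ↘ Spec (CommRingCat.of k)) :=
    inferInstanceAs (GeometricallyConnected p)
  haveI : GeometricallyReduced (C ↘ Spec (CommRingCat.of k)) :=
    Groth.Agent.H5.Gro.geometricallyReduced_of_smooth k _
  have h0 : Module.finrank k (Coh.HH C (Coh.structureModule C) 0) = 1 :=
    FF.finrank_HH0_eq_one k C
  haveI : IsIntegral C := Groth.Agent.H5.Curve4.isIntegral_of_smooth_geomConn k C
  have hreg : ∀ x : C, IsRegularLocalRing (C.presheaf.stalk x) :=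
    fun x => Groth.Agent.H5.Curve4.regular_stalks k C x
  obtain ⟨ω, t, hω, hd⟩ := exists_dualizing_curve k C hC
  have hinv := hd.isInvertible hω hC hreg
  have hg' : Curv2.genus k C = 2 := hg
  have hdeg : Curv2.deg k C ω 1 = 2 := by
    rw [hd.deg_eq hinv hC h0, hg']
    norm_num
  have hh0 : Module.finrank k (Coh.HH C ω 0) = 2 := by
    rw [hd.finrank_H0, hg']
  obtain ⟨f, hf, hfin, hrd, hsep⟩ :=
    Groth.Agent.H5.Gro.HypIff.exists_cover_of_invertible k C hC h0 (by rw [hg']; norm_num)
      ω hinv hdeg hh0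
  obtain ⟨h1, h2, h3⟩ := flat_finrank_etale_of_cover k C hC f hfin 2 (by norm_num) hrd hsep
  exact ⟨f, hf, hfin, h1, h2, h3⟩

end Groth.Agent.H5.SD
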