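import Mathlib
import Groth.Agent.Lib.Helper5.SD.H1Drop
import Groth.Agent.Lib.Helper5.Curve6.P1H1
import Groth.Agent.Lib.Helper9.Misc.TOR4

/-!
# S6544: a smooth geometrically irreducible curve of genus zero with an invertible module of odd
degree is the projective line.
-/

set_option autoImplicit false
set_option linter.style.haveILetI false
universe u
open CategoryTheory CategoryTheory.Limits AlgebraicGeometry TopologicalSpace Opposite

namespace Groth.Agent.H5.SD

open Groth.Agent.LD Groth.Agent.LD.QC Groth.Agent.H5.DegC Groth.Agent.LD.CL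
  Groth.Agent.H5.Curve6 Groth.Agent.H5.Snap Groth.Agent.H5.Glue

variable (k : Type u) [Field k] (X : Scheme.{u}) [X.Over (Spec (CommRingCat.of k))]
  [IsProper (X ↘ Spec (CommRingCat.of k))] [IsIntegral X]

/-- on a regular curve of genus zero with `h⁰(O) = 1`, an invertible module of odd degree can be
modified to one of degree one. -/
theorem exists_invertible_deg_one_of_odd (hdim : topologicalKrullDim X = 1)
    (hreg : ∀ x : X, IsRegularLocalRing (X.presheaf.stalk x))
    (h0 : Module.finrank k (Coh.HH X (Coh.structureModule X) 0) = 1)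
    (hg : Curv2.genus k X = 0) (L : X.Modules) (hL : PicF.IsInvertible L)
    (hodd : Odd (Curv2.deg k X L 1)) :
    ∃ M : X.Modules, PicF.IsInvertible M ∧ Curv2.deg k X M 1 = 1 := by
  haveI : IsNoetherian X := Groth.Agent.H5.Curve2.isNoetherian_of_proper k X
  obtain ⟨ω, t, hω, hd⟩ := exists_dualizing_curve k X hdim
  have hinv : PicF.IsInvertible ω := hd.isInvertible hω hdim hreg
  have hdω : Curv2.deg k X ω 1 = -2 := by
    rw [hd.deg_eq hinv hdim h0, hg]
    norm_num
  obtain ⟨ω', hω', ⟨eω⟩⟩ := Groth.Agent.H5.Glue.exists_inverse ω hinv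
  have hdω' : Curv2.deg k X ω' 1 = 2 := by
    have h2 := Groth.Agent.H5.Curve2.deg_tensor k X hdim.le hinv hω'
    rw [Curve.deg_iso k X eω 1, hdω] at h2
    have hO : Curv2.deg k X (unitMod X) 1 = 0 := Curve.deg_structureModule k X
    rw [hO] at h2
    linarith
  obtain ⟨m, hm⟩ := hodd
  rcases le_or_gt 0 m with hm0 | hm0
  · obtain ⟨n, rfl⟩ := Int.eq_ofNat_of_zero_le hm0
    refine ⟨CohB1.tensorMod L (CohB1.tensorPow ω n),
      isInvertible_tensorMod hL (isInvertible_tensorPow hinv n), ?_⟩
    rw [Groth.Agent.H5.Curve2.deg_tensor k X hdim.le hL (isInvertible_tensorPow hinv n),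
      Groth.Agent.H5.Curve2.deg_tensorPow k X hdim.le hinv n, hdω, hm]
    push_cast
    ring
  · obtain ⟨n, hn⟩ := Int.eq_ofNat_of_zero_le (by omega : 0 ≤ -m)
    refine ⟨CohB1.tensorMod L (CohB1.tensorPow ω' n),
      isInvertible_tensorMod hL (isInvertible_tensorPow hω' n), ?_⟩
    rw [Groth.Agent.H5.Curve2.deg_tensor k X hdim.le hL (isInvertible_tensorPow hω' n),
      Groth.Agent.H5.Curve2.deg_tensorPow k X hdim.le hω' n, hdω', hm]
    have : (n : ℤ) = -m := hn.symm
    rw [this]
    ring

/-- **S6544** (regular form). -/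
theorem exists_iso_P1_of_odd_deg (hdim : topologicalKrullDim X = 1)
    (hreg : ∀ x : X, IsRegularLocalRing (X.presheaf.stalk x))
    (h0 : Module.finrank k (Coh.HH X (Coh.structureModule X) 0) = 1)
    (hg : Curv2.genus k X = 0) (L : X.Modules) (hL : PicF.IsInvertible L)
    (hodd : Odd (Curv2.deg k X L 1)) :
    ∃ e : X ≅ CohB1.ProjSpace 1 k,
      e.hom ≫ CohB1.ProjSpace.toSpec 1 k = X ↘ Spec (CommRingCat.of k) := by
  haveI : IsNoetherian X := Groth.Agent.H5.Curve2.isNoetherian_of_proper k X
  obtain ⟨M, hM, hdM⟩ := exists_invertible_deg_one_of_odd k X hdim hreg h0 hg L hL hodd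
  have hOc : Coh.IsCoh (unitMod X) :=
    Groth.Agent.H5.Curve2.isCoh_of_isInvertible (isInvertible_unit X)
  haveI : Module.Finite k (Coh.HH X (Coh.structureModule X) 1) := Curve.finite_HH k X _ hOc 1
  have h1 : Subsingleton (Coh.HH X (Coh.structureModule X) 1) :=
    Module.finrank_zero_iff.mp hg
  exact exists_iso_P1_of_h1_zero_of_deg_one k X hdim h1 M hM hdM

end Groth.Agent.H5.SD
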