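import Mathlib
import Groth.Agent.Lib.Helper5.SD.PencilB
import Groth.Agent.Lib.Lead.QC.GlobGen2
import Groth.Agent.Lib.Lead.QC.AmpleIso
import Groth.Agent.Lib.Lead.QC.TwistEquiv
import Groth.Agent.Lib.Helper5.Glue.LS
import Groth.Agent.Lib.Helper5.Curve2.J

/-!
# Applications of the base-point-free pencil trick: S16322, S16319.
-/

set_option autoImplicit false
set_option linter.style.haveILetI false
universe u
open CategoryTheory CategoryTheory.Limits AlgebraicGeometry TopologicalSpace Opposite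

namespace Groth.Agent.H5.SD

open Groth.Agent.LD Groth.Agent.LD.QC Groth.Agent.LD.CL Groth.Agent.H5.Curve4
  Groth.Agent.H5.Glue

variable (k : Type u) [Field k] (X : Scheme.{u}) [X.Over (Spec (CommRingCat.of k))]
  [IsProper (X ↘ Spec (CommRingCat.of k))]

/-- a globally generated invertible module with `h⁰ = 2` is generated by two sections. -/
theorem exists_pencil_sections (L : X.Modules) (hL : PicF.IsInvertible L)
    (hgg : Curv2.IsGloballyGenerated L) (h0 : Module.finrank k (Coh.HH X L 0) = 2) :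
    ∃ s₁ s₂ : unitMod X ⟶ L, Epi (biprod.desc s₁ s₂) := by
  haveI : IsNoetherian X := Groth.Agent.H5.Curve2.isNoetherian_of_proper k X
  have hLc : Coh.IsCoh L := Groth.Agent.H5.Curve2.isCoh_of_isInvertible hL
  haveI := finite_hom_unit k X L hLc
  have hfr : Module.finrank k (unitMod X ⟶ L) = 2 := by
    rw [← finrank_H0_eq_finrank_hom k L]; exact h0
  let b := Module.finBasisOfFinrankEq k (unitMod X ⟶ L) hfr
  refine ⟨b 0, b 1, epi_of_locSurjAt _ (fun x => ?_)⟩
  obtain ⟨K, p, hp⟩ := hgg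
  obtain ⟨j, hj⟩ := exists_mem_genLocus_of_epi_free L hL p hp x
  set σ : unitMod X ⟶ L := SheafOfModules.ιFree (R := X.ringCatSheaf) j ≫ p with hσdef
  have hσ : σ = biprod.lift (b.repr σ 0 • 𝟙 (unitMod X)) (b.repr σ 1 • 𝟙 (unitMod X)) ≫
      biprod.desc (b 0) (b 1) := by
    rw [biprod.lift_desc, Linear.smul_comp, Linear.smul_comp, Category.id_comp, Category.id_comp]
    have := b.sum_repr σ
    rw [Fin.sum_univ_two] at this
    exact this.symm
  have h1 := Groth.Agent.H5.Curve2.locSurjAt_section σ x hj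
  rw [hσ] at h1
  exact LocSurjAt.of_comp _ h1

variable [Smooth (X ↘ Spec (CommRingCat.of k))] [IsIntegral X]

/-- **S16322** (general form). -/
theorem h0_tensor_two_pencils [IsAlgClosed k]
    (hdim : topologicalKrullDim X = 1) (hg : Curv2.genus k X = 9)
    (hmin : ∀ M : X.Modules, PicF.IsInvertible M → 2 ≤ Module.finrank k (Coh.HH X M 0) →
      2 ≤ Module.finrank k (Coh.HH X M 1) →
      2 * (Module.finrank k (Coh.HH X M 0) : ℤ) + 1 ≤ Curv2.deg k X M 1)
    (D₁ D₂ : X.Modules) (h₁ : PicF.IsInvertible D₁) (h₂ : PicF.IsInvertible D₂)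
    (hg₁ : Curv2.IsGloballyGenerated D₁)
    (hd₁ : Curv2.deg k X D₁ 1 = 5) (hd₂ : Curv2.deg k X D₂ 1 = 5)
    (h0₁ : Module.finrank k (Coh.HH X D₁ 0) = 2) (h0₂ : Module.finrank k (Coh.HH X D₂ 0) = 2)
    (hne : IsEmpty (D₁ ≅ D₂)) :
    Module.finrank k (Coh.HH X (CohB1.tensorMod D₁ D₂) 0) = 4 := by
  have h0 := Groth.Agent.H5.Curve3.finrank_HH0_eq_one_of_isAlgClosed k X
  have hT : PicF.IsInvertible (CohB1.tensorMod D₁ D₂) := isInvertible_tensorMod h₁ h₂
  have hdT := Groth.Agent.H5.Curve2.deg_tensor k X hdim.le h₁ h₂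
  rw [hd₁, hd₂] at hdT
  have rr := rr_invertible k X hdim h0 _ hT
  rw [hdT, hg] at rr
  push_cast at rr
  -- upper bound
  have hup : Module.finrank k (Coh.HH X (CohB1.tensorMod D₁ D₂) 0) ≤ 4 := by
    by_contra hcon
    have h5 : (5 : ℤ) ≤ Module.finrank k (Coh.HH X (CohB1.tensorMod D₁ D₂) 0) := by
      exact_mod_cast Nat.lt_of_not_le hcon
    have h1 : 2 ≤ Module.finrank k (Coh.HH X (CohB1.tensorMod D₁ D₂) 1) := by
      have h2 : (2 : ℤ) ≤ Module.finrank k (Coh.HH X (CohB1.tensorMod D₁ D₂) 1) := by linarith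
      exact_mod_cast h2
    have := hmin _ hT (by omega) h1
    rw [hdT] at this
    linarith
  -- lower bound
  obtain ⟨s₁, s₂, hp⟩ := exists_pencil_sections k X D₁ h₁ hg₁ h0₁
  have hpen := pencil_le k X hdim h₁ h₂ s₁ s₂ hp
  have hsub : Subsingleton (D₁ ⟶ D₂) := by
    refine ⟨fun a b => ?_⟩
    have hz : ∀ φ : D₁ ⟶ D₂, φ = 0 := by
      intro φ
      by_contra hφ
      haveI : IsIso φ := (Curve.deg_le_of_ne_zero k X hdim.le h₁ h₂ φ hφ).2 (by rw [hd₁, hd₂])
      exact hne.false (asIso φ)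
    rw [hz a, hz b]
  have hz : Module.finrank k (D₁ ⟶ D₂) = 0 := Module.finrank_zero_of_subsingleton
  rw [hz, h0₂, Groth.Agent.H5.Curve2.finrank_HH_iso k _ (tensorCommAll D₂ D₁) 0] at hpen
  omega

/-- **S16319** (general form). -/
theorem h0_diff_g27_g15 [IsAlgClosed k]
    (hdim : topologicalKrullDim X = 1) (hg : Curv2.genus k X = 9)
    (hmin : ∀ M : X.Modules, PicF.IsInvertible M → 2 ≤ Module.finrank k (Coh.HH X M 0) →
      2 ≤ Module.finrank k (Coh.HH X M 1) →
      2 * (Module.finrank k (Coh.HH X M 0) : ℤ) + 1 ≤ Curv2.deg k X M 1)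
    (H : X.Modules) (hH : PicF.IsInvertible H) (hdH : Curv2.deg k X H 1 = 7)
    (h0H : Module.finrank k (Coh.HH X H 0) = 3)
    (D : X.Modules) (hD : PicF.IsInvertible D) (hgD : Curv2.IsGloballyGenerated D)
    (hdD : Curv2.deg k X D 1 = 5) (h0D : Module.finrank k (Coh.HH X D 0) = 2)
    (N : X.Modules) (e : CohB1.tensorMod D N ≅ H) :
    Module.finrank k (Coh.HH X N 0) = 1 := by
  have h0 := Groth.Agent.H5.Curve3.finrank_HH0_eq_one_of_isAlgClosed k X
  obtain ⟨D', hD', ⟨eD⟩⟩ := Groth.Agent.H5.Glue.exists_inverse D hD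
  have hdD' := deg_of_inverse k X hdim hD hD' eD
  rw [hdD] at hdD'
  -- `N ≅ H ⊗ D'`
  let E := twEquiv D D' eD
  let eN : N ≅ CohB1.tensorMod H D' :=
    E.unitIso.app N ≪≫ tensorIso' (tensorCommAll N D ≪≫ e) (Iso.refl D')
  have hHD' : PicF.IsInvertible (CohB1.tensorMod H D') := isInvertible_tensorMod hH hD'
  have hN : PicF.IsInvertible N := isInvertible_of_iso eN.symm hHD'
  have hdN : Curv2.deg k X N 1 = 2 := by
    rw [Curve.deg_iso k X eN 1, Groth.Agent.H5.Curve2.deg_tensor k X hdim.le hH hD', hdH, hdD']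
    norm_num
  have rrN := rr_invertible k X hdim h0 _ hN
  rw [hdN, hg] at rrN
  push_cast at rrN
  -- `h⁰(N) ≤ 1`
  have hup : Module.finrank k (Coh.HH X N 0) ≤ 1 := by
    by_contra hcon
    have h2 : (2 : ℤ) ≤ Module.finrank k (Coh.HH X N 0) := by
      exact_mod_cast Nat.lt_of_not_le hcon
    have h1 : 2 ≤ Module.finrank k (Coh.HH X N 1) := by
      have h3 : (2 : ℤ) ≤ Module.finrank k (Coh.HH X N 1) := by linarith
      exact_mod_cast h3
    have := hmin _ hN (by omega) h1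
    rw [hdN] at this
    linarith
  -- `h⁰(H ⊗ D) ≤ 5`
  have hT : PicF.IsInvertible (CohB1.tensorMod H D) := isInvertible_tensorMod hH hD
  have hdT := Groth.Agent.H5.Curve2.deg_tensor k X hdim.le hH hD
  rw [hdH, hdD] at hdT
  have rrT := rr_invertible k X hdim h0 _ hT
  rw [hdT, hg] at rrT
  push_cast at rrT
  have hupT : Module.finrank k (Coh.HH X (CohB1.tensorMod H D) 0) ≤ 5 := by
    by_contra hcon
    have h6 : (6 : ℤ) ≤ Module.finrank k (Coh.HH X (CohB1.tensorMod H D) 0) := by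
      exact_mod_cast Nat.lt_of_not_le hcon
    have h1 : 2 ≤ Module.finrank k (Coh.HH X (CohB1.tensorMod H D) 1) := by
      have h3 : (2 : ℤ) ≤ Module.finrank k (Coh.HH X (CohB1.tensorMod H D) 1) := by linarith
      exact_mod_cast h3
    have := hmin _ hT (by omega) h1
    rw [hdT] at this
    linarith
  -- the pencil trick
  obtain ⟨s₁, s₂, hp⟩ := exists_pencil_sections k X D hD hgD h0D
  have hpen := pencil_le k X hdim hD hH s₁ s₂ hp
  have hhom : Module.finrank k (D ⟶ H) = Module.finrank k (Coh.HH X N 0) := by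
    rw [Groth.Agent.H5.Curve2.finrank_HH_iso k _ eN 0,
      finrank_H0_eq_finrank_hom k (CohB1.tensorMod H D')]
    exact (twistHomEquiv k eD H).finrank_eq
  rw [hhom, h0H] at hpen
  omega

end Groth.Agent.H5.SD
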