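import Mathlib
import Groth.Agent.Lib.Helper5.SD.PencilB
import Groth.Agent.Lib.Helper5.SD.SepPts

/-!
# Twisting down by a "point divisor" given by a section: one step.
-/

set_option autoImplicit false
set_option linter.style.haveILetI false
universe u
open CategoryTheory CategoryTheory.Limits AlgebraicGeometry TopologicalSpace Opposite

namespace Groth.Agent.H5.SD

open Groth.Agent.LD Groth.Agent.LD.QC Groth.Agent.LD.CL Groth.Agent.H5.Curve4

section General
variable {X : Scheme.{u}}

/-- if `s' ≫ φ` generates `M` at `x` (with `L` invertible) then `s'` generates `L` at `x`. -/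
theorem mem_genLocus_of_comp {L M : X.Modules} (hL : PicF.IsInvertible L)
    (s' : unitMod X ⟶ L) (φ : L ⟶ M) (x : X)
    (hx : x ∈ CohB1.genLocus M (s' ≫ φ)) : x ∈ CohB1.genLocus L s' := by
  obtain ⟨U, hxU, hU⟩ := (mem_genLocus_iff M (s' ≫ φ) x).mp hx
  obtain ⟨U', e, hxU', he⟩ := (isInvertible_iff_exists_isBasisOver L).mp hL x
  rw [mem_genLocus_iff]
  refine ⟨U ⊓ U', ⟨hxU, hxU'⟩, ?_⟩
  have heW := he.mono (inf_le_right : U ⊓ U' ≤ U')
  have hUW := hU.mono (inf_le_left : U ⊓ U' ≤ U)
  rw [val_res, val_comp] at hUW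
  set W := U ⊓ U' with hW
  set eW := L.presheaf.map (homOfLE (inf_le_right : U ⊓ U' ≤ U')).op e with heWdef
  -- `val s' W = a • eW`
  obtain ⟨a, ha⟩ := (heW W le_rfl).2 (SecTwist.val s' W)
  have ha' : SecTwist.val s' W = a • eW := by
    rw [← ha]
    have : L.presheaf.map (homOfLE (le_refl W)).op = 𝟙 _ := L.presheaf.map_id _
    rw [this]; rfl
  -- `φ eW = b • φ (val s' W)`
  obtain ⟨b, hb⟩ := (hUW W le_rfl).2 (φ.app W eW)
  have hb' : φ.app W eW = b • φ.app W (SecTwist.val s' W) := by
    rw [← hb]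
    have : M.presheaf.map (homOfLE (le_refl W)).op = 𝟙 _ := M.presheaf.map_id _
    rw [this]; rfl
  have h1 : φ.app W (SecTwist.val s' W) = a • φ.app W eW := by
    rw [ha']
    exact Scheme.Modules.Hom.app_smul φ a eW
  have h2 : (a * b) • φ.app W (SecTwist.val s' W) = (1 : Γ(X, W)) • φ.app W (SecTwist.val s' W) := by
    rw [one_smul, mul_smul, ← hb', ← h1]
  have h3 : a * b = 1 := by
    have := (hUW W le_rfl).1
    apply this
    have hid : M.presheaf.map (homOfLE (le_refl W)).op = 𝟙 _ := M.presheaf.map_id _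
    change (a * b) • _ = (1 : Γ(X, W)) • _
    rw [hid]
    exact h2
  rw [ha']
  exact (heW.smul_iff a).mpr (IsUnit.of_mul_eq_one b h3)

/-- a section generating somewhere on an integral scheme is nonzero. -/
theorem ne_zero_of_mem_genLocus [IsIntegral X] {L : X.Modules} (s : unitMod X ⟶ L) (z : X)
    (hz : z ∈ CohB1.genLocus L s) : s ≠ 0 := by
  rintro rfl
  obtain ⟨U, hzU, hU⟩ := (mem_genLocus_iff L (0 : unitMod X ⟶ L) z).mp hz
  haveI : Nonempty U := ⟨⟨z, hzU⟩⟩
  have hinj := (hU U le_rfl).1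
  have h01 : (0 : Γ(X, U)) = 1 := by
    apply hinj
    have hv : SecTwist.val (0 : unitMod X ⟶ L) U = 0 := rfl
    have key : ∀ a : Γ(X, U),
        a • (L.presheaf.map (homOfLE (le_refl U)).op (SecTwist.val (0 : unitMod X ⟶ L) U)) = 0 := by
      intro a
      have h00 : L.presheaf.map (homOfLE (le_refl U)).op (SecTwist.val (0 : unitMod X ⟶ L) U) = 0 := by
        rw [hv]; exact map_zero _
      rw [h00]; exact smul_zero a
    exact (key 0).trans (key 1).symm
  exact zero_ne_one h01

end General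

variable (k : Type u) [Field k] (X : Scheme.{u}) [X.Over (Spec (CommRingCat.of k))]
  [IsProper (X ↘ Spec (CommRingCat.of k))] [IsIntegral X]

/-- one step of twisting down: if `s'` is a nonzero section of `L'` not generating at `y`,
`P'` is an inverse of `L'` of degree `-1`, and some section of `M` generates at `y`, then
`h⁰(M ⊗ P') = h⁰(M) - 1`, and `H¹` stays zero. -/
theorem step_twist_down (hdim : topologicalKrullDim X = 1)
    (h0 : Module.finrank k (Coh.HH X (Coh.structureModule X) 0) = 1)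
    {M L' P' : X.Modules} (hM : PicF.IsInvertible M) (hL' : PicF.IsInvertible L')
    (hP' : PicF.IsInvertible P')
    (e : CohB1.tensorMod L' P' ≅ unitMod X) (s' : unitMod X ⟶ L') (hs' : s' ≠ 0)
    (s : unitMod X ⟶ M)
    (y : X) (hy : y ∈ CohB1.genLocus M s) (hy' : y ∉ CohB1.genLocus L' s')
    (hdeg : Curv2.deg k X P' 1 = -1)
    (hH1 : Subsingleton (Coh.HH X M 1)) :
    Module.finrank k (Coh.HH X (CohB1.tensorMod M P') 0) + 1 =
      Module.finrank k (Coh.HH X M 0) ∧
    Subsingleton (Coh.HH X (CohB1.tensorMod M P') 1) := by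
  haveI : IsNoetherian X := Groth.Agent.H5.Curve2.isNoetherian_of_proper k X
  haveI : M.IsQuasicoherent := qc_of_isInvertible _ hM
  haveI : L'.IsQuasicoherent := qc_of_isInvertible _ hL'
  haveI : P'.IsQuasicoherent := qc_of_isInvertible _ hP'
  have hMP : PicF.IsInvertible (CohB1.tensorMod M P') := isInvertible_tensorMod hM hP'
  have hMc : Coh.IsCoh M := Groth.Agent.H5.Curve2.isCoh_of_isInvertible hM
  have hMPc : Coh.IsCoh (CohB1.tensorMod M P') := Groth.Agent.H5.Curve2.isCoh_of_isInvertible hMP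
  haveI : Module.Finite k (unitMod X ⟶ M) := finite_hom_unit k X M hMc
  haveI : Module.Finite k (unitMod X ⟶ CohB1.tensorMod M P') := finite_hom_unit k X _ hMPc
  haveI : Module.Finite k (L' ⟶ M) := Module.Finite.equiv (twistHomEquiv k e M).symm
  let Λ : (L' ⟶ M) →ₗ[k] (unitMod X ⟶ M) := Linear.leftComp k M s'
  have hinj : Function.Injective Λ := by
    rw [← LinearMap.ker_eq_bot, LinearMap.ker_eq_bot']
    intro φ hφ
    have hφ0 : s' ≫ φ = 0 := hφ
    by_contra hne
    haveI := Groth.Agent.LD.Curve.mono_of_ne_zero hL' hM φ hne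
    exact hs' (by rw [← cancel_mono φ, hφ0, zero_comp])
  have hnot : s ∉ LinearMap.range Λ := by
    rintro ⟨φ, hφ⟩
    have hφ' : s' ≫ φ = s := hφ
    exact hy' (mem_genLocus_of_comp hL' s' φ y (hφ' ▸ hy))
  have hlt : Module.finrank k (L' ⟶ M) < Module.finrank k (unitMod X ⟶ M) := by
    rw [← LinearMap.finrank_range_of_inj hinj]
    apply Submodule.finrank_lt
    intro htop
    exact hnot (htop ▸ Submodule.mem_top)
  have h4 : Module.finrank k (L' ⟶ M) =
      Module.finrank k (Coh.HH X (CohB1.tensorMod M P') 0) := by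
    rw [finrank_H0_eq_finrank_hom k (CohB1.tensorMod M P')]
    exact (twistHomEquiv k e M).finrank_eq
  rw [← finrank_H0_eq_finrank_hom k M, h4] at hlt
  have rr1 := rr_invertible k X hdim h0 M hM
  have rr2 := rr_invertible k X hdim h0 _ hMP
  rw [Groth.Agent.H5.Curve2.deg_tensor k X hdim.le hM hP', hdeg] at rr2
  have z1 : Module.finrank k (Coh.HH X M 1) = 0 := Module.finrank_zero_of_subsingleton
  rw [z1] at rr1
  haveI := Curve.finite_HH k X _ hMPc 1
  have hz : Module.finrank k (Coh.HH X (CohB1.tensorMod M P') 1) = 0 := by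
    push_cast at rr1 rr2
    omega
  refine ⟨by push_cast at rr1 rr2; omega, ?_⟩
  exact Module.finrank_zero_iff.mp hz

end Groth.Agent.H5.SD
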