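import Mathlib
import Groth.Agent.Lib.Helper5.SD.SepBCa
import Groth.Agent.Lib.Helper5.SD.GGvb
import Groth.Agent.Lib.Lead.FBC.EulerBC
import Groth.Agent.Lib.Lead.QC.PullInv
import Groth.Agent.Lib.Helper1.RatSmooth
import Groth.Agent.Lib.Helper9.Misc.TOR4
import Groth.Agent.Lib.Helper3.FBaseDim
import Groth.Agent.Lib.Lead.FF.H0Const

/-!
# S6487: twisting an invertible module on `X_K` by invertible modules from `X`
(`k` separably closed) to get `h⁰ = 1`, `h¹ = 0`.
-/

set_option autoImplicit false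
set_option linter.style.haveILetI false
universe u
open CategoryTheory CategoryTheory.Limits AlgebraicGeometry TopologicalSpace Opposite

namespace Groth.Agent.H5.SD

open Groth.Agent.LD Groth.Agent.LD.QC Groth.Agent.LD.CL Groth.Agent.H5.Curve4
  Groth.Agent.H5.Curve6 Groth.Agent.H5.Glue

section BC

variable (k : Type u) [Field k] (K : Type u) [Field K] [Algebra k K]
  (X Y : Scheme.{u}) [X.Over (Spec (CommRingCat.of k))] [Y.Over (Spec (CommRingCat.of K))]
  (g : Y ⟶ X)
  (hpb : IsPullback g (Y ↘ Spec (CommRingCat.of K)) (X ↘ Spec (CommRingCat.of k))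
    (Spec.map (CommRingCat.ofHom (algebraMap k K))))

include hpb in
theorem euler_pb [CompactSpace X] [QuasiSeparatedSpace X] (F : X.Modules) [F.IsQuasicoherent] :
    Curv2.euler K Y ((Scheme.Modules.pullback g).obj F) = Curv2.euler k X F := by
  unfold Curv2.euler
  congr 1
  funext i
  rw [Groth.Agent.LD.FBC.finrank_HH_bc k K X Y g hpb F i]

include hpb in
theorem deg_pb [CompactSpace X] [QuasiSeparatedSpace X] (E : X.Modules) [E.IsQuasicoherent]
    (n : ℕ) :
    Curv2.deg K Y ((Scheme.Modules.pullback g).obj E) n = Curv2.deg k X E n := by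
  unfold Curv2.deg
  have h1 := euler_pb k K X Y g hpb E
  haveI : (unitMod X).IsQuasicoherent := qc_of_isInvertible _ (isInvertible_unit X)
  have h2 := euler_pb k K X Y g hpb (unitMod X)
  have h3 : Curv2.euler K Y (Coh.structureModule Y) =
      Curv2.euler K Y ((Scheme.Modules.pullback g).obj (unitMod X)) :=
    (Groth.Agent.LD.FBC.euler_congr K (pullbackUnitIso g)).symm
  rw [h3, h1, h2]

end BC

section Pts

variable (k : Type u) [Field k] (X : Scheme.{u}) [X.Over (Spec (CommRingCat.of k))]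
  [IsProper (X ↘ Spec (CommRingCat.of k))] [IsIntegral X]

/-- rational points with their twisting data are dense on a smooth proper curve over a
separably closed field. -/
theorem exists_rational_point_twist_data [IsSepClosed k] [Smooth (X ↘ Spec (CommRingCat.of k))]
    (hdim : topologicalKrullDim X = 1) (U : X.Opens) (hU : (U : Set X).Nonempty) :
    ∃ (x : X) (L P : X.Modules) (σ : unitMod X ⟶ L), x ∈ U ∧ IsClosed ({x} : Set X) ∧
      PicF.IsInvertible L ∧ PicF.IsInvertible P ∧
      Nonempty (CohB1.tensorMod P L ≅ unitMod X) ∧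
      (∀ y : X, y ≠ x → y ∈ CohB1.genLocus L σ) ∧ x ∉ CohB1.genLocus L σ ∧
      Curv2.deg k X P 1 = -1 ∧ Curv2.deg k X L 1 = 1 := by
  obtain ⟨σ₀, hσ₀, hmem⟩ := exists_rational_point_mem k X U hU
  haveI : IsClosedImmersion σ₀ := isClosedImmersion_of_comp_eq_id _ σ₀ hσ₀
  have hr : Set.range σ₀ = {σ₀ default} := Set.range_unique
  have hp : IsClosed ({σ₀ default} : Set X) := hr ▸ σ₀.isClosedEmbedding.isClosed_range
  have hker : σ₀.ker = Scheme.IdealSheafData.vanishingIdeal ⟨{σ₀ default}, hp⟩ :=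
    (ker_eq_vI_of_rational k X σ₀).trans
      (congrArg Scheme.IdealSheafData.vanishingIdeal (Closeds.ext hp.closure_eq))
  have hq : Module.finrank k (Coh.HH X (ClSub.quotMod σ₀.ker) 0) = 1 :=
    finrank_H0_quotMod_ker_of_rational k X σ₀ hσ₀
  obtain ⟨L, P, σ, hL, hP, e, h1, h2, h3, h4⟩ :=
    exists_point_twist_data k X hdim (σ₀ default) hp (regular_stalks k X _)
  refine ⟨σ₀ default, L, P, σ, hmem, hp, hL, hP, e, h1, h2, ?_, ?_⟩
  · rw [h3, ← hker, hq]
    rfl
  · rw [h4, ← hker, hq]
    rfl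

end Pts

section Main

variable (k : Type u) [Field k] (K : Type u) [Field K] [Algebra k K]
  (X Y : Scheme.{u}) [X.Over (Spec (CommRingCat.of k))] [Y.Over (Spec (CommRingCat.of K))]
  (g : Y ⟶ X)
  (hpb : IsPullback g (Y ↘ Spec (CommRingCat.of K)) (X ↘ Spec (CommRingCat.of k))
    (Spec.map (CommRingCat.ofHom (algebraMap k K))))
  [IsProper (X ↘ Spec (CommRingCat.of k))] [IsIntegral X]
  [IsProper (Y ↘ Spec (CommRingCat.of K))] [IsIntegral Y]

include hpb in
/-- twisting down by pullbacks of rational points of `X` until `h⁰ = 1`, keeping `h¹ = 0`. -/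
theorem exists_twist_down [IsSepClosed k] [Smooth (X ↘ Spec (CommRingCat.of k))]
    (hdimX : topologicalKrullDim X = 1) (hdimY : topologicalKrullDim Y = 1)
    (h0Y : Module.finrank K (Coh.HH Y (Coh.structureModule Y) 0) = 1)
    (hopen : IsOpenMap g.base) (hsurj : Function.Surjective g.base) :
    ∀ (n : ℕ) (M : Y.Modules), PicF.IsInvertible M →
      Module.finrank K (Coh.HH Y M 0) = n + 1 → Module.finrank K (Coh.HH Y M 1) = 0 →
      ∃ L₀ : X.Modules, PicF.IsInvertible L₀ ∧
        Module.finrank K (Coh.HH Y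
          (CohB1.tensorMod M ((Scheme.Modules.pullback g).obj L₀)) 0) = 1 ∧
        Module.finrank K (Coh.HH Y
          (CohB1.tensorMod M ((Scheme.Modules.pullback g).obj L₀)) 1) = 0 := by
  haveI : IsNoetherian X := Groth.Agent.H5.Curve2.isNoetherian_of_proper k X
  haveI : IsNoetherian Y := Groth.Agent.H5.Curve2.isNoetherian_of_proper K Y
  intro n
  induction n with
  | zero =>
    intro M hM h0 h1
    haveI : M.IsQuasicoherent := qc_of_isInvertible _ hM
    refine ⟨unitMod X, isInvertible_unit X, ?_, ?_⟩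
    · rw [Groth.Agent.H5.Curve2.finrank_HH_iso K _
        (tensorIso' (Iso.refl M) (pullbackUnitIso g) ≪≫ SecTwist.unitorR M) 0, h0]
    · rw [Groth.Agent.H5.Curve2.finrank_HH_iso K _
        (tensorIso' (Iso.refl M) (pullbackUnitIso g) ≪≫ SecTwist.unitorR M) 1, h1]
  | succ n ih =>
    intro M hM h0 h1
    haveI : M.IsQuasicoherent := qc_of_isInvertible _ hM
    have hMc : Coh.IsCoh M := Groth.Agent.H5.Curve2.isCoh_of_isInvertible hM
    obtain ⟨s, hs⟩ := exists_section_ne_zero K Y M (by omega)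
    have hη : genericPoint Y ∈ CohB1.genLocus M s := genericPoint_mem_genLocus Y hM s hs
    let V : X.Opens := ⟨g.base '' (CohB1.genLocus M s : Set Y), hopen _ (CohB1.genLocus M s).2⟩
    have hV : (V : Set X).Nonempty := ⟨g.base (genericPoint Y), genericPoint Y, hη, rfl⟩
    obtain ⟨x, L, P, σ, hxV, hxc, hL, hP, ⟨e₀⟩, hgen, hngen, hdegP, -⟩ :=
      exists_rational_point_twist_data k X hdimX V hV
    obtain ⟨y, hy, hyx⟩ := hxV
    haveI : L.IsQuasicoherent := qc_of_isInvertible _ hL
    haveI : P.IsQuasicoherent := qc_of_isInvertible _ hP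
    let L' := (Scheme.Modules.pullback g).obj L
    let P' := (Scheme.Modules.pullback g).obj P
    have hL' : PicF.IsInvertible L' := isInvertible_pullback g hL
    have hP' : PicF.IsInvertible P' := isInvertible_pullback g hP
    let s' : unitMod Y ⟶ L' := pbHom g σ
    have hgl : CohB1.genLocus L' s' = g ⁻¹ᵁ CohB1.genLocus L σ := genLocus_pbHom g hL σ
    have hy' : y ∉ CohB1.genLocus L' s' := by
      rw [hgl]
      intro hmem
      apply hngen
      have : g.base y ∈ CohB1.genLocus L σ := hmem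
      rwa [hyx] at this
    have hs' : s' ≠ 0 := by
      -- a point of `X` different from `x`
      have hex : ∃ x' : X, x' ≠ x := by
        by_contra hcon
        push_neg at hcon
        haveI : Subsingleton X := ⟨fun a b => (hcon a).trans (hcon b).symm⟩
        have := topologicalKrullDim_zero_of_discreteTopology X
        rw [hdimX] at this
        exact absurd this (by norm_num)
      obtain ⟨x', hx'⟩ := hex
      obtain ⟨z, hz⟩ := hsurj x'
      apply ne_zero_of_mem_genLocus s' z
      rw [hgl]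
      change g.base z ∈ CohB1.genLocus L σ
      rw [hz]
      exact hgen x' hx'
    let e : CohB1.tensorMod L' P' ≅ unitMod Y :=
      (pbTensorIso g L P hL hP).symm ≪≫
        (Scheme.Modules.pullback g).mapIso (tensorCommAll L P ≪≫ e₀) ≪≫ pullbackUnitIso g
    have hdeg : Curv2.deg K Y P' 1 = -1 := by
      haveI : CompactSpace X := Curve.compactSpace k X
      haveI : QuasiSeparatedSpace X := Curve.quasiSeparatedSpace k X
      rw [deg_pb k K X Y g hpb P 1, hdegP]
    haveI := Curve.finite_HH K Y _ hMc 1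
    have hH1 : Subsingleton (Coh.HH Y M 1) := Module.finrank_zero_iff.mp h1
    obtain ⟨hstep0, hstep1⟩ := step_twist_down K Y hdimY h0Y hM hL' hP' e s' hs' s y hy hy'
      hdeg hH1
    have hMP : PicF.IsInvertible (CohB1.tensorMod M P') := isInvertible_tensorMod hM hP'
    haveI : P'.IsQuasicoherent := qc_of_isInvertible _ hP'
    obtain ⟨L₀', hL₀', hr0, hr1⟩ := ih (CohB1.tensorMod M P') hMP (by omega)
      (Module.finrank_zero_of_subsingleton)
    haveI : L₀'.IsQuasicoherent := qc_of_isInvertible _ hL₀'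
    let G' := (Scheme.Modules.pullback g).obj L₀'
    have hG' : PicF.IsInvertible G' := isInvertible_pullback g hL₀'
    haveI : G'.IsQuasicoherent := qc_of_isInvertible _ hG'
    let ι : CohB1.tensorMod M ((Scheme.Modules.pullback g).obj (CohB1.tensorMod P L₀')) ≅
        CohB1.tensorMod (CohB1.tensorMod M P') G' :=
      tensorIso' (Iso.refl M) (pbTensorIso g P L₀' hP hL₀') ≪≫ (tensorAssoc M P' G').symm
    refine ⟨CohB1.tensorMod P L₀', isInvertible_tensorMod hP hL₀', ?_, ?_⟩
    · rw [Groth.Agent.H5.Curve2.finrank_HH_iso K _ ι 0]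
      exact hr0
    · rw [Groth.Agent.H5.Curve2.finrank_HH_iso K _ ι 1]
      exact hr1

end Main

section Final

variable (k : Type u) [Field k] (K : Type u) [Field K] [Algebra k K]
  (X Y : Scheme.{u}) [X.Over (Spec (CommRingCat.of k))] [Y.Over (Spec (CommRingCat.of K))]
  (g : Y ⟶ X)
  (hpb : IsPullback g (Y ↘ Spec (CommRingCat.of K)) (X ↘ Spec (CommRingCat.of k))
    (Spec.map (CommRingCat.ofHom (algebraMap k K))))
  [IsProper (X ↘ Spec (CommRingCat.of k))] [IsIntegral X]

attribute [local instance] Curv2.resAlgebra in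
include hpb in
/-- **S6487**. -/
theorem exists_twist_h0_eq_one_h1_eq_zero [IsSepClosed k]
    [Smooth (X ↘ Spec (CommRingCat.of k))] (hdimX : topologicalKrullDim X = 1)
    (L : Y.Modules) (hL : PicF.IsInvertible L) :
    ∃ L₀ : X.Modules, PicF.IsInvertible L₀ ∧
      Module.finrank K (Coh.HH Y
        (CohB1.tensorMod L ((Scheme.Modules.pullback g).obj L₀)) 0) = 1 ∧
      Subsingleton (Coh.HH Y (CohB1.tensorMod L ((Scheme.Modules.pullback g).obj L₀)) 1) := by
  haveI : IsNoetherian X := Groth.Agent.H5.Curve2.isNoetherian_of_proper k X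
  haveI : CompactSpace X := Curve.compactSpace k X
  haveI : QuasiSeparatedSpace X := Curve.quasiSeparatedSpace k X
  -- `Y` is a smooth proper curve over `K`
  haveI : IsProper (Y ↘ Spec (CommRingCat.of K)) :=
    MorphismProperty.of_isPullback hpb (inferInstance : IsProper (X ↘ Spec (CommRingCat.of k)))
  haveI : Smooth (Y ↘ Spec (CommRingCat.of K)) :=
    MorphismProperty.of_isPullback hpb (inferInstance : Smooth (X ↘ Spec (CommRingCat.of k)))
  -- `X` is geometrically integral
  haveI : GeometricallyIntegral (X ↘ Spec (CommRingCat.of k)) := by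
    have hd := Groth.Agent.H6.SepDense.s1550 k X
    obtain ⟨x, -, -, -, hsep⟩ := hd.inter_open_nonempty _ isOpen_univ ⟨genericPoint X, trivial⟩
    haveI := hsep
    have hsurj : Function.Surjective (Curv2.resMap k X x) :=
      IsSepClosed.algebraMap_surjective k (X.residueField x)
    have hsm : (X ↘ Spec (CommRingCat.of k)).smoothLocus = ⊤ :=
      Scheme.Hom.smoothLocus_eq_top_iff.mpr inferInstance
    exact Groth.Agent.H1.RatSmooth.s7613 k X x hsurj (hsm ▸ trivial)
  haveI : GeometricallyIntegral (Y ↘ Spec (CommRingCat.of K)) :=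
    MorphismProperty.of_isPullback hpb
      (inferInstance : GeometricallyIntegral (X ↘ Spec (CommRingCat.of k)))
  haveI : IsIntegral Y :=
    GeometricallyIntegral.isIntegral_of_subsingleton (f := Y ↘ Spec (CommRingCat.of K))
  haveI : GeometricallyConnected (Y ↘ Spec (CommRingCat.of K)) :=
    Groth.Agent.H9.TOR.geometricallyConnected_of_geometricallyIrreducible _
  haveI : IsNoetherian Y := Groth.Agent.H5.Curve2.isNoetherian_of_proper K Y
  have hdimY : topologicalKrullDim Y = 1 := by
    rw [Groth.Agent.H3.FBaseDim.dim_of_isPullback_field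
      (CommRingCat.ofHom (algebraMap k K)) (X ↘ Spec (CommRingCat.of k))
      (Y ↘ Spec (CommRingCat.of K)) g hpb, hdimX]
  have h0Y : Module.finrank K (Coh.HH Y (Coh.structureModule Y) 0) = 1 :=
    Groth.Agent.LD.FF.finrank_HH0_eq_one K Y
  have hopen : IsOpenMap g.base := by
    haveI := Groth.Agent.H1.FibDimBC.universallyOpen_of_isPullback_field
      (CommRingCat.ofHom (algebraMap k K)) (X ↘ Spec (CommRingCat.of k))
      (Y ↘ Spec (CommRingCat.of K)) g hpb
    exact g.isOpenMap
  have hsurj : Function.Surjective g.base := by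
    haveI : Surjective (Spec.map (CommRingCat.ofHom (algebraMap k K))) :=
      ⟨fun x => ⟨default, Subsingleton.elim _ _⟩⟩
    haveI : Surjective g := MorphismProperty.of_isPullback hpb.flip
      (inferInstance : Surjective (Spec.map (CommRingCat.ofHom (algebraMap k K))))
    exact g.surjective
  haveI : L.IsQuasicoherent := qc_of_isInvertible _ hL
  -- twist up
  obtain ⟨x, L₁, P₁, σ, -, -, hL₁, hP₁, -, -, -, -, hdegL₁⟩ :=
    exists_rational_point_twist_data k X hdimX ⊤ ⟨genericPoint X, trivial⟩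
  haveI : L₁.IsQuasicoherent := qc_of_isInvertible _ hL₁
  let m : ℕ := 2 * Curv2.genus K Y + (Curv2.deg K Y L 1).natAbs + 1
  have hA : PicF.IsInvertible (CohB1.tensorPow L₁ m) := isInvertible_tensorPow hL₁ m
  haveI : (CohB1.tensorPow L₁ m).IsQuasicoherent := qc_of_isInvertible _ hA
  let A' := (Scheme.Modules.pullback g).obj (CohB1.tensorPow L₁ m)
  have hA' : PicF.IsInvertible A' := isInvertible_pullback g hA
  haveI : A'.IsQuasicoherent := qc_of_isInvertible _ hA'
  let M₀ := CohB1.tensorMod L A'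
  have hM₀ : PicF.IsInvertible M₀ := isInvertible_tensorMod hL hA'
  have hdegA' : Curv2.deg K Y A' 1 = m := by
    rw [deg_pb k K X Y g hpb _ 1, Groth.Agent.H5.Curve2.deg_tensorPow k X hdimX.le hL₁ m, hdegL₁,
      mul_one]
  have hdegM₀ : Curv2.deg K Y M₀ 1 = Curv2.deg K Y L 1 + m := by
    rw [Groth.Agent.H5.Curve2.deg_tensor K Y hdimY.le hL hA', hdegA']
  have habs : -(((Curv2.deg K Y L 1).natAbs : ℕ) : ℤ) ≤ Curv2.deg K Y L 1 := by
    omega
  have hm : (m : ℤ) = 2 * (Curv2.genus K Y : ℤ) + ((Curv2.deg K Y L 1).natAbs : ℤ) + 1 := by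
    simp only [m]; push_cast; ring
  have hbig : 2 * (Curv2.genus K Y : ℤ) - 2 < Curv2.deg K Y M₀ 1 := by
    rw [hdegM₀, hm]; omega
  have hh0 := finrank_H0_of_deg_gt K Y hdimY h0Y M₀ hM₀ hbig
  have rr := rr_invertible K Y hdimY h0Y M₀ hM₀
  have hh1 : Module.finrank K (Coh.HH Y M₀ 1) = 0 := by
    omega
  obtain ⟨n, hn⟩ : ∃ n : ℕ, Module.finrank K (Coh.HH Y M₀ 0) = n + 1 := by
    refine ⟨Module.finrank K (Coh.HH Y M₀ 0) - 1, ?_⟩
    have : (1 : ℤ) ≤ Module.finrank K (Coh.HH Y M₀ 0) := by
      rw [hh0, hdegM₀, hm]; omega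
    omega
  obtain ⟨L₀', hL₀', hr0, hr1⟩ := exists_twist_down k K X Y g hpb hdimX hdimY h0Y hopen hsurj
    n M₀ hM₀ hn hh1
  haveI : L₀'.IsQuasicoherent := qc_of_isInvertible _ hL₀'
  let G' := (Scheme.Modules.pullback g).obj L₀'
  have hG' : PicF.IsInvertible G' := isInvertible_pullback g hL₀'
  haveI : G'.IsQuasicoherent := qc_of_isInvertible _ hG'
  let ι : CohB1.tensorMod L ((Scheme.Modules.pullback g).obj
        (CohB1.tensorMod (CohB1.tensorPow L₁ m) L₀')) ≅ CohB1.tensorMod M₀ G' :=
    tensorIso' (Iso.refl L) (pbTensorIso g _ L₀' hA hL₀') ≪≫ (tensorAssoc L A' G').symm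
  have hfin : PicF.IsInvertible (CohB1.tensorMod M₀ G') := isInvertible_tensorMod hM₀ hG'
  refine ⟨CohB1.tensorMod (CohB1.tensorPow L₁ m) L₀', isInvertible_tensorMod hA hL₀', ?_, ?_⟩
  · rw [Groth.Agent.H5.Curve2.finrank_HH_iso K _ ι 0]
    exact hr0
  · have hz : Module.finrank K (Coh.HH Y (CohB1.tensorMod L ((Scheme.Modules.pullback g).obj
        (CohB1.tensorMod (CohB1.tensorPow L₁ m) L₀'))) 1) = 0 := by
      rw [Groth.Agent.H5.Curve2.finrank_HH_iso K _ ι 1]
      exact hr1
    have hc : Coh.IsCoh (CohB1.tensorMod L ((Scheme.Modules.pullback g).obj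
        (CohB1.tensorMod (CohB1.tensorPow L₁ m) L₀'))) :=
      Groth.Agent.H5.Curve2.isCoh_of_isInvertible
        (isInvertible_tensorMod hL (isInvertible_pullback g (isInvertible_tensorMod hA hL₀')))
    haveI := Curve.finite_HH K Y _ hc 1
    exact Module.finrank_zero_iff.mp hz

end Final

end Groth.Agent.H5.SD
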